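import Groth.Agent.Lib.CubeField.Fin
import Groth.Agent.S0002

/-!
# Finiteness of `H¹` of invertible modules on proper schemes
-/

universe u

namespace Groth.Agent.CubeField

/-- `H¹` of invertible modules on proper schemes over Noetherian rings is finite. -/
theorem finH1 : FinH1.{u} :=
  finH1_of_finite fun A _ _ X _ _ M hM n => Groth.Agent.S0002.result A X M hM n

end Groth.Agent.CubeField
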