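import Groth.Agent.Lib.CubeField.MulSurj
import Groth.Agent.Lib.AbRigid.Epi
import Groth.Agent.Lib.AbRigid.FlatFibre

/-!
# Consequences of the surjectivity of multiplication by `n`
-/

universe u

open CategoryTheory Limits MonoidalCategory CartesianMonoidalCategory AlgebraicGeometry TopologicalSpace

set_option linter.style.haveILetI false
set_option backward.isDefEq.respectTransparency false

open scoped MonObj GrpObj

namespace Groth.Agent.CubeField

variable {k : Type u} [Field k] {A B : Over (Spec (CommRingCat.of k))} [GrpObj A] [IsProper A.hom]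
  [GeometricallyIntegral A.hom] [GrpObj B]

omit [IsProper A.hom] [GeometricallyIntegral A.hom] in
theorem pow_comp_hom {C : Over (Spec (CommRingCat.of k))} (g : C ⟶ A) (f : A ⟶ B) [IsMonHom f] (n : ℕ) :
    (g ^ n) ≫ f = (g ≫ f) ^ n := by
  induction n with
  | zero => rw [pow_zero, pow_zero, MonObj.one_comp]
  | succ n ih => rw [pow_succ, pow_succ, MonObj.mul_comp, ih]

theorem isFinite_surjective_zpow (hfin : FinH1.{u}) {d : ℤ} (hd : d ≠ 0) :
    IsFinite (𝟙 A ^ d).left ∧ Surjective (𝟙 A ^ d).left := by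
  obtain ⟨n, rfl | rfl⟩ := d.eq_nat_or_neg
  · rw [zpow_natCast]
    exact isFinite_surjective_pow hfin (by omega)
  · rw [zpow_neg, zpow_natCast]
    obtain ⟨h1, h2⟩ := isFinite_surjective_pow (A := A) hfin (n := n) (by omega)
    have e : ((𝟙 A ^ n)⁻¹ : A ⟶ A) = (𝟙 A ^ n) ≫ ι[A] := Hom.inv_def _
    haveI : IsIso (ι[A] : A ⟶ A).left :=
      ((Over.forget _).mapIso (asIso (ι[A] : A ⟶ A))).isIso_hom
    rw [e, Over.comp_left]
    exact ⟨inferInstance, inferInstance⟩

theorem eq_of_pow_comp_eq (hfin : FinH1.{u}) {n : ℕ} (hn : 1 ≤ n) {C : Over (Spec (CommRingCat.of k))}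
    [IsSeparated C.hom] (f g : A ⟶ C) (h : (𝟙 A ^ n) ≫ f = (𝟙 A ^ n) ≫ g) : f = g := by
  obtain ⟨h1, h2⟩ := isFinite_surjective_pow (A := A) hfin hn
  haveI : IsIntegral A.left := GeometricallyIntegral.isIntegral_of_subsingleton A.hom
  have hker : (𝟙 A ^ n).left.ker = ⊥ := Scheme.IdealSheafData.support_eq_top_iff.1 (by
    ext x
    rw [Scheme.Hom.support_ker]
    simpa using subset_closure ((𝟙 A ^ n).left.surjective x))
  ext1
  exact AbRigid.eq_of_comp_eq_of_ker_eq_bot (𝟙 A ^ n).left hker C.hom f.left g.left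
    ((Over.w f).trans (Over.w g).symm) (by rw [← Over.comp_left, ← Over.comp_left, h])

/-- Homomorphisms out of an abelian variety have no torsion. -/
theorem eq_one_of_zpow_eq_one (hfin : FinH1.{u}) [IsSeparated B.hom] (f : A ⟶ B) [IsMonHom f] {d : ℤ} (hd : d ≠ 0)
    (h : f ^ d = 1) : f = 1 := by
  have h' : f ^ d.natAbs = 1 := by
    rcases d.natAbs_eq with e | e
    · rwa [e, zpow_natCast] at h
    · rwa [e, zpow_neg, zpow_natCast, inv_eq_one] at h
  refine eq_of_pow_comp_eq hfin (n := d.natAbs) (by omega) f 1 ?_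
  rw [pow_comp_hom, Category.id_comp, h', MonObj.comp_one]

omit [IsProper A.hom] [GeometricallyIntegral A.hom] in
theorem zpow_comp_hom {C : Over (Spec (CommRingCat.of k))} (g : C ⟶ A) (f : A ⟶ B) [IsMonHom f] (d : ℤ) :
    (g ^ d) ≫ f = (g ≫ f) ^ d := by
  obtain ⟨n, rfl | rfl⟩ := d.eq_nat_or_neg
  · rw [zpow_natCast, zpow_natCast, pow_comp_hom]
  · rw [zpow_neg, zpow_neg, zpow_natCast, zpow_natCast, GrpObj.inv_comp, pow_comp_hom]

/-- A homomorphism with `f ≫ g = [d]` for an isogeny `g` is an isogeny with `g ≫ f = [d]`. -/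
theorem isogeny_of_comp (hfin : FinH1.{u}) [IsProper B.hom] [GeometricallyIntegral B.hom] (f : A ⟶ B) [IsMonHom f]
    (g : B ⟶ A) [IsMonHom g] [IsFinite g.left] [Surjective g.left] {d : ℤ} (hd : d ≠ 0) (h : f ≫ g = 𝟙 A ^ d) :
    IsFinite f.left ∧ Flat f.left ∧ Surjective f.left ∧ g ≫ f = 𝟙 B ^ d := by
  haveI : IsIntegral A.left := GeometricallyIntegral.isIntegral_of_subsingleton A.hom
  haveI : IsIntegral B.left := GeometricallyIntegral.isIntegral_of_subsingleton B.hom
  obtain ⟨h1, h2⟩ := isFinite_surjective_zpow (A := A) hfin hd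
  haveI : IsFinite f.left := by
    haveI : IsFinite (f.left ≫ g.left) := by rw [← Over.comp_left, h]; exact h1
    exact IsFinite.of_comp f.left g.left
  haveI : Surjective f.left :=
    AbRigid.surjective_of_isFinite A B f (AbRigid.dim_eq_of_isFinite_of_surjective B A g).symm
  refine ⟨inferInstance, AbRigid.flat_of_surjective A B f, inferInstance, ?_⟩
  have hker : f.left.ker = ⊥ := Scheme.IdealSheafData.support_eq_top_iff.1 (by
    ext x
    rw [Scheme.Hom.support_ker]
    simpa using subset_closure (f.left.surjective x))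
  ext1
  refine AbRigid.eq_of_comp_eq_of_ker_eq_bot f.left hker B.hom _ _ ((Over.w _).trans (Over.w _).symm) ?_
  rw [← Over.comp_left, ← Over.comp_left, ← Category.assoc, h, zpow_comp_hom, GrpObj.comp_zpow,
    Category.id_comp, Category.comp_id]

end Groth.Agent.CubeField
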