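import Groth.Agent.Lib.SecDiv18.AffCompl
import Groth.Agent.Lib.SecDiv18.Basic
import Groth.Agent.Lib.Ample18.Ample
import Groth.Agent.Lib.TensorMod.IdealMod
import Groth.Agent.Lib.SmoothReg17.Basic
import Groth.Agent.Lib.RegLoc.UFD

/-!
# The complement of an effective Cartier divisor is a non-vanishing locus
-/

universe u

open CategoryTheory Limits AlgebraicGeometry TopologicalSpace Opposite

set_option linter.style.haveILetI false
set_option backward.isDefEq.respectTransparency false

namespace Groth.Agent.CubeField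

open Amp

open Groth.Agent.M2 (tsec IsGenerator res)

variable {X : Scheme.{u}}

/-- The inverse of the ideal of an effective Cartier divisor has a section vanishing exactly on the divisor. -/
theorem exists_inverse_section_of_effCartier {I : X.IdealSheafData} (hI : BlowUp.IsEffCartierIdeal I) :
    ∃ N : X.Modules, PicF.IsInvertible N ∧
      Nonempty (CohB1.tensorMod (ClSub.idealMod I) N ≅ Coh.structureModule X) ∧
      ∃ s : Coh.structureModule X ⟶ N, (CohB1.genLocus N s : Set X) = (I.support : Set X)ᶜ := by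
  have hD := M2.isInvertible_idealMod I hI
  obtain ⟨N, hN, ⟨e⟩⟩ := M2.exists_inverse hD
  let τ := M2.tensorMap (ClSub.idealModι I) (𝟙 N)
  let s : Coh.structureModule X ⟶ N := (e.inv ≫ τ) ≫ (M2.tensorLUnit N).hom
  refine ⟨N, hN, ⟨e⟩, s, ?_⟩
  ext x
  rw [SetLike.mem_coe, Set.mem_compl_iff, SetLike.mem_coe, genLocus_comp_iso (M2.tensorLUnit N),
    mem_genLocus_iff (M2.isInvertible_tensor (PicLoc.isInvertible_structureModule X) hN)]
  obtain ⟨U, hxU, f, hf, hIU⟩ := hI x
  obtain ⟨a, ha⟩ : f ∈ Set.range (M2.idealIncl I (U := U.1)) := by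
    rw [M2.range_idealIncl, hIU]; exact Ideal.subset_span rfl
  obtain ⟨V, g', hxV, hVU, -, hg'⟩ := exists_isGenerator hN (V := U.1) (x := x) hxU
  let a' : Γ(ClSub.idealMod I, V) := res _ hVU a
  have hsupp : x ∈ I.support ↔ x ∉ X.basicOpen f := by
    rw [Scheme.IdealSheafData.mem_support_iff_of_mem hxU, hIU, Scheme.zeroLocus_span, X.zeroLocus_singleton]
    rfl
  let z := gm (CohB1.tensorMod (ClSub.idealMod I) N) x hxV (tsec _ N a' g')
  have hz : Gen z := (gen_tsec_iff hD hN hxV _ _).mpr
    ⟨gen_of_isGenerator (isGenerator_res hVU (M2.isGenerator_idealMod I f hf hIU a ha)) hxV,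
      gen_of_isGenerator hg' hxV⟩
  let z' := gm (CohB1.tensorMod (Coh.structureModule X) N) x hxV (tsec _ N (M1.one V) g')
  have hz' : Gen z' := (gen_tsec_iff (PicLoc.isInvertible_structureModule X) hN hxV _ _).mpr
    ⟨gen_one x hxV, gen_of_isGenerator hg' hxV⟩
  let φ := M2.stMap ((M2.pmF X).map τ) x
  have hφ : φ z = X.presheaf.germ U.1 x hxU f • z' := by
    refine (M2.stMap_sg ((M2.pmF X).map τ) hxV _).trans ?_
    change gm _ x hxV (τ.app V (tsec _ N a' g')) = _
    rw [M2.tensorMap_tsec]
    have h1 : (ClSub.idealModι I).app V a' =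
        X.presheaf.map (homOfLE hVU).op f • M1.one V := by
      refine (M2.idealIncl_res I hVU a).trans ?_
      rw [ha]
      exact (mul_one _).symm
    rw [h1]
    erw [M2.tsec_smul_left]
    rw [gm_smul, ← TopCat.Presheaf.germ_res_apply X.presheaf (homOfLE hVU) x hxV f]
    rfl
  have hu : Gen (gm (CohB1.tensorMod (ClSub.idealMod I) N) x (U := ⊤) trivial (gval e.inv)) :=
    (gen_map_iso e.symm (U := ⊤) trivial (M1.one ⊤)).mpr (gen_one x (U := ⊤) trivial)
  obtain ⟨r, hr⟩ := hz.2 (gm (CohB1.tensorMod (ClSub.idealMod I) N) x (U := ⊤) trivial (gval e.inv))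
  have hr' : IsUnit r := (hz.ne_zero_smul r).mp (by rw [← hr] at hu; exact hu)
  have hs : gm (CohB1.tensorMod (Coh.structureModule X) N) x (U := ⊤) trivial (gval (e.inv ≫ τ)) =
      (r * X.presheaf.germ U.1 x hxU f) • z' := by
    have h2 : φ (gm (CohB1.tensorMod (ClSub.idealMod I) N) x (U := ⊤) trivial (gval e.inv)) =
        gm (CohB1.tensorMod (Coh.structureModule X) N) x (U := ⊤) trivial (gval (e.inv ≫ τ)) :=
      M2.stMap_sg ((M2.pmF X).map τ) _ _
    rw [← h2, ← hr, map_smul, mul_smul]
    exact congrArg (r • ·) hφ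
  rw [hs, hz'.ne_zero_smul, IsUnit.mul_iff, and_iff_right hr', ← Scheme.mem_basicOpen X f x hxU, hsupp, not_not]

theorem exists_section_of_effCartier {I : X.IdealSheafData} (hI : BlowUp.IsEffCartierIdeal I) :
    ∃ N : X.Modules, PicF.IsInvertible N ∧ ∃ s : Coh.structureModule X ⟶ N,
      (CohB1.genLocus N s : Set X) = (I.support : Set X)ᶜ :=
  let ⟨N, hN, _, h⟩ := exists_inverse_section_of_effCartier hI
  ⟨N, hN, h⟩

/-- On a smooth separated variety every dense affine open is a non-vanishing locus. -/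
theorem exists_section_compl_affine {k : Type u} [Field k] (p : X ⟶ Spec (CommRingCat.of k)) [Smooth p]
    [IsSeparated p] [QuasiCompact p] (U : X.Opens) (hU : IsAffineOpen U) (hdense : Dense (U : Set X)) :
    ∃ N : X.Modules, PicF.IsInvertible N ∧ ∃ s : Coh.structureModule X ⟶ N, CohB1.genLocus N s = U := by
  haveI : IsLocallyNoetherian X := LocallyOfFiniteType.isLocallyNoetherian p
  haveI : CompactSpace X := QuasiCompact.compactSpace_of_compactSpace p
  haveI : X.IsSeparated := ⟨by rw [← Limits.terminal.comp_from p]; infer_instance⟩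
  haveI : IsNoetherian X := {}
  obtain ⟨I, hI, hsupp⟩ := SecDiv.exists_effCartier_compl (fun V W hV hW => hV.inf hW) U hU hdense fun x _ => by
    haveI := SmoothReg17.isRegularLocalRing_stalk p x
    haveI := RegLoc.isDomain (X.presheaf.stalk x)
    exact ⟨inferInstance, RegLoc.ufd_of_isRegularLocalRing _⟩
  obtain ⟨N, hN, s, hs⟩ := exists_section_of_effCartier hI
  exact ⟨N, hN, s, Opens.ext (by rw [hs, hsupp, compl_compl])⟩

end Groth.Agent.CubeField
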