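import Groth.Agent.Lib.CubeField.AmpleAV
import Groth.Agent.Lib.CubeField.DivSection
import Groth.Agent.Lib.CubeField.FinInst
import Groth.Agent.S17806
import Groth.Agent.S2328
import Mathlib.AlgebraicGeometry.Group.Smooth

/-!
# Symmetric ample invertible modules on abelian varieties
-/

universe u

open CategoryTheory Limits AlgebraicGeometry MonoidalCategory CartesianMonoidalCategory MonObj
open scoped GrpObj

set_option backward.isDefEq.respectTransparency false

namespace Groth.Agent.CubeField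

variable {k : Type u} [Field k] (A : Over (Spec (CommRingCat.of k))) [GrpObj A] [IsProper A.hom]
  [GeometricallyIntegral A.hom]

/-- An abelian variety has an ample invertible module. -/
theorem exists_isAmple : ∃ L : A.left.Modules, CohB1.IsAmple L := by
  haveI : Smooth A.hom :=
    @smooth_of_grpObj k _ _ A.hom _ (show GrpObj (Over.mk A.hom) from ‹GrpObj A›) _
  haveI : IsIntegral A.left := GeometricallyIntegral.isIntegral_of_subsingleton A.hom
  obtain ⟨x⟩ : Nonempty A.left := inferInstance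
  obtain ⟨U, hU, hxU, -⟩ := exists_isAffineOpen_mem_and_subset (X := A.left) (x := x) (U := ⊤) trivial
  obtain ⟨N, hN, s, hs⟩ := exists_section_compl_affine A.hom U hU (U.isOpen.dense ⟨x, hxU⟩)
  exact ⟨N, isAmple_of_affine_genLocus finH1 hN s (hs ▸ hU) (hs ▸ ⟨x, hxU⟩)⟩

/-- An abelian variety has a symmetric ample invertible module. -/
theorem exists_isAmple_symmetric : ∃ L : A.left.Modules, CohB1.IsAmple L ∧
    Nonempty (L ≅ (Scheme.Modules.pullback ((𝟙 A)⁻¹).left).obj L) := by
  obtain ⟨N, hN⟩ := exists_isAmple A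
  let σ : A.left ⟶ A.left := ((𝟙 A)⁻¹).left
  have hσ : σ ≫ σ = 𝟙 _ := by
    show ((𝟙 A)⁻¹).left ≫ ((𝟙 A)⁻¹).left = _
    rw [← Over.comp_left, GrpObj.comp_inv, Category.comp_id, inv_inv]
    rfl
  haveI : IsIso σ := ⟨⟨σ, hσ, hσ⟩⟩
  haveI : A.left.IsSeparated := ⟨by
    rw [show terminal.from A.left = A.hom ≫ terminal.from _ from Subsingleton.elim _ _]; infer_instance⟩
  have hN' : CohB1.IsAmple ((Scheme.Modules.pullback σ).obj N) :=
    Groth.Agent.S17806.result k A.hom A.hom σ (Over.w ((𝟙 A)⁻¹)) N hN.1 hN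
  haveI := hN.2.1
  refine ⟨CohB1.tensorMod N ((Scheme.Modules.pullback σ).obj N),
    Groth.Agent.S2328.result A.left _ _ hN hN'.1 (fun x => ?_), ⟨?_⟩⟩
  · obtain ⟨n, s, hx, -⟩ := hN'.2.2 x
    exact ⟨n, s, hx⟩
  · exact M2.tensorComm _ _ ≪≫ M2.tensorIso (Iso.refl _) (((Scheme.Modules.pullbackId A.left).app N).symm ≪≫
      (Scheme.Modules.pullbackCongr hσ.symm).app N ≪≫ ((Scheme.Modules.pullbackComp σ σ).app N).symm) ≪≫
      (M2.pullTensorIso σ _ _).symm

end Groth.Agent.CubeField
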