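import Groth.Agent.Lib.CubeField.Square
import Groth.Agent.Lib.CubeField.DivSection
import Groth.Agent.Lib.AbRigid.Isogeny
import Groth.Agent.Lib.RedSep.Basic
import Mathlib.AlgebraicGeometry.Group.Smooth
import Mathlib.AlgebraicGeometry.ZariskisMainTheorem
import Mathlib.AlgebraicGeometry.Morphisms.QuasiFinite
import Mathlib.Topology.NoetherianSpace

/-!
# Multiplication by `n` on an abelian variety is finite and surjective
-/

universe u

open CategoryTheory Limits MonoidalCategory CartesianMonoidalCategory AlgebraicGeometry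
  TopologicalSpace Opposite

set_option linter.style.haveILetI false
set_option backward.isDefEq.respectTransparency false

open scoped MonObj GrpObj

namespace Groth.Agent.CubeField

noncomputable local instance instLawY (Y : Scheme.{u}) : PicGrp.Law Y := M2.law Y

/-- A morphism from a reduced scheme with image a closed point factors through the residue field. -/
theorem exists_factor_closedPoint {B A : Scheme.{u}} [AlgebraicGeometry.IsReduced B] (g : B ⟶ A) {b : A}
    (hb : IsClosed ({b} : Set A)) (h : ∀ x, g x = b) :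
    ∃ t : B ⟶ Spec (A.residueField b), t ≫ A.fromSpecResidueField b = g := by
  let j := A.fromSpecResidueField b
  haveI : IsClosedImmersion j :=
    .of_isPreimmersion _ (by rw [Scheme.range_fromSpecResidueField]; exact hb)
  let p := pullback.fst g j
  haveI : Surjective p := ⟨fun x => by
    have hx : x ∈ Set.range p := by
      rw [Scheme.Pullback.range_fst, Set.mem_preimage, Scheme.range_fromSpecResidueField, h x]
      exact Set.mem_singleton b
    exact hx⟩
  haveI : IsIso p := by
    rw [IsClosedImmersion.isIso_iff_ker_eq_bot]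
    exact Scheme.IdealSheafData.support_eq_top_iff.1 (by
      ext x
      rw [Scheme.Hom.support_ker]
      simpa using subset_closure (p.surjective x))
  exact ⟨inv p ≫ pullback.snd g j, by
    rw [Category.assoc, ← pullback.condition, IsIso.inv_hom_id_assoc]⟩

theorem genLocus_structure_eq_basicOpen {X : Scheme.{u}} (s : Coh.structureModule X ⟶ Coh.structureModule X) :
    CohB1.genLocus _ s = X.basicOpen (show Γ(X, ⊤) from Amp.gval s) :=
  Amp.genLocus_eq_of_forall (PicLoc.isInvertible_structureModule X) s _ fun x =>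
    Amp.gen_smul_one_iff (X := X) (U := ⊤) trivial (show Γ(X, ⊤) from Amp.gval s)

theorem pow_cube_eq_one {G : Type*} [CommGroup G] {l m : G} (n : ℕ)
    (h1 : l ^ (n * (n + 1) / 2) * m ^ (n * (n - 1) / 2) = 1)
    (h2 : l ^ (2 * n * (2 * n + 1) / 2) * m ^ (2 * n * (2 * n - 1) / 2) = 1) : l ^ (n ^ 3) = 1 := by
  obtain ⟨a, ha⟩ := Nat.even_mul_succ_self n
  rcases n with _ | k
  · simp
  · have eb : (k + 1) * (k + 1 - 1) / 2 = a - (k + 1) ∧ (k + 1) ≤ a := by
      constructor
      · rw [Nat.add_sub_cancel]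
        rw [show (k + 1) * k = (a - (k + 1)) * 2 by ring_nf; ring_nf at ha; omega]; omega
      · nlinarith
    obtain ⟨b, rfl⟩ := Nat.exists_eq_add_of_le eb.2
    rw [Nat.add_sub_cancel_left] at eb
    have e0 : (k + 1) * (k + 1 + 1) / 2 = k + 1 + b := by omega
    have e1 : 2 * (k + 1) * (2 * (k + 1) + 1) / 2 + (k + 1) = 4 * (k + 1 + b) := by
      rw [mul_assoc 2 (k + 1), Nat.mul_div_cancel_left _ two_pos]
      ring_nf; ring_nf at ha; omega
    have e2 : 2 * (k + 1) * (2 * (k + 1) - 1) / 2 = 4 * b + (k + 1) := by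
      rw [mul_assoc 2 (k + 1), Nat.mul_div_cancel_left _ two_pos, show 2 * (k + 1) - 1 = 2 * k + 1 by omega]
      ring_nf; ring_nf at ha; omega
    rw [e0, eb.1] at h1
    have h3 : m ^ (k + 1) = l ^ (k + 1) := by
      have h4 : (l ^ (k + 1 + b) * m ^ b) ^ 4 * m ^ (k + 1) = l ^ (k + 1) := by
        rw [mul_pow, ← pow_mul, ← pow_mul, mul_comm (k + 1 + b) 4, ← e1, pow_add, mul_comm b 4, mul_right_comm _ (l ^ (k + 1)),
          mul_right_comm _ (l ^ (k + 1)), mul_assoc _ (m ^ (4 * b)), ← pow_add, ← e2, h2, one_mul]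
      rwa [h1, one_pow, one_mul] at h4
    have h5 := congrArg (· ^ (k + 1)) h1
    simp only [mul_pow, one_pow] at h5
    rw [← pow_mul, ← pow_mul, mul_comm b (k + 1), pow_mul m, h3, ← pow_mul, ← pow_add] at h5
    have e3 : (k + 1 + b) * (k + 1) + (k + 1) * b = (k + 1) ^ 3 := by
      have hk : (k + 1) + 2 * b = (k + 1) ^ 2 := by nlinarith
      rw [pow_succ, ← hk]; ring
    rwa [e3] at h5

variable {k : Type u} [Field k] {A : Over (Spec (CommRingCat.of k))} [GrpObj A] [IsProper A.hom]
  [GeometricallyIntegral A.hom]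

/-- Points in a fibre of multiplication by `n` over a closed point are closed. -/
theorem isClosed_singleton_of_pow (hfin : FinH1.{u}) {n : ℕ} (hn : 1 ≤ n) {x : A.left}
    (hb : IsClosed ({(𝟙 A ^ n).left x} : Set A.left)) : IsClosed ({x} : Set A.left) := by
  set b := (𝟙 A ^ n).left x with hbdef
  haveI : Smooth A.hom :=
    @smooth_of_grpObj k _ _ A.hom _ (show GrpObj (Over.mk A.hom) from ‹GrpObj A›) _
  haveI : IsIntegral A.left := GeometricallyIntegral.isIntegral_of_subsingleton A.hom
  obtain ⟨U, hU, hxU, -⟩ := exists_isAffineOpen_mem_and_subset (X := A.left) (x := x) (U := ⊤) trivial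
  obtain ⟨N, hN, s, hs⟩ := exists_section_compl_affine A.hom U hU (U.isOpen.dense ⟨x, hxU⟩)
  let Zc : Closeds A.left := ⟨closure {x}, isClosed_closure⟩
  let I := Scheme.IdealSheafData.vanishingIdeal Zc
  haveI : AlgebraicGeometry.IsReduced I.subscheme := RedSepLib.isReduced_vanishingIdeal_subscheme Zc
  have hrange : Set.range I.subschemeι = closure {x} := by
    rw [Scheme.IdealSheafData.range_subschemeι]; simp [I, Zc]
  obtain ⟨x', hx'⟩ : x ∈ Set.range I.subschemeι := hrange.ge (subset_closure rfl)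
  haveI : IrreducibleSpace I.subscheme := by
    refine irreducibleSpace_def _ |>.2 ?_
    have h1 : IsGenericPoint x' (Set.univ : Set I.subscheme) := by
      refine Set.eq_univ_of_forall fun y => ?_
      rw [← specializes_iff_mem_closure, ← I.subschemeι.isEmbedding.isInducing.specializes_iff, hx',
        specializes_iff_mem_closure, ← hrange]
      exact ⟨y, rfl⟩
    exact h1.isIrreducible
  haveI : IsIntegral I.subscheme := isIntegral_of_irreducibleSpace_of_isReduced _
  let B : Over (Spec (CommRingCat.of k)) := Over.mk (I.subschemeι ≫ A.hom)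
  let j : B ⟶ A := Over.homMk I.subschemeι rfl
  have hfib : ∀ y : B.left, (j ≫ 𝟙 A ^ n).left y = b := fun y => by
    have hy : I.subschemeι y ∈ closure {x} := hrange ▸ ⟨y, rfl⟩
    have hcl : IsClosed ((𝟙 A ^ n).left ⁻¹' {b}) := hb.preimage (𝟙 A ^ n).left.continuous
    exact closure_minimal (Set.singleton_subset_iff.2 (show x ∈ (𝟙 A ^ n).left ⁻¹' {b} from rfl)) hcl hy
  haveI : AlgebraicGeometry.IsReduced B.left := ‹AlgebraicGeometry.IsReduced I.subscheme›
  obtain ⟨t, ht⟩ := exists_factor_closedPoint (j ≫ 𝟙 A ^ n).left hb hfib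
  have htriv : ∀ g : A ⟶ A, P N hN (j ≫ (𝟙 A ^ n) ≫ g) = 1 := fun g => by
    refine (PicGrp.cls_eq_one_iff _).2 ?_
    rw [← Category.assoc, Over.comp_left, ← ht, Category.assoc]
    refine (isTriv_comp_iff t _ N).1 (IsTriv.pullback t ?_)
    exact nonempty_trivial_field (k := A.left.residueField b) _ (PicLoc.isInvertible_pullback _ hN)
  have key : ∀ m : ℕ, P N hN (j ≫ 𝟙 A ^ m) =
      P N hN j ^ (m * (m + 1) / 2) * P N hN (j ≫ (𝟙 A)⁻¹) ^ (m * (m - 1) / 2) := fun m => by
    have h := congrArg (PicGrp.pullHom j.left (M2.pullMul _)) (P_pow (L := N) (hL := hN) hfin m)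
    rwa [map_mul, map_pow, map_pow, pullHom_P, pullHom_P, pullHom_P, Category.comp_id] at h
  have hl : P N hN j ^ (n ^ 3) = 1 := by
    refine pow_cube_eq_one n ?_ (m := P N hN (j ≫ (𝟙 A)⁻¹)) ?_
    · rw [← key]; simpa using htriv (𝟙 A)
    · rw [← key, mul_comm 2 n, pow_mul,
        show (𝟙 A ^ n) ^ 2 = (𝟙 A ^ n) ≫ (𝟙 A ^ 2) by rw [MonObj.comp_pow, Category.comp_id]]
      exact htriv _
  obtain ⟨q, hq⟩ : ∃ q, n ^ 3 = 1 * (q + 1) := ⟨n ^ 3 - 1, by
    have := Nat.one_le_pow 3 n hn; omega⟩
  have hsec : Amp.HasSec ((Scheme.Modules.pullback j.left).obj N) (n ^ 3) (j.left ⁻¹ᵁ U) := by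
    rw [hq, ← hs]
    exact ((Amp.hasSec_of_iso (M2.tensorPowOne N).symm s).pullback j.left hN).powPow
      (PicLoc.isInvertible_pullback _ hN) q
  obtain ⟨σ, hσ⟩ := hsec
  replace hl := congrArg Subtype.val hl
  rw [P, PicGrp.cls_pow_val, PicGrp.one_val] at hl
  obtain ⟨e⟩ := (PicGrp.cl_eq_cl_iff _ _).1 hl
  rw [← Amp.genLocus_comp_iso e σ, genLocus_structure_eq_basicOpen] at hσ
  haveI : IsProper B.hom := inferInstanceAs (IsProper (I.subschemeι ≫ A.hom))
  have hx'U : x' ∈ j.left ⁻¹ᵁ U := by
    show I.subschemeι x' ∈ U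
    rw [hx']; exact hxU
  haveI : IsIntegral B.left := ‹IsIntegral I.subscheme›
  have hfield : IsField Γ(B.left, ⊤) := isField_of_universallyClosed (f := B.hom)
  have htop : (⊤ : B.left.Opens) ≤ j.left ⁻¹ᵁ U := by
    rw [← hσ]
    rcases eq_or_ne (show Γ(B.left, ⊤) from Amp.gval (σ ≫ e.hom)) 0 with h0 | h0
    · exfalso
      rw [← hσ, h0, Scheme.basicOpen_zero] at hx'U
      exact hx'U
    · obtain ⟨c, hc⟩ := hfield.mul_inv_cancel h0
      rw [Scheme.basicOpen_of_isUnit _ (IsUnit.of_mul_eq_one c hc)]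
  haveI : IsAffine B.left := by
    haveI : IsAffineHom j.left := inferInstanceAs (IsAffineHom I.subschemeι)
    have h := hU.preimage j.left
    rw [top_le_iff.1 htop] at h
    haveI : IsAffine ((⊤ : B.left.Opens) : Scheme.{u}) := h
    exact .of_isIso B.left.topIso.inv
  haveI : IsFinite B.hom := IsFinite.iff_isProper_and_isAffineHom.mpr ⟨inferInstance, inferInstance⟩
  haveI : DiscreteTopology B.left := by
    have hd := B.hom.isDiscrete_preimage_singleton (IsLocalRing.closedPoint k)
    rw [show B.hom ⁻¹' {IsLocalRing.closedPoint k} = (Set.univ : Set B.left) from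
      Set.eq_univ_of_forall fun y => Subsingleton.elim (α := Spec (CommRingCat.of k)) _ _] at hd
    exact isDiscrete_univ_iff.1 hd
  haveI : Subsingleton B.left :=
    Set.subsingleton_univ_iff.1 (isPreirreducible_iff_subsingleton.1 (IrreducibleSpace.isIrreducible_univ _).2)
  have hsing : closure ({x} : Set A.left) = {x} := by
    refine Set.Subset.antisymm (fun y hy => ?_) subset_closure
    rw [← hrange] at hy
    obtain ⟨y, rfl⟩ := hy
    rw [← hx']
    exact congrArg _ (Subsingleton.elim (α := B.left) y x')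
  exact hsing ▸ isClosed_closure

/-- Multiplication by `n ≥ 1` is finite and surjective. -/
theorem isFinite_surjective_pow (hfin : FinH1.{u}) {n : ℕ} (hn : 1 ≤ n) :
    IsFinite (𝟙 A ^ n).left ∧ Surjective (𝟙 A ^ n).left := by
  set f := (𝟙 A ^ n) with hf
  haveI : IsIntegral A.left := GeometricallyIntegral.isIntegral_of_subsingleton A.hom
  haveI : JacobsonSpace A.left := LocallyOfFiniteType.jacobsonSpace (Y := Spec _) A.hom
  haveI : IsLocallyNoetherian A.left := LocallyOfFiniteType.isLocallyNoetherian A.hom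
  haveI : CompactSpace A.left := QuasiCompact.compactSpace_of_compactSpace A.hom
  haveI : IsNoetherian A.left := {}
  haveI : IsProper (f.left ≫ A.hom) := by rw [Over.w]; infer_instance
  haveI : IsProper f.left := .of_comp _ A.hom
  have hcl : ∀ x ∈ closedPoints A.left, f.left.QuasiFiniteAt x := by
    intro x hx
    have hb : IsClosed ({f.left x} : Set A.left) := by
      rw [← Set.image_singleton]; exact f.left.isClosedMap _ hx
    have hpts : ∀ y ∈ f.left ⁻¹' {f.left x}, IsClosed ({y} : Set A.left) := fun y hy =>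
      isClosed_singleton_of_pow hfin hn (by rw [show f.left y = f.left x from hy]; exact hb)
    have hfinset : (f.left ⁻¹' {f.left x}).Finite := by
      obtain ⟨S, hS, hScl, hSirr, hSeq⟩ := NoetherianSpace.exists_finite_set_isClosed_irreducible
        (hb.preimage f.left.continuous)
      rw [hSeq]
      refine hS.sUnion fun Z hZ => ?_
      obtain ⟨ζ, hη⟩ := QuasiSober.sober (hSirr Z hZ) (hScl Z hZ)
      have hηF : ζ ∈ f.left ⁻¹' {f.left x} := hSeq ▸ Set.mem_sUnion.2 ⟨Z, hZ, hη.mem⟩
      rw [← hη.def, (hpts ζ hηF).closure_eq]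
      exact Set.finite_singleton ζ
    rw [Scheme.Hom.quasiFiniteAt_iff_isOpen_singleton_asFiber]
    haveI : Finite ↥(f.left ⁻¹' {f.left x}) := hfinset.to_subtype
    haveI : DiscreteTopology ↥(f.left ⁻¹' {f.left x}) := DiscreteTopology.of_finite_of_isClosed_singleton
      fun y => by
        have := (hpts y.1 y.2).preimage (continuous_subtype_val (p := fun a => a ∈ f.left ⁻¹' {f.left x}))
        have e : (Subtype.val ⁻¹' {y.1} : Set ↥(f.left ⁻¹' {f.left x})) = {y} := by
          ext z; simp [Subtype.ext_iff]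
        rwa [e] at this
    rw [← (f.left.fiberHomeo (f.left x)).isOpen_image]
    exact isOpen_discrete _
  have hall : ∀ x, f.left.QuasiFiniteAt x := by
    by_contra hne
    push_neg at hne
    obtain ⟨x, hx⟩ := hne
    obtain ⟨q, hq, hqc⟩ := nonempty_inter_closedPoints (Z := {x | f.left.QuasiFiniteAt x}ᶜ) ⟨x, hx⟩
      f.left.isOpen_quasiFiniteAt.isClosed_compl.isLocallyClosed
    exact hq (hcl q hqc)
  haveI : LocallyQuasiFinite f.left := by
    rw [locallyQuasiFinite_iff_isDiscrete_preimage_singleton]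
    intro b
    refine ⟨discreteTopology_iff_isOpen_singleton.2 fun ⟨x, hx⟩ => ?_⟩
    obtain rfl : f.left x = b := hx
    have := Scheme.Hom.quasiFiniteAt_iff_isOpen_singleton_asFiber.1 (hall x)
    rw [← (f.left.fiberHomeo (f.left x)).isOpen_image] at this
    simpa [Scheme.Hom.asFiber] using this
  haveI := IsFinite.of_isProper_of_locallyQuasiFinite f.left
  exact ⟨inferInstance, AbRigid.surjective_of_isFinite A A f rfl⟩

end Groth.Agent.CubeField
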