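import Groth.Agent.Lib.CubeField.SeesawProd

/-!
# Triviality of a family of line bundles can be tested after a surjective change of parameters
-/

universe u

open CategoryTheory Limits MonoidalCategory CartesianMonoidalCategory AlgebraicGeometry TopologicalSpace Opposite

set_option linter.style.haveILetI false
set_option backward.isDefEq.respectTransparency false

namespace Groth.Agent.CubeField

theorem geometricallyIntegral_tensorUnit (k : Type u) [Field k] :
    GeometricallyIntegral (𝟙_ (Over (Spec (CommRingCat.of k)))).hom := by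
  show GeometricallyIntegral (𝟙 (Spec (CommRingCat.of k)))
  refine ⟨fun L _ x W p₁ p₂ hW => ?_⟩
  haveI : IsIso p₂ := hW.isIso_snd_of_isIso
  haveI : Nonempty W := ⟨(inv p₂) (IsLocalRing.closedPoint L)⟩
  exact isIntegral_of_isOpenImmersion p₂

/-- Field-valued points lift along surjective morphisms after a field extension. -/
theorem exists_lift_field {X Y : Scheme.{u}} (q : Y ⟶ X) [Surjective q] {K : Type u} [Field K]
    (φ : Spec (CommRingCat.of K) ⟶ X) :
    ∃ (K' : Type u) (_ : Field K') (g : CommRingCat.of K ⟶ CommRingCat.of K')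
      (ψ : Spec (CommRingCat.of K') ⟶ Y), ψ ≫ q = Spec.map g ≫ φ := by
  obtain ⟨x, hx⟩ := q.surjective (φ (IsLocalRing.closedPoint K))
  obtain ⟨w, -, -⟩ := Scheme.Pullback.exists_preimage_pullback (f := φ) (g := q)
    (IsLocalRing.closedPoint K) x hx.symm
  refine ⟨(pullback φ q).residueField w, inferInstance,
    Spec.preimage ((pullback φ q).fromSpecResidueField w ≫ pullback.fst φ q),
    (pullback φ q).fromSpecResidueField w ≫ pullback.snd φ q, ?_⟩
  rw [Spec.map_preimage, Category.assoc, Category.assoc, pullback.condition]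

/-- A family trivial along a section and trivial after a surjective change of parameters is trivial. -/
theorem isTriv_of_surjective_pullback {k : Type u} [Field k] {A T T' : Over (Spec (CommRingCat.of k))}
    [IsProper A.hom] [GeometricallyIntegral A.hom] [LocallyOfFiniteType T.hom] [QuasiCompact T.hom]
    [GeometricallyIntegral T.hom] (a₀ : 𝟙_ (Over (Spec (CommRingCat.of k))) ⟶ A)
    (L : (A ⊗ T).left.Modules) (hL : PicF.IsInvertible L)
    (h₀ : IsTriv ((Scheme.Modules.pullback (lift (toUnit T ≫ a₀) (𝟙 T)).left).obj L))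
    (q : T' ⟶ T) [Surjective q.left]
    (h : IsTriv ((Scheme.Modules.pullback (A ◁ q).left).obj L)) : IsTriv L := by
  haveI : IsProper (𝟙_ (Over (Spec (CommRingCat.of k)))).hom :=
    inferInstanceAs (IsProper (𝟙 (Spec (CommRingCat.of k))))
  haveI := geometricallyIntegral_tensorUnit k
  haveI : IsIso (fst A (𝟙_ (Over (Spec (CommRingCat.of k))))) := by rw [← rightUnitor_hom]; infer_instance
  haveI := geometricallyConnected_of_irreducible (𝟙_ (Over (Spec (CommRingCat.of k)))).hom
  haveI : IsIntegral T.left := GeometricallyIntegral.isIntegral_of_subsingleton T.hom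
  let π := fst A (𝟙_ (Over (Spec (CommRingCat.of k)))) ▷ T
  let L' := (Scheme.Modules.pullback π.left).obj L
  have hL' : PicF.IsInvertible L' := PicLoc.isInvertible_pullback _ hL
  let y₀ := 𝟙 (𝟙_ (Over (Spec (CommRingCat.of k))))
  have key : IsTriv L' := by
    refine isTriv_of_all_points a₀ y₀ L' hL' ?_ fun {K} _ φ => ?_
    · rw [isTriv_comp_iff, ← Over.comp_left]
      have e : iY A (𝟙_ (Over (Spec (CommRingCat.of k)))) T a₀ ≫ π =
          snd (𝟙_ (Over (Spec (CommRingCat.of k)))) T ≫ lift (toUnit T ≫ a₀) (𝟙 T) := by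
        refine CartesianMonoidalCategory.hom_ext _ _ ?_ ?_
        · simp only [π, iY, Category.assoc, whiskerRight_fst, whiskerRight_fst_assoc, lift_fst, lift_fst_assoc,
            comp_toUnit_assoc]
        · simp [π, iY]
      rw [e, Over.comp_left, ← isTriv_comp_iff]
      exact h₀.pullback _
    · obtain ⟨K', iK', g, ψ, hψ⟩ := exists_lift_field q.left φ
      refine At.descend (K := K) (K' := K') y₀ L' hL' g ?_
      refine at_of_triv L' ((Spec.map g ≫ φ) ≫ T.hom) _ rfl ?_
      rw [isTriv_comp_iff, ← Over.comp_left]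
      let S : Over (Spec (CommRingCat.of k)) := Over.mk ((Spec.map g ≫ φ) ≫ T.hom)
      let p : S ⟶ T' := Over.homMk ψ (show ψ ≫ T'.hom = (Spec.map g ≫ φ) ≫ T.hom by
        rw [← Over.w q, ← Category.assoc, hψ])
      have hp : pt ((Spec.map g ≫ φ) ≫ T.hom) (Spec.map g ≫ φ) rfl = p ≫ q := by
        ext1; exact hψ.symm
      have e : ((A ⊗ 𝟙_ (Over (Spec (CommRingCat.of k)))) ◁ pt ((Spec.map g ≫ φ) ≫ T.hom) (Spec.map g ≫ φ) rfl) ≫ π =
          (fst A (𝟙_ (Over (Spec (CommRingCat.of k)))) ▷ S) ≫ (A ◁ p) ≫ (A ◁ q) := by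
        rw [hp, whisker_exchange, whiskerLeft_comp]
      rw [e]
      generalize (fst A (𝟙_ (Over (Spec (CommRingCat.of k)))) ▷ S) = a
      rw [show (a ≫ (A ◁ p) ≫ (A ◁ q)).left = a.left ≫ ((A ◁ p).left ≫ (A ◁ q).left) from rfl]
      exact (isTriv_comp_iff a.left _ L).1 (((isTriv_comp_iff (A ◁ p).left (A ◁ q).left L).1
        (h.pullback (A ◁ p).left)).pullback a.left)
  have h2 := key.pullback (inv π).left
  rw [isTriv_comp_iff, ← Over.comp_left, IsIso.inv_hom_id] at h2
  obtain ⟨e⟩ := h2
  exact ⟨((Scheme.Modules.pullbackId _).app L).symm ≪≫ e⟩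

end Groth.Agent.CubeField
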