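import Groth.Agent.Lib.CubeField.Square
import Groth.Agent.Lib.CubeField.MulSurj
import Groth.Agent.Lib.CubeField.PullTriv

/-!
# The Mumford pairing `P(x + y) − P(x) − P(y)` of an invertible module on an abelian variety
-/

universe u

open CategoryTheory Limits MonoidalCategory CartesianMonoidalCategory AlgebraicGeometry TopologicalSpace

set_option linter.style.haveILetI false
set_option backward.isDefEq.respectTransparency false

open scoped MonObj GrpObj

namespace Groth.Agent.CubeField

noncomputable local instance instLawM22 (Y : Scheme.{u}) : PicGrp.Law Y := M2.law Y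

variable {k : Type u} [Field k] {A : Over (Spec (CommRingCat.of k))} [GrpObj A]
  {L : A.left.Modules} {hL : PicF.IsInvertible L}

variable (L hL) in
/-- The Mumford pairing. -/
noncomputable def D {V : Over (Spec (CommRingCat.of k))} (x y : V ⟶ A) : PicLoc.PicSet V.left :=
  P L hL (x * y) * (P L hL x * P L hL y)⁻¹

theorem pullHom_D {V W : Over (Spec (CommRingCat.of k))} (s : W ⟶ V) (x y : V ⟶ A) :
    PicGrp.pullHom s.left (M2.pullMul _) (D L hL x y) = D L hL (s ≫ x) (s ≫ y) := by
  simp only [D, map_mul, map_inv, pullHom_P, MonObj.comp_mul]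

theorem D_one_left {V : Over (Spec (CommRingCat.of k))} (y : V ⟶ A) : D L hL 1 y = 1 := by
  rw [D, _root_.one_mul, P_one, _root_.one_mul, mul_inv_cancel]

variable [IsProper A.hom] [GeometricallyIntegral A.hom]

theorem D_mul_right (hfin : FinH1.{u}) {V : Over (Spec (CommRingCat.of k))} (x y z : V ⟶ A) :
    D L hL x (y * z) = D L hL x y * D L hL x z := by
  have h := square (L := L) (hL := hL) hfin x y z
  simp only [D, ← _root_.mul_assoc x y z]
  rw [← div_eq_mul_inv, ← div_eq_mul_inv, ← div_eq_mul_inv, div_mul_div_comm, div_eq_div_iff_mul_eq_mul]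
  calc P L hL (x * y * z) * (P L hL x * P L hL y * (P L hL x * P L hL z))
      = P L hL (x * y * z) * P L hL x * P L hL y * P L hL z * P L hL x := by ac_rfl
    _ = P L hL (x * y) * P L hL (x * z) * P L hL (y * z) * P L hL x := by rw [h]
    _ = _ := by ac_rfl

theorem D_pow_right (hfin : FinH1.{u}) {V : Over (Spec (CommRingCat.of k))} (x y : V ⟶ A) (n : ℕ) :
    D L hL x (y ^ n) = D L hL x y ^ n := by
  induction n with
  | zero =>
    rw [pow_zero, pow_zero, D, _root_.mul_one, P_one, _root_.mul_one, mul_inv_cancel]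
  | succ n ih => rw [pow_succ, D_mul_right hfin, ih, pow_succ]

theorem D_self (hfin : FinH1.{u}) {V : Over (Spec (CommRingCat.of k))} (x : V ⟶ A) :
    D L hL x x = P L hL x * P L hL x⁻¹ := by
  have h := P_zpow_two_step (L := L) (hL := hL) hfin 0
  rw [pow_zero, P_one, _root_.mul_one, pow_one] at h
  have h' := congrArg (PicGrp.pullHom x.left (M2.pullMul _)) h
  simp only [map_mul, map_pow, pullHom_P, MonObj.comp_pow, GrpObj.comp_inv, Category.comp_id, zero_add] at h'
  rw [D, ← sq, h', ← sq, mul_inv_eq_iff_eq_mul]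
  ac_rfl

/-- The Mumford bundle is trivial if the pairing is killed by some positive integer. -/
theorem D_eq_one_of_torsion (hfin : FinH1.{u}) {N : ℕ} (hN : 0 < N)
    (h : D L hL (fst A A) (snd A A) ^ N = 1) : D L hL (fst A A) (snd A A) = 1 := by
  obtain ⟨M, hM, hDM⟩ := PicGrp.exists_eq_cls (D L hL (fst A A) (snd A A))
  have htriv : ∀ {W : Over (Spec (CommRingCat.of k))} (s : W ⟶ A ⊗ A),
      D L hL (s ≫ fst A A) (s ≫ snd A A) = 1 → IsTriv ((Scheme.Modules.pullback s.left).obj M) :=
    fun {W} s hs => by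
      rw [← pullHom_D, hDM, PicGrp.pullHom_cls, PicGrp.cls_eq_one_iff] at hs
      exact hs
  haveI : Surjective (𝟙 A ^ N).left := (isFinite_surjective_pow (A := A) hfin hN).2
  rw [hDM, PicGrp.cls_eq_one_iff]
  refine isTriv_of_surjective_pullback (T' := A) η[A] M hM (htriv _ ?_) (𝟙 A ^ N) (htriv _ ?_)
  · rw [lift_fst, lift_snd]
    exact (congrArg (fun e => D L hL e (𝟙 A)) (Hom.one_def (X := A) (M := A)).symm).trans (D_one_left _)
  · rw [whiskerLeft_fst, whiskerLeft_snd, MonObj.comp_pow, Category.comp_id, D_pow_right hfin, h]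

/-- An invertible module whose pullback by `n` is its `n`th power has trivial Mumford bundle. -/
theorem D_eq_one_of_pow (hfin : FinH1.{u}) {n : ℕ} (hn : 2 ≤ n)
    (h : P L hL (𝟙 A ^ n) = P L hL (𝟙 A) ^ n) : D L hL (fst A A) (snd A A) = 1 := by
  haveI : IsCommMonObj A := isCommMonObj_of_isProper_of_geometricallyIntegral A
  set m := n * (n - 1) / 2 with hm
  have hm0 : 0 < m := by
    obtain ⟨r, rfl⟩ := Nat.exists_eq_add_of_le hn
    rw [hm]
    refine Nat.div_pos ?_ two_pos
    nlinarith [show 2 + r - 1 = r + 1 by omega]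
  have hsum : n * (n + 1) / 2 = n + m := by
    obtain ⟨r, rfl⟩ := Nat.exists_eq_add_of_le hn
    rw [hm, show 2 + r - 1 = r + 1 by omega, show (2 + r) * (2 + r + 1) = (2 + r) * (r + 1) + (2 + r) * 2 by ring,
      Nat.add_mul_div_right _ _ two_pos, Nat.add_comm]
  have hE : (P L hL (𝟙 A) * P L hL (𝟙 A)⁻¹) ^ m = 1 := by
    have hp := P_pow (L := L) (hL := hL) hfin n
    rw [h, hsum, ← hm, pow_add, _root_.mul_assoc] at hp
    rw [mul_pow]
    exact (mul_eq_left.1 hp.symm)
  have hE' : ∀ {V : Over (Spec (CommRingCat.of k))} (x : V ⟶ A), D L hL x x ^ m = 1 := fun {V} x => by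
    have h1 := congrArg (PicGrp.pullHom x.left (M2.pullMul _)) hE
    simp only [map_mul, map_pow, map_one, pullHom_P, GrpObj.comp_inv, Category.comp_id] at h1
    rw [D_self hfin, h1]
  refine D_eq_one_of_torsion hfin (Nat.mul_pos two_pos hm0) ?_
  set x := fst A A
  set y := snd A A
  have hl : ∀ a b c : A ⊗ A ⟶ A, D L hL (a * b) c = D L hL a c * D L hL b c := fun a b c => by
    have hs : ∀ a b : A ⊗ A ⟶ A, D L hL a b = D L hL b a := fun a b => by
      rw [D, D, _root_.mul_comm a b, _root_.mul_comm (P L hL a)]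
    rw [hs, D_mul_right hfin, hs c a, hs c b]
  have hxy := hE' (x * y)
  rw [hl, D_mul_right hfin, D_mul_right hfin, show D L hL y x = D L hL x y by
      rw [D, D, _root_.mul_comm y x, _root_.mul_comm (P L hL y)], mul_pow, mul_pow, mul_pow,
    hE' x, hE' y, _root_.one_mul, _root_.mul_one, ← pow_add, ← two_mul] at hxy
  exact hxy

end Groth.Agent.CubeField
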