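import Groth.Agent.Lib.CubeField.EffAmple
import Groth.Agent.Lib.AbRigid.FibreComponent
import Groth.Agent.Lib.AbRigid.Image
import Groth.Agent.Lib.GeomIrr18.Scheme
import Groth.Agent.Lib.GeomRed18.Apps

/-!
# Effective modules on simple abelian varieties
-/

universe u

open CategoryTheory Limits MonoidalCategory CartesianMonoidalCategory AlgebraicGeometry
  TopologicalSpace

set_option linter.style.haveILetI false
set_option backward.isDefEq.respectTransparency false

open scoped MonObj GrpObj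

namespace Groth.Agent.CubeField

variable {k : Type u} [Field k]

/-- An integral scheme over an algebraically closed field is geometrically integral. -/
theorem geometricallyIntegral_of_isIntegral [IsAlgClosed k] {X : Scheme.{u}}
    (f : X ⟶ Spec (CommRingCat.of k)) [IsIntegral X] : GeometricallyIntegral f := by
  letI : X.Over (Spec (CommRingCat.of k)) := ⟨f⟩
  haveI : IsIso (Spec.map (CommRingCat.ofHom (algebraMap k k))) := by
    rw [show CommRingCat.ofHom (algebraMap k k) = 𝟙 (CommRingCat.of k) from rfl]; infer_instance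
  haveI : AlgebraicGeometry.IsReduced (Curv2.bc k X k) :=
    isReduced_of_isOpenImmersion (Curv2.bcFst k X k)
  haveI : GeometricallyReduced f := GeomRed.geometricallyReduced_of_perfect (k := k) (X := X) k
  haveI := GeomIrr.geometricallyIrreducible_of_isSepClosed f
  exact GeometricallyIntegral.of_geometricallyReduced_of_geometricallyIrreducible _

/-- A nonzero section of an invertible module on an integral scheme is nonzero somewhere. -/
theorem genLocus_nonempty_of_ne_zero {X : Scheme.{u}} [IsIntegral X] {M : X.Modules} (hM : PicF.IsInvertible M)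
    {t : Γ(M, ⊤)} (ht : t ≠ 0) : (CohB1.genLocus M (M1.secHom t) : Set X).Nonempty := by
  by_contra h0
  refine ht (Amp.eq_of_gm fun x _ => ?_)
  obtain ⟨U, e, hxU, -, -, he⟩ := Amp.exists_isGenerator hM (V := ⊤) (x := x) trivial
  obtain ⟨c, hc⟩ := Amp.exists_coeff he (M2.res M (le_top : U ≤ ⊤) (Amp.gval (M1.secHom t)))
  have hb := Amp.genLocus_inf_eq_basicOpen hM (M1.secHom t) he hc
  rw [show CohB1.genLocus M (M1.secHom t) = ⊥ from
    Opens.ext (Set.not_nonempty_iff_eq_empty.1 h0), bot_inf_eq] at hb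
  have hc0 : c = 0 := (basicOpen_eq_bot_iff c).1 hb.symm
  rw [hc0, zero_smul, Amp.gval_secHom] at hc
  rw [← Amp.gm_res (le_top : U ≤ ⊤) hxU t, ← hc]
  exact (map_zero _).trans (map_zero _).symm

/-- A module with a section vanishing nowhere is trivial. -/
theorem nonempty_iso_of_genLocus_eq_univ {X : Scheme.{u}} {M : X.Modules} (hM : PicF.IsInvertible M)
    (s : Coh.structureModule X ⟶ M) (h : (CohB1.genLocus M s : Set X) = Set.univ) :
    Nonempty (M ≅ Coh.structureModule X) :=
  Twist.nonempty_iso_of_generator _ (Amp.gval s) (fun V => (Twist.isGen_of_stalk fun y _ =>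
    (Amp.mem_genLocus_iff hM s (x := y)).1 (h.ge trivial)) V le_top)

variable {A : Over (Spec (CommRingCat.of k))} [GrpObj A] [IsProper A.hom] [GeometricallyIntegral A.hom]

omit [GrpObj A] [GeometricallyIntegral A.hom] in
/-- The reduced subscheme on an irreducible closed subset. -/
theorem exists_subvariety [IsAlgClosed k] {T : Set A.left} (hT : IsClosed T) (hTi : IsIrreducible T) :
    ∃ (B : Over (Spec (CommRingCat.of k))) (_ : IsIntegral B.left) (_ : IsProper B.hom)
      (_ : GeometricallyIntegral B.hom) (i : B ⟶ A),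
      IsClosedImmersion i.left ∧ Set.range i.left = T ∧ i.left.ker = .vanishingIdeal ⟨T, hT⟩ := by
  let Zc : Closeds A.left := ⟨T, hT⟩
  let I := Scheme.IdealSheafData.vanishingIdeal Zc
  haveI : AlgebraicGeometry.IsReduced I.subscheme := RedSepLib.isReduced_vanishingIdeal_subscheme Zc
  have hrange : Set.range I.subschemeι = T := by
    rw [Scheme.IdealSheafData.range_subschemeι]; simp [I, Zc]
  haveI : IrreducibleSpace I.subscheme := by
    have hgen := hTi.closure_genericPoint hT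
    obtain ⟨x', hx'⟩ := hrange.ge (hgen.le (subset_closure (Set.mem_singleton hTi.genericPoint)))
    refine irreducibleSpace_def _ |>.2 ?_
    have h1 : IsGenericPoint x' (Set.univ : Set I.subscheme) := by
      refine Set.eq_univ_of_forall fun y => ?_
      rw [← specializes_iff_mem_closure, ← I.subschemeι.isEmbedding.isInducing.specializes_iff, hx',
        specializes_iff_mem_closure, hgen, ← hrange]
      exact ⟨y, rfl⟩
    exact h1.isIrreducible
  haveI : IsIntegral I.subscheme := isIntegral_of_irreducibleSpace_of_isReduced _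
  exact ⟨Over.mk (I.subschemeι ≫ A.hom), ‹IsIntegral I.subscheme›,
    inferInstanceAs (IsProper (I.subschemeι ≫ A.hom)), geometricallyIntegral_of_isIntegral (X := I.subscheme) _,
    Over.homMk I.subschemeι rfl, inferInstanceAs (IsClosedImmersion I.subschemeι), hrange,
    Scheme.IdealSheafData.ker_subschemeι _⟩

omit [GrpObj A] [GeometricallyIntegral A.hom] in
/-- A point in the image of a closed immersion lifts. -/
theorem exists_point_lift [IsAlgClosed k] {B : Over (Spec (CommRingCat.of k))} [LocallyOfFiniteType B.hom]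
    (i : B ⟶ A) [IsClosedImmersion i.left] (c : 𝟙_ (Over (Spec (CommRingCat.of k))) ⟶ A)
    (hc : rpt c ∈ Set.range i.left) : ∃ c' : 𝟙_ (Over (Spec (CommRingCat.of k))) ⟶ B, c' ≫ i = c := by
  obtain ⟨z, hz⟩ := hc
  have hzc : IsClosed ({z} : Set B.left) := by
    have h := (AbRigid.isClosed_image_point (Z := A) c).preimage i.left.continuous
    rwa [show AbRigid.pt₀ k = IsLocalRing.closedPoint k from rfl,
      show c.left (IsLocalRing.closedPoint k) = i.left z from hz.symm,
      show i.left ⁻¹' {i.left z} = {z} from Set.ext fun w =>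
      ⟨fun hw => i.left.isEmbedding.injective hw, fun hw => congrArg _ hw⟩] at h
  obtain ⟨e, he⟩ := exists_rpt hzc
  refine ⟨e, rpt_injective (X := A) ?_⟩
  rw [rpt_comp, he]
  exact hz

omit [GeometricallyIntegral A.hom] in
/-- An irreducible closed subset closed under differences is the support of a subgroup. -/
theorem exists_subgroup_of_isClosed [IsAlgClosed k] {T : Set A.left} (hT : IsClosed T) (hTi : IsIrreducible T)
    (h1 : rpt (1 : 𝟙_ (Over (Spec (CommRingCat.of k))) ⟶ A) ∈ T)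
    (hdiv : ∀ a b : 𝟙_ (Over (Spec (CommRingCat.of k))) ⟶ A, rpt a ∈ T → rpt b ∈ T → rpt (a * b⁻¹) ∈ T) :
    ∃ (B : Over (Spec (CommRingCat.of k))) (_ : GrpObj B) (_ : GeometricallyIntegral B.hom) (i : B ⟶ A),
      IsMonHom i ∧ IsClosedImmersion i.left ∧ Set.range i.left = T := by
  obtain ⟨B, hBi, hBp, hGI, i, hci, hrange, hkerI⟩ := exists_subvariety hT hTi
  haveI := hBi
  haveI := hBp
  haveI := hGI
  haveI := hci
  haveI : IsIntegral (B ⊗ B).left := by
    haveI : IsLocallyNoetherian B.left := LocallyOfFiniteType.isLocallyNoetherian B.hom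
    exact GeometricallyIntegral.isIntegral_of_isLocallyNoetherian (pullback.fst B.hom B.hom)
  haveI : Mono i := (Over.forget _).mono_of_mono_map (f := i) (show Mono i.left from inferInstance)
  have hlift : ∀ {W : Over (Spec (CommRingCat.of k))} [AlgebraicGeometry.IsReduced W.left]
      [LocallyOfFiniteType W.hom] [IsProper W.hom] (g : W ⟶ A),
      (∀ w : 𝟙_ (Over (Spec (CommRingCat.of k))) ⟶ W, rpt (w ≫ g) ∈ T) → ∃ l : W ⟶ B, l ≫ i = g := by
    intro W _ _ _ g hg
    haveI : IsProper (g.left ≫ A.hom) := by rw [Over.w]; infer_instance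
    haveI : IsProper g.left := .of_comp _ A.hom
    haveI : JacobsonSpace W.left := LocallyOfFiniteType.jacobsonSpace W.hom
    have hsub : Set.range g.left ⊆ T := by
      rintro _ ⟨w, rfl⟩
      have hcl : IsClosed (g.left ⁻¹' T) := hT.preimage g.left.continuous
      have : closedPoints W.left ⊆ g.left ⁻¹' T := fun z hz => by
        obtain ⟨p, rfl⟩ := exists_rpt hz
        rw [Set.mem_preimage, ← rpt_comp]
        exact hg p
      exact (closure_minimal this hcl) (by rw [closure_closedPoints]; trivial)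
    have hker : i.left.ker ≤ g.left.ker := by
      rw [hkerI, RedSepLib.ker_eq_vanishingIdeal g.left]
      exact Scheme.IdealSheafData.vanishingIdeal_antimono (closure_minimal hsub hT)
    refine ⟨Over.homMk (IsClosedImmersion.lift i.left g.left hker) ?_, ?_⟩
    · show _ ≫ B.hom = _
      rw [← Over.w i, IsClosedImmersion.lift_fac_assoc, Over.w]
    · ext1; exact IsClosedImmersion.lift_fac _ _ _
  have hmem : ∀ b : 𝟙_ (Over (Spec (CommRingCat.of k))) ⟶ B, rpt (b ≫ i) ∈ T := fun b => by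
    rw [rpt_comp, ← hrange]; exact ⟨_, rfl⟩
  have hinv : ∀ a : 𝟙_ (Over (Spec (CommRingCat.of k))) ⟶ A, rpt a ∈ T → rpt a⁻¹ ∈ T := fun a ha => by
    simpa only [one_mul] using hdiv 1 a h1 ha
  haveI : IsProper (B ⊗ B).hom := inferInstanceAs (IsProper (pullback.fst B.hom B.hom ≫ B.hom))
  obtain ⟨m, hm⟩ := hlift ((fst B B ≫ i) * (snd B B ≫ i)) fun w => by
    have h := hdiv _ _ (hmem (w ≫ fst B B)) (hinv _ (hmem (w ≫ snd B B)))
    rwa [inv_inv, Category.assoc, Category.assoc, ← MonObj.comp_mul] at h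
  replace hm : m ≫ i = (i ⊗ₘ i) ≫ μ[A] := by
    rw [hm, Hom.mul_def]
    congr 1
  obtain ⟨v, hv⟩ := hlift (i ≫ ι[A]) fun w => by
    rw [← Category.assoc]; exact hinv _ (hmem w)
  obtain ⟨e, he⟩ : ∃ e : 𝟙_ (Over (Spec (CommRingCat.of k))) ⟶ B, e ≫ i = η[A] := by
    obtain ⟨e, he⟩ := exists_point_lift i 1 (hrange.ge h1)
    exact ⟨e, he.trans (by rw [Hom.one_def, toUnit_unit, Category.id_comp])⟩
  letI : GrpObj B := AbRigid.grpObjOfMono i e he m hm v hv
  exact ⟨B, inferInstance, hGI, i, ⟨he, hm⟩, hci, hrange⟩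

variable {N : A.left.Modules}

noncomputable local instance instLawS (Y : Scheme.{u}) : PicGrp.Law Y := M2.law Y

/-- On an abelian variety without nontrivial subgroup varieties an effective nontrivial module is ample. -/
theorem isAmple_of_simple [IsAlgClosed k] (hfin : FinH1.{u})
    (hsimple : ∀ (B : Over (Spec (CommRingCat.of k))) [GrpObj B] [GeometricallyIntegral B.hom] (i : B ⟶ A) [IsMonHom i]
      [IsClosedImmersion i.left], Subsingleton ↥B.left ∨ IsIso i)
    (hN : PicF.IsInvertible N) (s : Coh.structureModule A.left ⟶ N)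
    (hne : (CohB1.genLocus N s : Set A.left).Nonempty) (hnt : (CohB1.genLocus N s : Set A.left) ≠ Set.univ) :
    CohB1.IsAmple N := by
  haveI := isCommMonObj_of_isProper_of_geometricallyIntegral A
  haveI : CompactSpace A.left := QuasiCompact.compactSpace_of_compactSpace A.hom
  haveI : JacobsonSpace A.left := LocallyOfFiniteType.jacobsonSpace A.hom
  haveI : IsLocallyNoetherian A.left := LocallyOfFiniteType.isLocallyNoetherian A.hom
  haveI : AlgebraicGeometry.IsNoetherian A.left := {}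
  refine isAmple_of_finite_componentStabilizer hfin hN s hne ?_
  set H := {a : 𝟙_ (Over (Spec (CommRingCat.of k))) ⟶ A |
      ∀ E : Set A.left, IsClosed E → IsIrreducible E → E ⊆ (CohB1.genLocus N s : Set A.left)ᶜ →
        (∀ T : Set A.left, IsClosed T → IsIrreducible T → T ⊆ (CohB1.genLocus N s : Set A.left)ᶜ → E ⊆ T → T = E) →
          (trans₁ a).left '' E = E} with hH
  by_contra hinf
  have hmulH : ∀ a ∈ H, ∀ b ∈ H, a * b ∈ H := fun a ha b hb E h1 h2 h3 h4 => by
    rw [← trans₁_comp, Over.comp_left, Scheme.Hom.comp_base, TopCat.coe_comp, Set.image_comp,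
      ha E h1 h2 h3 h4, hb E h1 h2 h3 h4]
  have hinvH : ∀ a ∈ H, a⁻¹ ∈ H := fun a ha E h1 h2 h3 h4 => by
    conv_lhs => rw [← ha E h1 h2 h3 h4]
    rw [← Set.image_comp, ← TopCat.coe_comp, ← Scheme.Hom.comp_base, ← Over.comp_left, trans₁_comp,
      mul_inv_cancel, trans₁_one, Over.id_left]
    exact Set.image_id E
  -- the closure of the stabiliser
  let S : Set A.left := closure (rpt '' H)
  have hSc : IsClosed S := isClosed_closure
  have hSmul : ∀ a b : 𝟙_ (Over (Spec (CommRingCat.of k))) ⟶ A, rpt a ∈ S → rpt b ∈ S → rpt (a * b⁻¹) ∈ S := by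
    have step1 : ∀ a : 𝟙_ (Over (Spec (CommRingCat.of k))) ⟶ A, rpt a ∈ S → rpt a⁻¹ ∈ S := fun a ha => by
      have hc : IsClosed (((𝟙 A)⁻¹ : A ⟶ A).left ⁻¹' S) := hSc.preimage (Scheme.Hom.continuous _)
      have h := closure_minimal (by
        rintro _ ⟨b, hb, rfl⟩
        show ((𝟙 A)⁻¹ : A ⟶ A).left (rpt b) ∈ S
        rw [← rpt_comp, GrpObj.comp_inv, Category.comp_id]
        exact subset_closure ⟨_, hinvH b hb, rfl⟩) hc ha
      rwa [Set.mem_preimage, ← rpt_comp, GrpObj.comp_inv, Category.comp_id] at h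
    have step2 : ∀ b ∈ H, ∀ a : 𝟙_ (Over (Spec (CommRingCat.of k))) ⟶ A, rpt a ∈ S → rpt (a * b) ∈ S :=
      fun b hb a ha => by
      rw [← trans₁_rpt]
      exact closure_minimal (by
        rintro _ ⟨c, hc, rfl⟩
        show (trans₁ b).left (rpt c) ∈ S
        rw [trans₁_rpt]
        exact subset_closure ⟨_, hmulH c hc b hb, rfl⟩) (hSc.preimage (Scheme.Hom.continuous (trans₁ b).left)) ha
    intro a b ha hb
    have hb' := step1 b hb
    rw [mul_comm, ← trans₁_rpt]
    exact closure_minimal (by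
      rintro _ ⟨c, hc, rfl⟩
      show (trans₁ a).left (rpt c) ∈ S
      rw [trans₁_rpt, mul_comm]
      exact step2 c hc a ha) (hSc.preimage (Scheme.Hom.continuous (trans₁ a).left)) hb'
  have hSinf : S.Infinite := fun hf => hinf (Set.Finite.of_finite_image (hf.subset subset_closure)
    rpt_injective.injOn)
  obtain ⟨𝒮, h𝒮f, h𝒮c, h𝒮i, h𝒮eq⟩ := NoetherianSpace.exists_finite_set_isClosed_irreducible hSc
  obtain ⟨T₀, hT₀, hT₀inf⟩ : ∃ T ∈ 𝒮, T.Infinite := by
    by_contra hcon
    push Not at hcon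
    exact hSinf (h𝒮eq ▸ h𝒮f.sUnion hcon)
  obtain ⟨t₁, ht₁, ht₁c⟩ := nonempty_inter_closedPoints (Z := T₀) hT₀inf.nonempty (h𝒮c T₀ hT₀).isLocallyClosed
  obtain ⟨t, rfl⟩ := exists_rpt ht₁c
  let T₁ := (trans₁ t⁻¹).left '' T₀
  have hT₀S : T₀ ⊆ S := h𝒮eq ▸ Set.subset_sUnion_of_mem hT₀
  have hT₁S : T₁ ⊆ S := by
    rw [Set.image_subset_iff, ← (JacobsonSpace.closure_inter_closedPoints_eq_closure
      (h𝒮c T₀ hT₀).isLocallyClosed).trans (h𝒮c T₀ hT₀).closure_eq]
    refine closure_minimal (fun v ⟨hv, hvc⟩ => ?_) (hSc.preimage (Scheme.Hom.continuous _))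
    obtain ⟨c, rfl⟩ := exists_rpt hvc
    show (trans₁ t⁻¹).left (rpt c) ∈ S
    rw [trans₁_rpt]
    exact hSmul c t (hT₀S hv) (hT₀S ht₁)
  have hT₁i : IsIrreducible T₁ := (h𝒮i T₀ hT₀).image _ (Scheme.Hom.continuous _).continuousOn
  obtain ⟨T, ⟨hT𝒮, hT₁T⟩, hTmax⟩ := (h𝒮f.inter_of_left {T | T₁ ⊆ T}).exists_maximal (by
    obtain ⟨T, hT, hTT⟩ := isIrreducible_iff_sUnion_isClosed.1 hT₁i h𝒮f.toFinset
      (fun T hT => h𝒮c T (h𝒮f.mem_toFinset.1 hT)) (by rw [h𝒮f.coe_toFinset, ← h𝒮eq]; exact hT₁S)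
    exact ⟨T, h𝒮f.mem_toFinset.1 hT, hTT⟩)
  have hTS : T ⊆ S := h𝒮eq ▸ Set.subset_sUnion_of_mem hT𝒮
  have hmaxT : ∀ W : Set A.left, IsIrreducible W → W ⊆ S → T ⊆ W → W ⊆ T := fun W hW hWS hTW => by
    obtain ⟨T', hT', hWT⟩ := isIrreducible_iff_sUnion_isClosed.1 hW h𝒮f.toFinset
      (fun T hT => h𝒮c T (h𝒮f.mem_toFinset.1 hT)) (by rw [h𝒮f.coe_toFinset, ← h𝒮eq]; exact hWS)
    exact hWT.trans (hTmax ⟨h𝒮f.mem_toFinset.1 hT', (hT₁T.trans hTW).trans hWT⟩ (hTW.trans hWT))
  have h1T : rpt (1 : 𝟙_ (Over (Spec (CommRingCat.of k))) ⟶ A) ∈ T :=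
    hT₁T ⟨rpt t, ht₁, by rw [trans₁_rpt, mul_inv_cancel]⟩
  have hTc : IsClosed T := h𝒮c T hT𝒮
  have hTdiv : ∀ a b : 𝟙_ (Over (Spec (CommRingCat.of k))) ⟶ A, rpt a ∈ T → rpt b ∈ T → rpt (a * b⁻¹) ∈ T := by
    intro a b ha hb
    obtain ⟨B, hBi, hBp, hBG, i, hBc, hrange, -⟩ := exists_subvariety hTc (h𝒮i T hT𝒮)
    haveI := hBi
    haveI := hBp
    haveI := hBG
    haveI := hBc
    haveI : IsLocallyNoetherian B.left := LocallyOfFiniteType.isLocallyNoetherian B.hom
    haveI : IsIntegral (B ⊗ B).left :=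
      GeometricallyIntegral.isIntegral_of_isLocallyNoetherian (pullback.fst B.hom B.hom)
    haveI : LocallyOfFiniteType (B ⊗ B).hom :=
      inferInstanceAs (LocallyOfFiniteType (pullback.fst B.hom B.hom ≫ B.hom))
    haveI : JacobsonSpace (B ⊗ B).left := LocallyOfFiniteType.jacobsonSpace (B ⊗ B).hom
    let φ : B ⊗ B ⟶ A := (fst B B ≫ i) * (snd B B ≫ i)⁻¹
    have hmem : ∀ c : 𝟙_ (Over (Spec (CommRingCat.of k))) ⟶ B, rpt (c ≫ i) ∈ T := fun c => by
      rw [rpt_comp, ← hrange]; exact ⟨_, rfl⟩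
    have hlift : ∀ c : 𝟙_ (Over (Spec (CommRingCat.of k))) ⟶ A, rpt c ∈ T → ∃ c', c' ≫ i = c :=
      fun c hc => exists_point_lift i c (hrange.ge hc)
    have hφS : Set.range φ.left ⊆ S := by
      rintro _ ⟨w, rfl⟩
      have : closedPoints (B ⊗ B).left ⊆ φ.left ⁻¹' S := fun z hz => by
        obtain ⟨p, rfl⟩ := exists_rpt hz
        rw [Set.mem_preimage, ← rpt_comp, MonObj.comp_mul, GrpObj.comp_inv, ← Category.assoc, ← Category.assoc]
        exact hSmul _ _ (hTS (hmem _)) (hTS (hmem _))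
      exact (closure_minimal this (hSc.preimage φ.left.continuous)) (by rw [closure_closedPoints]; trivial)
    obtain ⟨a', rfl⟩ := hlift a ha
    obtain ⟨b', rfl⟩ := hlift b hb
    obtain ⟨o', ho⟩ := hlift 1 h1T
    have hsub : T ⊆ Set.range φ.left := by
      rintro _ hv
      obtain ⟨z, rfl⟩ := hrange.ge hv
      refine ⟨(lift (𝟙 B) (toUnit B ≫ o')).left z, ?_⟩
      rw [← Scheme.Hom.comp_apply, ← Over.comp_left, MonObj.comp_mul, GrpObj.comp_inv, lift_fst_assoc,
        lift_snd_assoc, Category.id_comp, Category.assoc, ho, MonObj.comp_one, inv_one, mul_one]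
    have hirr : IsIrreducible (Set.range φ.left) := by
      rw [← Set.image_univ]
      exact (IrreducibleSpace.isIrreducible_univ _).image _ φ.left.continuous.continuousOn
    refine hmaxT _ hirr hφS hsub ⟨rpt (lift a' b'), ?_⟩
    rw [← rpt_comp, MonObj.comp_mul, GrpObj.comp_inv, lift_fst_assoc, lift_snd_assoc]
  obtain ⟨B, _, _, i, _, _, hrange⟩ := exists_subgroup_of_isClosed hTc (h𝒮i T hT𝒮) h1T hTdiv
  rcases hsimple B i with hs | hiso
  · refine hT₀inf ?_
    have hTfin : T.Finite := hrange ▸ Set.finite_range _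
    exact Set.Finite.of_finite_image (hTfin.subset hT₁T) ((trans₁ t⁻¹).left.homeomorph.injective.injOn)
  · haveI : IsIso i.left := inferInstanceAs (IsIso ((Over.forget _).map i))
    have hTtop : T = Set.univ := hrange ▸ Set.range_eq_univ.2 i.left.homeomorph.surjective
    have hall : ∀ a : 𝟙_ (Over (Spec (CommRingCat.of k))) ⟶ A, rpt a ∈ S := fun a =>
      hTS (hTtop ▸ trivial)
    -- a component of the complement is then everything
    obtain ⟨𝒵, h𝒵f, h𝒵c, h𝒵i, h𝒵eq⟩ := NoetherianSpace.exists_finite_set_isClosed_irreducible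
      (CohB1.genLocus N s).isOpen.isClosed_compl
    obtain ⟨E, hE, hEmax⟩ := h𝒵f.exists_maximal (by
      rw [Set.nonempty_iff_ne_empty]
      intro h0
      rw [h0, Set.sUnion_empty, Set.compl_empty_iff] at h𝒵eq
      exact hnt h𝒵eq)
    have hEc := h𝒵c E hE
    have hEs : E ⊆ (CohB1.genLocus N s : Set A.left)ᶜ := h𝒵eq ▸ Set.subset_sUnion_of_mem hE
    have hEm : ∀ T : Set A.left, IsClosed T → IsIrreducible T → T ⊆ (CohB1.genLocus N s : Set A.left)ᶜ →
        E ⊆ T → T = E := fun W hWc hWi hWs hEW => by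
      obtain ⟨T', hT', hWT⟩ := isIrreducible_iff_sUnion_isClosed.1 hWi h𝒵f.toFinset
        (fun T hT => h𝒵c T (h𝒵f.mem_toFinset.1 hT)) (by rw [h𝒵f.coe_toFinset, ← h𝒵eq]; exact hWs)
      exact (hWT.trans (hEmax (h𝒵f.mem_toFinset.1 hT') (hEW.trans hWT))).antisymm hEW
    obtain ⟨e₀, he₀, he₀c⟩ := nonempty_inter_closedPoints (Z := E) (h𝒵i E hE).nonempty hEc.isLocallyClosed
    obtain ⟨e, rfl⟩ := exists_rpt he₀c
    obtain ⟨u₀, hu₀, hu₀c⟩ := nonempty_inter_closedPoints (Z := (CohB1.genLocus N s : Set A.left)) hne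
      (CohB1.genLocus N s).isOpen.isLocallyClosed
    obtain ⟨c, rfl⟩ := exists_rpt hu₀c
    refine hEs ?_ hu₀
    have hsubS : S ⊆ (trans₁ e).left ⁻¹' E := closure_minimal (by
      rintro _ ⟨a, ha, rfl⟩
      rw [Set.mem_preimage, trans₁_rpt, mul_comm, ← trans₁_rpt]
      rw [← ha E hEc (h𝒵i E hE) hEs hEm]
      exact ⟨_, he₀, rfl⟩) (hEc.preimage (Scheme.Hom.continuous _))
    have := hsubS (hall (c * e⁻¹))
    rwa [Set.mem_preimage, trans₁_rpt, inv_mul_cancel_right] at this

end Groth.Agent.CubeField
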