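import Groth.Agent.Lib.CubeField.Assoc
import Groth.Agent.Lib.TensorMod.PicLaw
import Groth.Agent.Lib.TensorMod.PullTensor
import Mathlib.AlgebraicGeometry.Group.Abelian

/-!
# The theorem of the square
-/

universe u

open CategoryTheory Limits MonoidalCategory CartesianMonoidalCategory AlgebraicGeometry
  TopologicalSpace

set_option linter.style.haveILetI false
set_option backward.isDefEq.respectTransparency false

open scoped MonObj GrpObj

namespace Groth.Agent.CubeField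

noncomputable local instance instLaw (Y : Scheme.{u}) : PicGrp.Law Y := M2.law Y

theorem nonempty_trivial_field {k : Type u} [Field k] (M : (Spec (CommRingCat.of k)).Modules)
    (hM : PicF.IsInvertible M) : Nonempty (M ≅ Coh.structureModule (Spec (CommRingCat.of k))) := by
  obtain ⟨n, c, -, hcov, ⟨T⟩⟩ := exists_triv M hM
  obtain ⟨i, hi⟩ := Opens.mem_iSup.1 (hcov.ge (Opens.mem_top (IsLocalRing.closedPoint k)))
  have htop : (⊤ : (Spec (CommRingCat.of k)).Opens) ≤ c.V i := fun z _ =>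
    (Subsingleton.elim (α := Spec (CommRingCat.of k)) (IsLocalRing.closedPoint k) z) ▸ hi
  exact Twist.nonempty_iso_of_generator M (M1.mres M htop (T.e i)) fun U => (T.gen i).mres htop U le_top

variable {k : Type u} [Field k] {A : Over (Spec (CommRingCat.of k))}

/-- The class of the pullback of `L` along a morphism to `A`. -/
noncomputable def P (L : A.left.Modules) (hL : PicF.IsInvertible L) {V : Over (Spec (CommRingCat.of k))}
    (f : V ⟶ A) : PicLoc.PicSet V.left :=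
  PicGrp.cls ((Scheme.Modules.pullback f.left).obj L) (PicLoc.isInvertible_pullback _ hL)

variable {L : A.left.Modules} {hL : PicF.IsInvertible L}

theorem pullHom_P {V W : Over (Spec (CommRingCat.of k))} (s : W ⟶ V) (f : V ⟶ A) :
    PicGrp.pullHom s.left (M2.pullMul _) (P L hL f) = P L hL (s ≫ f) := by
  apply Subtype.ext
  rw [PicGrp.pullHom_apply_val]
  show PicF.pullCl s.left (PicF.cl ((Scheme.Modules.pullback f.left).obj L)) = _
  rw [PicLoc.pullCl_cl]
  exact M2.cl_eq_of_iso ((Scheme.Modules.pullbackComp s.left f.left).app L)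

theorem P_id : P L hL (𝟙 A) = PicGrp.cls L hL :=
  Subtype.ext (M2.cl_eq_of_iso ((Scheme.Modules.pullbackId A.left).app L))

theorem P_const {V : Over (Spec (CommRingCat.of k))} (a : 𝟙_ (Over (Spec (CommRingCat.of k))) ⟶ A) :
    P L hL (toUnit V ≫ a) = 1 := by
  rw [← pullHom_P]
  have h : P L hL a = 1 := (PicGrp.cls_eq_one_iff _).2 (nonempty_trivial_field _ (PicLoc.isInvertible_pullback _ hL))
  rw [h, map_one]

variable [GrpObj A]

theorem P_one {V : Over (Spec (CommRingCat.of k))} : P L hL (1 : V ⟶ A) = 1 := P_const _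

variable [IsProper A.hom] [GeometricallyIntegral A.hom]

/-- The theorem of the square. -/
theorem square (hfin : FinH1.{u}) {V : Over (Spec (CommRingCat.of k))} (f g h : V ⟶ A) :
    P L hL (f * g * h) * P L hL f * P L hL g * P L hL h =
      P L hL (f * g) * P L hL (f * h) * P L hL (g * h) := by
  haveI := geometricallyConnected_of_irreducible A.hom
  let p₁ : A ⊗ A ⊗ A ⟶ A := fst _ _
  let p₂ : A ⊗ A ⊗ A ⟶ A := snd _ _ ≫ fst _ _
  let p₃ : A ⊗ A ⊗ A ⟶ A := snd _ _ ≫ snd _ _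
  let M : PicLoc.PicSet (A ⊗ A ⊗ A).left :=
    P L hL (p₁ * p₂ * p₃) * P L hL p₁ * P L hL p₂ * P L hL p₃ *
      (P L hL (p₁ * p₂) * P L hL (p₁ * p₃) * P L hL (p₂ * p₃))⁻¹
  have key : ∀ {W : Over (Spec (CommRingCat.of k))} (s : W ⟶ A ⊗ A ⊗ A) (a b c : W ⟶ A),
      s ≫ p₁ = a → s ≫ p₂ = b → s ≫ p₃ = c →
      PicGrp.pullHom s.left (M2.pullMul _) M = P L hL (a * b * c) * P L hL a * P L hL b * P L hL c *
        (P L hL (a * b) * P L hL (a * c) * P L hL (b * c))⁻¹ := fun {W} s a b c ha hb hc => by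
    simp only [M, map_mul, map_inv, pullHom_P, MonObj.comp_mul, ha, hb, hc]
  obtain ⟨N, hN, hMN⟩ := PicGrp.exists_eq_cls M
  have htriv : ∀ {W : Over (Spec (CommRingCat.of k))} (s : W ⟶ A ⊗ A ⊗ A),
      PicGrp.pullHom s.left (M2.pullMul _) M = 1 → IsTriv ((Scheme.Modules.pullback s.left).obj N) :=
    fun {W} s hs => by
      rw [hMN, PicGrp.pullHom_cls, PicGrp.cls_eq_one_iff] at hs
      exact hs
  let e : 𝟙_ (Over (Spec (CommRingCat.of k))) ⟶ A := 1
  have he : ∀ W : Over (Spec (CommRingCat.of k)), toUnit W ≫ e = 1 := fun W => MonObj.comp_one _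
  have hM : M = 1 := by
    rw [hMN, PicGrp.cls_eq_one_iff]
    refine isTriv_cube hfin A A A e e e N hN (htriv _ ?_) (htriv _ ?_) (htriv _ ?_)
    · rw [key _ 1 (fst A A) (snd A A) (by simp [p₁, he]) (by simp [p₂]) (by simp [p₃])]
      simp only [one_mul, mul_one, P_one]
      exact mul_inv_eq_one.2 (by ac_rfl)
    · rw [key _ (fst A A) 1 (snd A A) (by simp [p₁]) (by simp [p₂, he]) (by simp [p₃])]
      simp only [one_mul, mul_one, P_one]
      exact mul_inv_eq_one.2 (by ac_rfl)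
    · rw [key _ (fst A A) (snd A A) 1 (by simp [p₁]) (by simp [p₂]) (by simp [p₃, he])]
      simp only [one_mul, mul_one, P_one]
      exact mul_inv_eq_one.2 (by ac_rfl)
  have h1 := key (lift f (lift g h)) f g h (by simp [p₁]) (by simp [p₂]) (by simp [p₃])
  rw [hM, map_one, eq_comm, mul_inv_eq_one] at h1
  exact h1

theorem P_zpow_two_step (hfin : FinH1.{u}) (n : ℕ) :
    P L hL (𝟙 A ^ (n + 2)) * P L hL (𝟙 A ^ n) =
      P L hL (𝟙 A ^ (n + 1)) ^ 2 * P L hL (𝟙 A) * P L hL (𝟙 A)⁻¹ := by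
  have h := square (L := L) (hL := hL) hfin (𝟙 A ^ (n + 1)) (𝟙 A) (𝟙 A)⁻¹
  rw [mul_inv_cancel_right, mul_inv_cancel, P_one, mul_one,
    show (𝟙 A ^ (n + 1)) * (𝟙 A)⁻¹ = 𝟙 A ^ n by rw [pow_succ, mul_inv_cancel_right], ← pow_succ] at h
  rw [← h, sq]

theorem P_pow (hfin : FinH1.{u}) (n : ℕ) :
    P L hL (𝟙 A ^ n) =
      P L hL (𝟙 A) ^ (n * (n + 1) / 2) * P L hL (𝟙 A)⁻¹ ^ (n * (n - 1) / 2) := by
  induction n using Nat.twoStepInduction with
  | zero => simp [P_one]
  | one => simp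
  | more n h0 h1 =>
    have h := P_zpow_two_step (L := L) (hL := hL) hfin n
    rw [h0, h1] at h
    obtain ⟨a, ha⟩ := Nat.even_mul_succ_self n
    have e0 : n * (n + 1) / 2 = a := by omega
    have e1 : (n + 1) * (n + 1 + 1) / 2 = a + (n + 1) := by
      rw [show (n + 1) * (n + 1 + 1) = (a + (n + 1)) * 2 by ring_nf; ring_nf at ha; omega]; omega
    have e2 : (n + 1) * (n + 1 - 1) / 2 = a := by
      rw [Nat.add_sub_cancel, mul_comm, e0]
    have e3 : (n + 2) * (n + 2 + 1) / 2 = a + (n + 1) + (n + 2) := by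
      rw [show (n + 2) * (n + 2 + 1) = (a + (n + 1) + (n + 2)) * 2 by ring_nf; ring_nf at ha; omega]; omega
    have e4 : (n + 2) * (n + 2 - 1) / 2 = a + (n + 1) := by
      rw [show n + 2 - 1 = n + 1 by omega, mul_comm, show n + 2 = n + 1 + 1 by omega, e1]
    have e5 : n * (n - 1) / 2 = a - n ∧ n ≤ a := by
      rcases n with _ | m
      · exact ⟨by simp; omega, Nat.zero_le _⟩
      · constructor
        · rw [Nat.add_sub_cancel]
          rw [show (m + 1) * m = (a - (m + 1)) * 2 by ring_nf; ring_nf at ha; omega]; omega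
        · nlinarith
    rw [e0, e5.1, e1, e2] at h
    rw [e3, e4]
    obtain ⟨b, rfl⟩ := Nat.exists_eq_add_of_le e5.2
    rw [Nat.add_sub_cancel_left] at h
    refine mul_right_cancel (b := P L hL (𝟙 A) ^ (n + b) * P L hL (𝟙 A)⁻¹ ^ b) (h.trans ?_)
    simp only [mul_pow, ← pow_mul]
    rw [mul_mul_mul_comm (P L hL (𝟙 A) ^ _) (P L hL (𝟙 A)⁻¹ ^ _) (P L hL (𝟙 A) ^ _), ← pow_add, ← pow_add,
      mul_assoc, mul_mul_mul_comm, ← pow_succ, ← pow_succ]
    congr 2 <;> ring

theorem cl_square (hfin : FinH1.{u}) {V : Over (Spec (CommRingCat.of k))} (f g h : V ⟶ A) (hL : PicF.IsInvertible L) :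
    Nonempty (CohB1.tensorMod (CohB1.tensorMod (CohB1.tensorMod ((Scheme.Modules.pullback (f * g * h).left).obj L)
        ((Scheme.Modules.pullback f.left).obj L)) ((Scheme.Modules.pullback g.left).obj L))
        ((Scheme.Modules.pullback h.left).obj L) ≅
      CohB1.tensorMod (CohB1.tensorMod ((Scheme.Modules.pullback (f * g).left).obj L)
        ((Scheme.Modules.pullback (f * h).left).obj L)) ((Scheme.Modules.pullback (g * h).left).obj L)) := by
  have h1 := congrArg Subtype.val (square (L := L) (hL := hL) hfin f g h)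
  simp only [P, PicGrp.mul_val, PicGrp.cls_val, PicGrp.mulCl_cl] at h1
  exact (PicGrp.cl_eq_cl_iff _ _).1 h1

theorem cl_translate (hfin : FinH1.{u}) (a b : 𝟙_ (Over (Spec (CommRingCat.of k))) ⟶ A) (hL : PicF.IsInvertible L) :
    Nonempty (CohB1.tensorMod ((Scheme.Modules.pullback (𝟙 A * (toUnit A ≫ (a * b))).left).obj L) L ≅
      CohB1.tensorMod ((Scheme.Modules.pullback (𝟙 A * (toUnit A ≫ a)).left).obj L)
        ((Scheme.Modules.pullback (𝟙 A * (toUnit A ≫ b)).left).obj L)) := by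
  have h1 := square (L := L) (hL := hL) hfin (𝟙 A) (toUnit A ≫ a) (toUnit A ≫ b)
  rw [mul_assoc (𝟙 A), ← MonObj.comp_mul, P_const, P_const, P_const, mul_one, mul_one, mul_one, P_id] at h1
  replace h1 := congrArg Subtype.val h1
  simp only [P, PicGrp.mul_val, PicGrp.cls_val, PicGrp.mulCl_cl] at h1
  exact (PicGrp.cl_eq_cl_iff _ _).1 h1

theorem cl_pow (hfin : FinH1.{u}) (n : ℕ) (hL : PicF.IsInvertible L) :
    Nonempty ((Scheme.Modules.pullback (𝟙 A ^ n).left).obj L ≅ CohB1.tensorMod (CohB1.tensorPow L (n * (n + 1) / 2))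
      (CohB1.tensorPow ((Scheme.Modules.pullback ((𝟙 A)⁻¹).left).obj L) (n * (n - 1) / 2))) := by
  have h1 := congrArg Subtype.val (P_pow (L := L) (hL := hL) hfin n)
  rw [P_id, PicGrp.mul_val, P, P, PicGrp.cls_val, PicGrp.cls_pow_val, PicGrp.cls_pow_val, PicGrp.mulCl_cl] at h1
  exact (PicGrp.cl_eq_cl_iff _ _).1 h1

/-- The map `a ↦ t_a^*L ⊗ L⁻¹` is unchanged on replacing `L` by its pullback along the inversion. -/
theorem cl_phi_inv (hfin : FinH1.{u}) (a : 𝟙_ (Over (Spec (CommRingCat.of k))) ⟶ A) (hL : PicF.IsInvertible L) :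
    Nonempty (CohB1.tensorMod ((Scheme.Modules.pullback (𝟙 A * (toUnit A ≫ a)).left).obj
        ((Scheme.Modules.pullback ((𝟙 A)⁻¹).left).obj L)) L ≅
      CohB1.tensorMod ((Scheme.Modules.pullback ((𝟙 A)⁻¹).left).obj L)
        ((Scheme.Modules.pullback (𝟙 A * (toUnit A ≫ a)).left).obj L)) := by
  have h1 := square (L := L) (hL := hL) hfin (𝟙 A) ((𝟙 A)⁻¹ * (toUnit A ≫ a⁻¹)) (toUnit A ≫ a)
  have e1 : 𝟙 A * ((𝟙 A)⁻¹ * (toUnit A ≫ a⁻¹)) = toUnit A ≫ a⁻¹ := by rw [mul_inv_cancel_left]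
  have e2 : ((𝟙 A)⁻¹ * (toUnit A ≫ a⁻¹)) * (toUnit A ≫ a) = (𝟙 A)⁻¹ := by
    rw [mul_assoc, ← MonObj.comp_mul, inv_mul_cancel, MonObj.comp_one, mul_one]
  rw [e1, e2, ← MonObj.comp_mul, P_const, P_const, P_const, mul_one, one_mul, one_mul, P_id] at h1
  have e3 : (𝟙 A * (toUnit A ≫ a)) ≫ (𝟙 A)⁻¹ = (toUnit A ≫ a⁻¹) * (𝟙 A)⁻¹ := by
    rw [GrpObj.comp_inv, Category.comp_id, mul_inv_rev, GrpObj.comp_inv]
  haveI := isCommMonObj_of_isProper_of_geometricallyIntegral A
  have h2 : P L hL ((𝟙 A * (toUnit A ≫ a)) ≫ (𝟙 A)⁻¹) * PicGrp.cls L hL =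
      P L hL (𝟙 A)⁻¹ * P L hL (𝟙 A * (toUnit A ≫ a)) := by
    rw [e3, mul_comm (toUnit A ≫ a⁻¹), mul_comm _ (PicGrp.cls L hL), h1, mul_comm]
  rw [← pullHom_P] at h2
  replace h2 := congrArg Subtype.val h2
  simp only [P, PicGrp.pullHom_cls, PicGrp.mul_val, PicGrp.cls_val, PicGrp.mulCl_cl] at h2
  exact (PicGrp.cl_eq_cl_iff _ _).1 h2

end Groth.Agent.CubeField
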