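import Groth.Agent.Lib.CubeField.Lift
import Groth.Agent.Lib.CohFound.Flasque
import Groth.Agent.Lib.CohFound.HHBridge
import Mathlib.RingTheory.Filtration
import Mathlib.RingTheory.Finiteness.Basic

/-!
# Finiteness of `H¹` makes cocycle classes separated

The class of a cocycle of sections is the coboundary of the section of the injective cokernel it
defines; it commutes with scalars, so finiteness of `H¹` gives the Krull intersection property.
-/

universe u

open CategoryTheory Limits AlgebraicGeometry TopologicalSpace Opposite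

set_option linter.style.haveILetI false
set_option backward.isDefEq.respectTransparency false

namespace Groth.Agent.CubeField

section sheaf

open CohFound

variable {X : TopCat.{u}} {ι : Type}

/-- Restriction of sections of an abelian sheaf. -/
abbrev ab (F : CohTop.Ab X) {U V : Opens X} (h : V ≤ U) : F.obj.obj (op U) →+ F.obj.obj (op V) :=
  (F.obj.map (homOfLE h).op).hom

theorem ab_ab (F : CohTop.Ab X) {U V T : Opens X} (h : V ≤ U) (h' : T ≤ V) (a : F.obj.obj (op U)) :
    ab F h' (ab F h a) = ab F (h'.trans h) a := by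
  simp only [ab, ← AddMonoidHom.comp_apply, ← AddCommGrpCat.hom_comp,
    ← F.obj.map_comp]
  rfl

theorem app_ab {F G : CohTop.Ab X} (φ : F ⟶ G) {U V : Opens X} (h : V ≤ U) (a : F.obj.obj (op U)) :
    φ.hom.app (op V) (ab F h a) = ab G h (φ.hom.app (op U) a) :=
  ConcreteCategory.congr_hom (φ.hom.naturality (homOfLE h).op) a

theorem eq_of_cover (F : CohTop.Ab X) {κ : Type} (P : κ → Opens X) {U : Opens X} (hle : ∀ a, P a ≤ U)
    (hU : U ≤ ⨆ a, P a) {s t : F.obj.obj (op U)} (h : ∀ a, ab F (hle a) s = ab F (hle a) t) : s = t :=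
  TopCat.Sheaf.eq_of_locally_eq' (F : TopCat.Sheaf AddCommGrpCat X) P U (fun a => homOfLE (hle a)) hU s t h

theorem exists_glue_ab (F : CohTop.Ab X) {κ : Type} (P : κ → Opens X) {U : Opens X} (hle : ∀ a, P a ≤ U)
    (hU : U ≤ ⨆ a, P a) (s : ∀ a, F.obj.obj (op (P a)))
    (h : ∀ a b, ab F inf_le_left (s a) = ab F (inf_le_right : P a ⊓ P b ≤ P b) (s b)) :
    ∃ t : F.obj.obj (op U), ∀ a, ab F (hle a) t = s a := by
  obtain ⟨t, ht, -⟩ := TopCat.Sheaf.existsUnique_gluing' (F : TopCat.Sheaf AddCommGrpCat X) P U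
    (fun a => homOfLE (hle a)) hU s h
  exact ⟨t, ht⟩

/-- The cocycle condition for sections. -/
def IsCocycleAb (F : CohTop.Ab X) (V : ι → Opens X) (s : ∀ i j, F.obj.obj (op (V i ⊓ V j))) : Prop :=
  ∀ (i j k : ι) (U : Opens X) (hi : U ≤ V i) (hj : U ≤ V j) (hk : U ≤ V k),
    ab F (le_inf hi hj) (s i j) + ab F (le_inf hj hk) (s j k) = ab F (le_inf hi hk) (s i k)

/-- Cocycles in a flasque sheaf are coboundaries. -/
theorem exists_boundary_flasque (I : CohTop.Ab X) [TopCat.Sheaf.IsFlasque I] {n : ℕ} (V : Fin n → Opens X)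
    (s : ∀ i j, I.obj.obj (op (V i ⊓ V j))) (hs : IsCocycleAb I V s) :
    ∃ h : ∀ i, I.obj.obj (op (V i)), ∀ i j, ab I inf_le_left (h i) - ab I inf_le_right (h j) = s i j := by
  induction n with
  | zero => exact ⟨fun i => i.elim0, fun i => i.elim0⟩
  | succ n IH =>
    obtain ⟨h, hh⟩ := IH (fun i => V i.castSucc) (fun i j => s i.castSucc j.castSucc)
      (fun i j k => hs i.castSucc j.castSucc k.castSucc)
    let m := Fin.last n
    let P : Fin n → Opens X := fun i => V m ⊓ V i.castSucc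
    obtain ⟨t, ht⟩ := exists_glue_ab I P (U := ⨆ i, P i) (fun i => le_iSup P i) le_rfl
      (fun i => ab I inf_le_right (h i) + s m i.castSucc) fun i j => by
        rw [map_add, map_add, ab_ab, ab_ab, ← hs m i.castSucc j.castSucc (P i ⊓ P j)
          (inf_le_left.trans inf_le_left) (inf_le_left.trans inf_le_right) (inf_le_right.trans inf_le_right)]
        have h1 := congrArg (ab I (le_inf (inf_le_left.trans inf_le_right) (inf_le_right.trans inf_le_right) :
          P i ⊓ P j ≤ V i.castSucc ⊓ V j.castSucc)) (hh i j)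
        rw [map_sub, ab_ab, ab_ab] at h1
        rw [← h1]
        abel
    obtain ⟨t', ht'⟩ := flasque_surjective I (U := V m) (V := ⨆ i, P i) (iSup_le fun i => inf_le_left) t
    change ab I _ t' = t at ht'
    have hnew : ∀ i, ab I (inf_le_left : P i ≤ V m) t' - ab I inf_le_right (h i) = s m i.castSucc := fun i => by
      have h1 := ht i
      rw [← ht', ab_ab] at h1
      rw [h1]; abel
    refine ⟨Fin.lastCases t' h, fun i j => ?_⟩
    have hself : ∀ i, s i i = 0 := fun i => by
      have h1 := hs i i i (V i ⊓ V i) inf_le_left inf_le_left inf_le_left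
      have h2 : ab I (le_inf inf_le_left inf_le_left : V i ⊓ V i ≤ V i ⊓ V i) (s i i) = s i i :=
        ConcreteCategory.congr_hom (I.obj.map_id (op (V i ⊓ V i))) (s i i)
      rw [h2] at h1
      exact add_left_cancel (h1.trans (add_zero _).symm)
    refine Fin.lastCases ?_ (fun i => ?_) i
    · refine Fin.lastCases ?_ (fun j => ?_) j
      · dsimp only
        rw [Fin.lastCases_last, hself, sub_eq_zero]
      · dsimp only
        rw [Fin.lastCases_last, Fin.lastCases_castSucc]
        exact hnew j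
    · refine Fin.lastCases ?_ (fun j => ?_) j
      · dsimp only
        rw [Fin.lastCases_last, Fin.lastCases_castSucc]
        have h1 := congrArg (ab I (le_inf inf_le_right inf_le_left : V i.castSucc ⊓ V m ≤ P i)) (hnew i)
        rw [map_sub, ab_ab, ab_ab] at h1
        have h2 := hs i.castSucc m i.castSucc (V i.castSucc ⊓ V m) inf_le_left inf_le_right inf_le_left
        rw [hself, map_zero] at h2
        have h3 : ab I (le_inf inf_le_left inf_le_right : V i.castSucc ⊓ V m ≤ _) (s i.castSucc m) = s i.castSucc m :=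
          ConcreteCategory.congr_hom (I.obj.map_id (op (V i.castSucc ⊓ V m))) (s i.castSucc m)
        rw [h3, add_eq_zero_iff_eq_neg, ← h1, neg_sub] at h2
        exact h2.symm
      · dsimp only
        rw [Fin.lastCases_castSucc, Fin.lastCases_castSucc]
        exact hh i j

variable {S : ShortComplex (CohTop.Ab X)} (hS : S.ShortExact)

include hS in
theorem injective_app_f (U : Opens X) : Function.Injective (S.f.hom.app (op U)) := by
  intro a b hab
  obtain ⟨a, rfl⟩ := (hc0 S.X₁ U).surjective a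
  obtain ⟨b, rfl⟩ := (hc0 S.X₁ U).surjective b
  rw [← hc0_mp, ← hc0_mp] at hab
  exact congrArg _ (mp_f_injective hS U ((hc0 S.X₂ U).injective hab))

include hS in
theorem exists_app_f_eq (U : Opens X) (a : S.X₂.obj.obj (op U)) (ha : S.g.hom.app (op U) a = 0) :
    ∃ b, S.f.hom.app (op U) b = a := by
  obtain ⟨a, rfl⟩ := (hc0 S.X₂ U).surjective a
  rw [← hc0_mp] at ha
  obtain ⟨b, hb⟩ := exact₂ hS 0 U a ((hc0 S.X₃ U).injective (by rw [ha, map_zero]))
  exact ⟨hc0 S.X₁ U b, by rw [← hc0_mp, hb]⟩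

variable (F : CohTop.Ab X) (V : ι → Opens X)

/-- `x` is the class of the cocycle `s`. -/
def IsClass (s : ∀ i j, F.obj.obj (op (V i ⊓ V j))) (x : Hc F 1 (⊤ : Opens X)) : Prop :=
  ∃ (h : ∀ i, (injSC F).X₂.obj.obj (op (V i))) (q : (injSC F).X₃.obj.obj (op (⊤ : Opens X))),
    (∀ i j, ab _ inf_le_left (h i) - ab _ (inf_le_right : V i ⊓ V j ≤ V j) (h j) =
      (injSC F).f.hom.app (op (V i ⊓ V j)) (s i j)) ∧
    (∀ i, ab _ le_top q = (injSC F).g.hom.app (op (V i)) (h i)) ∧
    x = delta (injSC_shortExact F) 0 ⊤ ((hc0 (injSC F).X₃ ⊤).symm q)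

theorem g_f_app (U : Opens X) (a : F.obj.obj (op U)) :
    (injSC F).g.hom.app (op U) ((injSC F).f.hom.app (op U) a) = 0 := by
  have h := congrArg (fun φ => φ.hom.app (op U)) (injSC F).zero
  exact ConcreteCategory.congr_hom h a

theorem exists_isClass {n : ℕ} (V : Fin n → Opens X) (hcov : ⨆ i, V i = ⊤)
    (s : ∀ i j, F.obj.obj (op (V i ⊓ V j))) (hs : IsCocycleAb F V s) : ∃ x, IsClass F V s x := by
  haveI : TopCat.Sheaf.IsFlasque (injSC F).X₂ := isFlasque_of_injective (Injective.under F)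
  obtain ⟨h, hh⟩ := exists_boundary_flasque (injSC F).X₂ V (fun i j => (injSC F).f.hom.app (op (V i ⊓ V j)) (s i j))
    fun i j k U hi hj hk => by
      rw [← app_ab, ← app_ab, ← app_ab, ← map_add, hs i j k U hi hj hk]
  obtain ⟨q, hq⟩ := exists_glue_ab (injSC F).X₃ V (U := ⊤) (fun _ => le_top) hcov.ge
    (fun i => (injSC F).g.hom.app (op (V i)) (h i)) fun i j => by
      rw [← app_ab, ← app_ab, ← sub_eq_zero, ← map_sub, hh i j]
      exact g_f_app F _ _
  exact ⟨_, h, q, hh, hq, rfl⟩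

theorem IsClass.eq_boundary {s : ∀ i j, F.obj.obj (op (V i ⊓ V j))} (hs : IsClass F V s 0) :
    ∃ t : ∀ i, F.obj.obj (op (V i)), ∀ i j, ab F inf_le_left (t i) - ab F inf_le_right (t j) = s i j := by
  obtain ⟨h, q, hh, hq, hx⟩ := hs
  obtain ⟨r, hr⟩ := exact₃ (injSC_shortExact F) 0 ⊤ _ hx.symm
  have hr' : (injSC F).g.hom.app (op ⊤) (hc0 _ ⊤ r) = q := by
    rw [← hc0_mp, hr, AddEquiv.apply_symm_apply]
  choose t ht using fun i => exists_app_f_eq (injSC_shortExact F) (V i)
    (h i - ab _ (le_top : V i ≤ ⊤) (hc0 _ ⊤ r)) (by rw [map_sub, app_ab, hr', hq i, sub_self])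
  refine ⟨t, fun i j => injective_app_f (injSC_shortExact F) _ ?_⟩
  rw [map_sub, app_ab, app_ab, ht, ht, map_sub, map_sub, ab_ab, ab_ab, ← hh i j]
  abel

theorem IsClass.eq_mp (hcov : ⨆ i, V i = ⊤) {s s' : ∀ i j, F.obj.obj (op (V i ⊓ V j))}
    {x x' : Hc F 1 (⊤ : Opens X)} (hx : IsClass F V s x) (hx' : IsClass F V s' x') (φ : F ⟶ F)
    (t : ∀ i, F.obj.obj (op (V i)))
    (h : ∀ i j, s i j = φ.hom.app (op (V i ⊓ V j)) (s' i j) + (ab F inf_le_left (t i) - ab F inf_le_right (t j))) :
    x = mp φ 1 ⊤ x' := by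
  obtain ⟨a, q, ha, hq, rfl⟩ := hx
  obtain ⟨a', q', ha', hq', rfl⟩ := hx'
  let φI : (injSC F).X₂ ⟶ (injSC F).X₂ := Injective.factorThru (φ ≫ (injSC F).f) (injSC F).f
  have hφI : (injSC F).f ≫ φI = φ ≫ (injSC F).f := Injective.comp_factorThru _ _
  let φQ : (injSC F).X₃ ⟶ (injSC F).X₃ := cokernel.desc _ (φI ≫ (injSC F).g)
    (by rw [← Category.assoc, show Injective.ι F ≫ φI = φ ≫ Injective.ι F from hφI, Category.assoc,
      (injSC F).zero, comp_zero])
  have hφQ : (injSC F).g ≫ φQ = φI ≫ (injSC F).g := cokernel.π_desc _ _ _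
  let Φ : injSC F ⟶ injSC F := ShortComplex.homMk φ φI φQ hφI.symm hφQ.symm
  refine Eq.trans ?_ (delta_natural (injSC_shortExact F) (injSC_shortExact F) Φ 0 ⊤ _).symm
  rw [← sub_eq_zero, ← map_sub]
  have happ : ∀ (U : Opens X) (z : F.obj.obj (op U)),
      φI.hom.app (op U) ((injSC F).f.hom.app (op U) z) = (injSC F).f.hom.app (op U) (φ.hom.app (op U) z) :=
    fun U z => ConcreteCategory.congr_hom (congrArg (fun ψ => ψ.hom.app (op U)) hφI) z
  have hgQ : ∀ (U : Opens X) (z : (injSC F).X₂.obj.obj (op U)),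
      φQ.hom.app (op U) ((injSC F).g.hom.app (op U) z) = (injSC F).g.hom.app (op U) (φI.hom.app (op U) z) :=
    fun U z => ConcreteCategory.congr_hom (congrArg (fun ψ => ψ.hom.app (op U)) hφQ) z
  obtain ⟨r, hr⟩ := exists_glue_ab (injSC F).X₂ V (U := ⊤) (fun _ => le_top) hcov.ge
    (fun i => a i - φI.hom.app (op (V i)) (a' i) - (injSC F).f.hom.app (op (V i)) (t i)) fun i j => by
      simp only [map_sub, ← app_ab]
      rw [← sub_eq_zero]
      have h1 := congrArg (φI.hom.app (op (V i ⊓ V j))) (ha' i j)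
      rw [map_sub, happ] at h1
      have h2 := ha i j
      rw [h i j, map_add, map_sub, ← h1] at h2
      rw [← sub_eq_zero] at h2
      rw [← h2]
      abel
  have hkey : (hc0 (injSC F).X₃ ⊤).symm q - mp Φ.τ₃ 0 ⊤ ((hc0 (injSC F).X₃ ⊤).symm q') =
      mp (injSC F).g 0 ⊤ ((hc0 (injSC F).X₂ ⊤).symm r) := by
    apply (hc0 (injSC F).X₃ ⊤).injective
    rw [map_sub, hc0_mp, hc0_mp, AddEquiv.apply_symm_apply, AddEquiv.apply_symm_apply, AddEquiv.apply_symm_apply]
    refine eq_of_cover _ V (fun _ => le_top) hcov.ge fun i => ?_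
    show ab _ _ (q - φQ.hom.app _ q') = ab _ _ _
    rw [map_sub, ← app_ab, ← app_ab, hq i, hq' i, hr i, map_sub, map_sub, hgQ, g_f_app, sub_zero]
  rw [hkey, delta_mp]

end sheaf

theorem smul_cocycle {W : Scheme.{u}} (L : W.Modules) {U : W.Opens} (m : Γ(L, U)) {a b g z : Γ(W, U)}
    (h : a + g * b = z) : a • m + b • g • m = z • m := by
  rw [← h, add_smul, ← mul_smul, mul_comm]

theorem smul_boundary {W : Scheme.{u}} (L : W.Modules) {U : W.Opens} (m : Γ(L, U)) {a p b x y g : Γ(W, U)}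
    (h : a = p * b + (x - g * y)) : a • m = p • b • m + (x • m - y • g • m) := by
  rw [h, add_smul, sub_smul, mul_smul, ← mul_smul y g, mul_comm y]

theorem smul_boundary' {W : Scheme.{u}} (L : W.Modules) {U : W.Opens} (m : Γ(L, U)) (x y g : Γ(W, U)) :
    x • m - y • g • m = (x - g * y) • m := by
  rw [sub_smul, ← mul_smul y g, mul_comm y]

open CohFound RigidRel in
theorem isHausdorffH1_of_finite {R : CommRingCat.{u}} [IsLocalRing R] [IsNoetherianRing R] {W : Scheme.{u}}
    (ξ : W ⟶ Spec R) {n : ℕ} (c : Coc W (Fin n)) (hcov : ⨆ i, c.V i = ⊤) (L : W.Modules) (T : Triv L c)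
    (π : R) (hπ : π ∈ IsLocalRing.maximalIdeal R)
    (hfin : letI : W.Over (Spec (CommRingCat.of R)) := ⟨ξ⟩; Module.Finite R (Coh.HH W L 1)) :
    IsHausdorffH1 ξ c π := by
  letI : W.Over (Spec (CommRingCat.of R)) := ⟨ξ⟩
  haveI : Module.Finite R (Coh.HH W L 1) := hfin
  intro w hw hdiv
  let F := (abF W).obj L
  -- a twisted cocycle gives a cocycle of sections
  let toS : (∀ i j, Γ(W, c.V i ⊓ c.V j)) → ∀ i j, F.obj.obj (op (c.V i ⊓ c.V j)) :=
    fun w i j => w i j • M1.mres L inf_le_left (T.e i)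
  have hres : ∀ {U U' : W.Opens} (h : U' ≤ U) (r : Γ(W, U)) (z : Γ(L, U)),
      ab F h (show Γ(L, U) from r • z) = rs h r • M1.mres L h z := fun h r z => M1.mres_smul L h r z
  have htrans : ∀ (i j : Fin n) (U : W.Opens) (hi : U ≤ c.V i) (hj : U ≤ c.V j),
      M1.mres L hj (T.e j) = rs (le_inf hi hj) (c.g i j) • M1.mres L hi (T.e i) := fun i j U hi hj => by
    have h1 := congrArg (M1.mres L (le_inf hi hj)) (T.trans i j)
    rw [M1.mres_mres, M1.mres_smul, M1.mres_mres] at h1
    exact h1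
  have htoS : ∀ w, c.IsTwisted w → IsCocycleAb F c.V (toS w) := fun w hw i j k U hi hj hk => by
    simp only [toS, hres, M1.mres_mres]
    rw [htrans i j U hi hj]
    exact smul_cocycle L _ (hw i j k U hi hj hk)
  obtain ⟨x, hx⟩ := exists_isClass F c.V hcov _ (htoS w hw)
  -- the class is infinitely divisible
  have hzero : (hhExt L 1).symm x = 0 := by
    have hmem : (hhExt L 1).symm x ∈
        (⨅ m : ℕ, (IsLocalRing.maximalIdeal R) ^ m • ⊤ : Submodule R (Coh.HH W L 1)) := by
      rw [Submodule.mem_iInf]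
      intro m
      obtain ⟨w', u, hw', hu⟩ := hdiv m
      obtain ⟨x', hx'⟩ := exists_isClass F c.V hcov _ (htoS w' hw')
      let r : Coh.Γtop W := Coh.toGlobal ξ (π ^ m)
      have hxx : x = mp (Coh.smulAb L r) 1 ⊤ x' := hx.eq_mp F c.V hcov hx' (Coh.smulAb L r)
        (fun i => u i • T.e i) fun i j => by
          simp only [toS, hres]
          rw [htrans i j _ inf_le_left inf_le_right]
          refine smul_boundary L _ ?_
          rw [hu i j, Coc.dd, rs_self]
          congr 2
      have h2 : (hhExt L 1).symm x = π ^ m • (hhExt L 1).symm x' := by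
        apply (hhExt L 1).injective
        rw [AddEquiv.apply_symm_apply, hxx]
        conv_lhs => rw [← (hhExt L 1).apply_symm_apply x']
        exact (hExt_map (Coh.smulAb L r) 1 _).symm
      rw [h2]
      exact Submodule.smul_mem_smul (Ideal.pow_mem_pow hπ m) Submodule.mem_top
    rw [Ideal.iInf_pow_smul_eq_bot_of_isLocalRing _ (IsLocalRing.maximalIdeal.isMaximal R).ne_top] at hmem
    exact hmem
  rw [AddEquiv.map_eq_zero_iff] at hzero
  subst hzero
  obtain ⟨t, ht⟩ := hx.eq_boundary F c.V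
  choose u hu using fun i => (T.gen i (c.V i) le_rfl).2 (t i)
  simp only [M1.mres_id] at hu
  refine ⟨u, fun i j => ?_⟩
  refine (T.gen i (c.V i ⊓ c.V j) inf_le_left).1 ?_
  have h1 : toS w i j = ab F inf_le_left (show Γ(L, c.V i) from u i • T.e i) -
      ab F inf_le_right (show Γ(L, c.V j) from u j • T.e j) := by
    rw [hu i, hu j]; exact (ht i j).symm
  simp only [toS, hres] at h1
  rw [htrans i j _ inf_le_left inf_le_right] at h1
  refine h1.trans ((smul_boundary' L _ _ _ _).trans ?_)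
  rw [Coc.dd, rs_self]

end Groth.Agent.CubeField
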