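import Groth.Agent.Lib.CubeField.DvrCube
import Groth.Agent.Lib.CubeField.H1
import Groth.Agent.Lib.GITQuot.Orbit
import Groth.Agent.Lib.RigidRel.H0Geom
import Mathlib.AlgebraicGeometry.Geometrically.Integral
import Mathlib.AlgebraicGeometry.Geometrically.Reduced

/-!
# Products over a field and their base changes to discrete valuation rings
-/

universe u

open CategoryTheory Limits MonoidalCategory CartesianMonoidalCategory AlgebraicGeometry TopologicalSpace Opposite

set_option linter.style.haveILetI false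
set_option backward.isDefEq.respectTransparency false

namespace Groth.Agent.CubeField

open RigidRel GITQuot

/-- Finiteness of `H¹` of invertible modules on proper schemes over noetherian rings. -/
def FinH1 : Prop :=
  ∀ (A : Type u) [CommRing A] [IsNoetherianRing A] (W : Scheme.{u}) [W.Over (Spec (CommRingCat.of A))]
    [IsProper (W ↘ Spec (CommRingCat.of A))] (L : W.Modules), PicF.IsInvertible L →
    Module.Finite A (Coh.HH W L 1)

section general

variable {B : Scheme.{u}} (X Y S : Over B)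

theorem isPullback_snd : IsPullback (fst X S).left (snd X S).left X.hom S.hom :=
  IsPullback.of_hasPullback X.hom S.hom

/-- The slice through a section of the second factor. -/
noncomputable abbrev iX (y₀ : 𝟙_ (Over B) ⟶ Y) : X ⊗ S ⟶ (X ⊗ Y) ⊗ S := lift (𝟙 X) (toUnit X ≫ y₀) ▷ S

/-- The slice through a section of the first factor. -/
noncomputable abbrev iY (x₀ : 𝟙_ (Over B) ⟶ X) : Y ⊗ S ⟶ (X ⊗ Y) ⊗ S := lift (toUnit Y ≫ x₀) (𝟙 Y) ▷ S

theorem isPullback_pr : IsPullback (fst X Y ▷ S).left (snd X Y ▷ S).left (snd X S).left (snd Y S).left := by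
  have h1 : IsPullback ((fst (X ⊗ Y) S).left ≫ (fst X Y).left) (snd X Y ▷ S).left X.hom
      ((fst Y S).left ≫ Y.hom) :=
    ((isPullback_whiskerRight (snd X Y) S).flip).paste_horiz (isPullback_snd X Y)
  have e : (fst (X ⊗ Y) S).left ≫ (fst X Y).left = (fst X Y ▷ S).left ≫ (fst X S).left := by
    rw [← Over.comp_left, ← Over.comp_left, whiskerRight_fst]
  rw [e, show (fst Y S).left ≫ Y.hom = (snd Y S).left ≫ S.hom from (Over.w (fst Y S)).trans (Over.w (snd Y S)).symm]
    at h1
  exact IsPullback.of_right h1 (by rw [← Over.comp_left, ← Over.comp_left, whiskerRight_snd, whiskerRight_snd])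
    (isPullback_snd X S)

variable {X Y S}

theorem iX_fst (y₀ : 𝟙_ (Over B) ⟶ Y) : iX X Y S y₀ ≫ fst X Y ▷ S = 𝟙 _ := by
  rw [← comp_whiskerRight, lift_fst, id_whiskerRight]

theorem iY_snd (x₀ : 𝟙_ (Over B) ⟶ X) : iY X Y S x₀ ≫ snd X Y ▷ S = 𝟙 _ := by
  rw [← comp_whiskerRight, lift_snd, id_whiskerRight]

/-- The section given by a point. -/
noncomputable abbrev secOf (S : Over B) (y₀ : 𝟙_ (Over B) ⟶ Y) : S ⟶ Y ⊗ S := lift (toUnit S ≫ y₀) (𝟙 S)

theorem iX_snd (y₀ : 𝟙_ (Over B) ⟶ Y) : iX X Y S y₀ ≫ snd X Y ▷ S = snd X S ≫ secOf S y₀ := by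
  ext : 1
  · rw [Category.assoc, whiskerRight_fst, whiskerRight_fst_assoc, lift_snd, Category.assoc,
      lift_fst, ← Category.assoc, ← Category.assoc, toUnit_unique (fst X S ≫ toUnit X) (snd X S ≫ toUnit S)]
  · rw [Category.assoc, whiskerRight_snd, whiskerRight_snd, Category.assoc, lift_snd, Category.comp_id]

theorem iY_fst (x₀ : 𝟙_ (Over B) ⟶ X) : iY X Y S x₀ ≫ fst X Y ▷ S = snd Y S ≫ secOf S x₀ := by
  ext : 1
  · rw [Category.assoc, whiskerRight_fst, whiskerRight_fst_assoc, lift_fst, Category.assoc,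
      lift_fst, ← Category.assoc, ← Category.assoc, toUnit_unique (fst Y S ≫ toUnit Y) (snd Y S ≫ toUnit S)]
  · rw [Category.assoc, whiskerRight_snd, whiskerRight_snd, Category.assoc, lift_snd, Category.comp_id]

instance isSeparated_sndLeft [IsSeparated X.hom] : IsSeparated (snd X S).left :=
  MorphismProperty.of_isPullback (isPullback_snd X S) inferInstance

theorem isAffineHom_of_section {P Q : Scheme.{u}} (i : P ⟶ Q) (p : Q ⟶ P) [IsSeparated p] (h : i ≫ p = 𝟙 _) :
    IsAffineHom i := by
  haveI : IsAffineHom (i ≫ p) := by rw [h]; infer_instance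
  exact IsAffineHom.of_comp i p

end general

theorem geometricallyConnected_of_irreducible {P Q : Scheme.{u}} (f : P ⟶ Q) [GeometricallyIrreducible f] :
    GeometricallyConnected f :=
  ⟨fun K _ y Z fst snd h =>
    haveI := GeometricallyIrreducible.geometrically_irreducibleSpace (f := f) y fst snd h
    inferInstance⟩

variable {k : Type u} [Field k] {X Y : Over (Spec (CommRingCat.of k))}

theorem snd_proper [IsProper X.hom] (S : Over (Spec (CommRingCat.of k))) :
    IsProper (snd X S).left ∧ Flat (snd X S).left ∧ LocallyOfFinitePresentation (snd X S).left :=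
  haveI : IsProper (snd X S).left := MorphismProperty.of_isPullback (isPullback_snd X S) inferInstance
  ⟨inferInstance, MorphismProperty.of_isPullback (isPullback_snd X S) inferInstance,
    MorphismProperty.of_isPullback (isPullback_snd X S) (inferInstance : LocallyOfFinitePresentation X.hom)⟩

theorem constFibres_snd [IsProper X.hom] [GeometricallyConnected X.hom] [GeometricallyReduced X.hom]
    (S : Over (Spec (CommRingCat.of k))) : ConstFibres (snd X S).left :=
  (constFibres_of_geometrically X.hom).baseChange S.hom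

theorem bijective_app_prod [IsProper X.hom] [GeometricallyIntegral X.hom] (S : Over (Spec (CommRingCat.of k)))
    (U : (Y ⊗ S).left.Opens) (hU : IsAffineOpen U) : Function.Bijective ((snd X Y ▷ S).left.app U).hom := by
  have h := isPullback_pr X Y S
  obtain ⟨hp, hf, hl⟩ := snd_proper (X := X) S
  haveI : IsProper (snd X Y ▷ S).left := MorphismProperty.of_isPullback h hp
  haveI : Flat (snd X Y ▷ S).left := MorphismProperty.of_isPullback h hf
  haveI : LocallyOfFinitePresentation (snd X Y ▷ S).left := MorphismProperty.of_isPullback h hl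
  haveI : Surjective (snd X S).left := MorphismProperty.of_isPullback (isPullback_snd X S) inferInstance
  haveI : Surjective (snd X Y ▷ S).left := MorphismProperty.of_isPullback h inferInstance
  haveI := geometricallyConnected_of_irreducible X.hom
  refine bijective_app' _ (fun K _ x => ?_) hU
  have hK := constFibres_snd (X := X) S K (x ≫ (snd Y S).left)
  have hsq : IsPullback (pullback.fst (snd X Y ▷ S).left x ≫ (fst X Y ▷ S).left)
      (pullback.snd (snd X Y ▷ S).left x) (snd X S).left (x ≫ (snd Y S).left) :=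
    (IsPullback.of_hasPullback (snd X Y ▷ S).left x).paste_horiz h
  exact appTop_surjective_of_iso hsq.isoPullback _ _ hsq.isoPullback_hom_snd hK

theorem surjective_ringMap_prod [IsProper X.hom] [GeometricallyIntegral X.hom]
    [IsProper Y.hom] [GeometricallyReduced Y.hom] [GeometricallyConnected Y.hom]
    (y₀ : 𝟙_ (Over (Spec (CommRingCat.of k))) ⟶ Y) {R : CommRingCat.{u}} (s : Spec R ⟶ Spec (CommRingCat.of k)) :
    Function.Surjective (ringMap (snd (X ⊗ Y) (Over.mk s)).left ⊤).hom := by
  haveI : IsIso ((snd X Y ▷ Over.mk s).left.app ⊤) :=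
    isIso_app_of_bijective _ (fun U hU => bijective_app_prod _ U hU) ⊤
  obtain ⟨hp, hf, hl⟩ := snd_proper (X := Y) (Over.mk s)
  haveI : Surjective (snd Y (Over.mk s)).left :=
    ⟨fun z => ⟨(secOf (Over.mk s) y₀).left z, by
      rw [← Scheme.Hom.comp_apply, ← Over.comp_left, lift_snd]; rfl⟩⟩
  have hY := (bijective_ringMap (snd Y (Over.mk s)).left (constFibres_snd (X := Y) (Over.mk s))).2
  have e : (snd (X ⊗ Y) (Over.mk s)).left = (snd X Y ▷ Over.mk s).left ≫ (snd Y (Over.mk s)).left := by
    rw [← Over.comp_left, whiskerRight_snd]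
  rw [e, ← ringMap_comp]
  exact (ConcreteCategory.bijective_of_isIso ((snd X Y ▷ Over.mk s).left.app ⊤)).2.comp hY

/-- Both slices detect coboundaries. -/
theorem isCoboundary_of_iX_iY [IsProper X.hom] [GeometricallyIntegral X.hom]
    [IsProper Y.hom] [GeometricallyReduced Y.hom] [GeometricallyConnected Y.hom]
    (x₀ : 𝟙_ (Over (Spec (CommRingCat.of k))) ⟶ X) (y₀ : 𝟙_ (Over (Spec (CommRingCat.of k))) ⟶ Y)
    {K : Type u} [Field K] (s : Spec (CommRingCat.of K) ⟶ Spec (CommRingCat.of k))
    {ι : Type} (V : ι → ((X ⊗ Y) ⊗ Over.mk s).left.Opens) (hcov : ⨆ i, V i = ⊤)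
    (f : ∀ i j, Γ(((X ⊗ Y) ⊗ Over.mk s).left, V i ⊓ V j)) (hf : IsCocycle V f)
    (h₁ : IsCoboundary (fun i => (iY X Y _ x₀).left ⁻¹ᵁ V i) fun i j => (iY X Y _ x₀).left.app (V i ⊓ V j) (f i j))
    (h₂ : IsCoboundary (fun i => (iX X Y _ y₀).left ⁻¹ᵁ V i) fun i j => (iX X Y _ y₀).left.app (V i ⊓ V j) (f i j)) :
    IsCoboundary V f := by
  obtain ⟨hpX, -, -⟩ := snd_proper (X := X) (Over.mk s)
  obtain ⟨hpY, hfY, hlY⟩ := snd_proper (X := Y) (Over.mk s)
  haveI : CompactSpace (Over.mk s).left := inferInstanceAs (CompactSpace (Spec (CommRingCat.of K)))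
  haveI : CompactSpace (X ⊗ Over.mk s).left := QuasiCompact.compactSpace_of_compactSpace (snd X (Over.mk s)).left
  haveI : CompactSpace (Y ⊗ Over.mk s).left := QuasiCompact.compactSpace_of_compactSpace (snd Y (Over.mk s)).left
  haveI : Surjective (snd Y (Over.mk s)).left :=
    ⟨fun z => ⟨(secOf (Over.mk s) y₀).left z, by
      rw [← Scheme.Hom.comp_apply, ← Over.comp_left, lift_snd]; rfl⟩⟩
  refine isCoboundary_of_slices _ _ _ _ (isPullback_pr X Y (Over.mk s))
    (bijective_ringMap _ (constFibres_snd (X := Y) _)).2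
    (fun U hU => bijective_app_prod _ U hU) (iY X Y _ x₀).left ?_ (secOf (Over.mk s) x₀).left ?_
    (iX X Y _ y₀).left ?_ (secOf (Over.mk s) y₀).left ?_ ?_ V f hf hcov h₁ h₂
  · rw [← Over.comp_left, iY_snd]; rfl
  · rw [← Over.comp_left, iY_fst]; rfl
  · rw [← Over.comp_left, iX_fst]; rfl
  · rw [← Over.comp_left, iX_snd]; rfl
  · rw [← Over.comp_left, lift_snd]; rfl

variable [IsProper X.hom] [GeometricallyIntegral X.hom] [IsProper Y.hom] [GeometricallyReduced Y.hom]
  [GeometricallyConnected Y.hom]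
  (x₀ : 𝟙_ (Over (Spec (CommRingCat.of k))) ⟶ X) (y₀ : 𝟙_ (Over (Spec (CommRingCat.of k))) ⟶ Y)

theorem proper_prod (S : Over (Spec (CommRingCat.of k))) :
    IsProper (snd (X ⊗ Y) S).left ∧ Flat (snd (X ⊗ Y) S).left := by
  haveI : IsProper (X ⊗ Y).hom := by
    have e : (X ⊗ Y).hom = (snd X Y).left ≫ Y.hom := (Over.w (snd X Y)).symm
    haveI := (snd_proper (X := X) Y).1
    rw [e]; infer_instance
  exact ⟨(snd_proper S).1, (snd_proper S).2.1⟩

/-- Over a discrete valuation ring, triviality spreads from the special fibre. -/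
theorem trivial_special (hfin : FinH1.{u}) {R : CommRingCat.{u}} [IsDomain R] [IsLocalRing R] [IsNoetherianRing R]
    (s : Spec R ⟶ Spec (CommRingCat.of k)) (π : R) (hπ : π ≠ 0)
    (hm : IsLocalRing.maximalIdeal R = Ideal.span {π})
    {n : ℕ} (c : Coc ((X ⊗ Y) ⊗ Over.mk s).left (Fin n)) (hcov : ⨆ i, c.V i = ⊤)
    (hV : ∀ i, IsAffineOpen (c.V i)) (L : ((X ⊗ Y) ⊗ Over.mk s).left.Modules) (hL : PicF.IsInvertible L)
    (T : Triv L c) (hX : (c.pull (iX X Y _ y₀).left).Trivial) (hY : (c.pull (iY X Y _ x₀).left).Trivial)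
    (h₀ : (c.pull ((X ⊗ Y) ◁ (Over.homMk (Spec.map (CommRingCat.ofHom (Ideal.Quotient.mk (Ideal.span {π})))) rfl :
      Over.mk (Spec.map (CommRingCat.ofHom (Ideal.Quotient.mk (Ideal.span {π}))) ≫ s) ⟶ Over.mk s)).left).Trivial) :
    c.Trivial := by
  let S := Over.mk s
  let s₀ := Spec.map (CommRingCat.ofHom (Ideal.Quotient.mk (Ideal.span {π}))) ≫ s
  let a : Over.mk s₀ ⟶ S := Over.homMk (Spec.map (CommRingCat.ofHom (Ideal.Quotient.mk (Ideal.span {π})))) rfl
  haveI : (Ideal.span {π}).IsMaximal := hm ▸ IsLocalRing.maximalIdeal.isMaximal R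
  letI : Field (R ⧸ Ideal.span {π}) := Ideal.Quotient.field _
  obtain ⟨hp, hfl⟩ := proper_prod (X := X) (Y := Y) S
  change IsProper (snd (X ⊗ Y) S).left at hp
  haveI : (((X ⊗ Y) ⊗ S).left).IsSeparated :=
    ⟨by
      haveI : IsSeparated (terminal.from S.left) := inferInstanceAs (IsSeparated (terminal.from (Spec R)))
      rw [← Limits.terminal.comp_from (snd (X ⊗ Y) S).left]; infer_instance⟩
  have hsq : IsPullback ((X ⊗ Y) ◁ a).left (snd (X ⊗ Y) (Over.mk s₀)).left (snd (X ⊗ Y) S).left
      (quotBase (Ideal.span {π})) := isPullback_whiskerLeft a (X ⊗ Y)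
  letI : ((X ⊗ Y) ⊗ S).left.Over (Spec (CommRingCat.of R)) := ⟨(snd (X ⊗ Y) S).left⟩
  haveI : IsProper (((X ⊗ Y) ⊗ S).left ↘ Spec (CommRingCat.of R)) := hp
  have hH : IsHausdorffH1 (snd (X ⊗ Y) S).left c π :=
    isHausdorffH1_of_finite _ c hcov L T π (hm ▸ Ideal.mem_span_singleton_self π) (hfin R _ L hL)
  let Tb : Bool → Over (Spec (CommRingCat.of k)) := fun b => cond b X Y
  let ib : ∀ b (S : Over (Spec (CommRingCat.of k))), Tb b ⊗ S ⟶ (X ⊗ Y) ⊗ S := fun b S =>
    match b with
    | true => iX X Y S y₀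
    | false => iY X Y S x₀
  haveI : ∀ b, IsProper (Tb b).hom := fun b => by cases b <;> assumption
  haveI : ∀ b, GeometricallyReduced (Tb b).hom := fun b => by
    cases b
    · exact inferInstanceAs (GeometricallyReduced Y.hom)
    · exact inferInstanceAs (GeometricallyReduced X.hom)
  haveI : ∀ b, GeometricallyConnected (Tb b).hom := fun b => by
    cases b
    · exact inferInstanceAs (GeometricallyConnected Y.hom)
    · exact geometricallyConnected_of_irreducible X.hom
  haveI : ∀ b, Flat (snd (Tb b) S).left := fun b => (snd_proper S).2.1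
  haveI : ∀ b, IsProper (snd (Tb b) S).left := fun b => (snd_proper S).1
  haveI : ∀ b, LocallyOfFinitePresentation (snd (Tb b) S).left := fun b => (snd_proper S).2.2
  haveI : ∀ b, Surjective (snd (Tb b) S).left := fun b => by
    have pt : 𝟙_ (Over (Spec (CommRingCat.of k))) ⟶ Tb b := by
      cases b
      · exact y₀
      · exact x₀
    exact ⟨fun z => ⟨(secOf S pt).left z, by rw [← Scheme.Hom.comp_apply, ← Over.comp_left, lift_snd]; rfl⟩⟩
  have hib : ∀ b S, (ib b S) ≫ snd (X ⊗ Y) S = snd (Tb b) S := fun b S => by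
    cases b <;> exact whiskerRight_snd _ _
  have haff : ∀ b, IsAffineHom (ib b S).left := fun b => by
    haveI : IsAffineHom ((ib b S).left ≫ (snd (X ⊗ Y) S).left ≫ 𝟙 _) → True := fun _ => trivial
    cases b
    · haveI : IsSeparated (snd X Y ▷ S).left := MorphismProperty.of_isPullback (isPullback_pr X Y S) inferInstance
      exact isAffineHom_of_section _ (snd X Y ▷ S).left (by rw [← Over.comp_left, iY_snd]; rfl)
    · haveI : IsSeparated (fst X Y ▷ S).left :=
        MorphismProperty.of_isPullback (isPullback_pr X Y S).flip inferInstance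
      exact isAffineHom_of_section _ (fst X Y ▷ S).left (by rw [← Over.comp_left, iX_fst]; rfl)
  refine trivial_of_special (snd (X ⊗ Y) S).left c hcov hV (fun i j => (hV i).inf (hV j)) π hπ hm hH hsq
    (fun b => (Tb b ⊗ S).left) (fun b => (Tb b ⊗ Over.mk s₀).left) (fun b => (snd (Tb b) S).left)
    (fun b => constFibres_snd S) (fun b => (ib b S).left) (fun b => (ib b (Over.mk s₀)).left)
    (fun b => (Tb b ◁ a).left) (fun b => ?_) (fun b => by rw [← Over.comp_left, hib])
    (fun b i => (haff b).isAffine_preimage _ (hV i))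
    (fun b i j => (haff b).isAffine_preimage _ ((hV i).inf (hV j)))
    (fun b => by cases b; exacts [hY, hX]) (fun e he hb => ?_) h₀
  · rw [← Over.comp_left, ← Over.comp_left]
    cases b <;> exact congrArg (·.left) (whisker_exchange _ a)
  · have hcov₀ : ⨆ i, ((X ⊗ Y) ◁ a).left ⁻¹ᵁ c.V i = ⊤ := by
      rw [← Scheme.Hom.preimage_iSup, hcov]; rfl
    exact isCoboundary_of_iX_iY x₀ y₀ s₀ _ hcov₀ e he (hb false) (hb true)

set_option maxHeartbeats 1000000 in
include x₀ y₀ in
/-- Over a discrete valuation ring, triviality spreads from the generic fibre. -/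
theorem trivial_generic {R : CommRingCat.{u}} [IsDomain R] [IsLocalRing R] [IsNoetherianRing R]
    (s : Spec R ⟶ Spec (CommRingCat.of k)) (π : R) (hπ : π ≠ 0)
    (hm : IsLocalRing.maximalIdeal R = Ideal.span {π})
    {K : Type u} [Field K] (g : R ⟶ CommRingCat.of K) (hg : Function.Injective g.hom)
    (hden : ∀ b : K, ∃ r s, s ∈ nonZeroDivisors R ∧ b * g s = g r)
    {n : ℕ} (c : Coc ((X ⊗ Y) ⊗ Over.mk s).left (Fin n)) (hcov : ⨆ i, c.V i = ⊤)
    (hV : ∀ i, IsAffineOpen (c.V i)) (hY : (c.pull (iY X Y _ x₀).left).Trivial)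
    (hK : (c.pull ((X ⊗ Y) ◁ (Over.homMk (Spec.map g) rfl : Over.mk (Spec.map g ≫ s) ⟶ Over.mk s)).left).Trivial) :
    c.Trivial := by
  let S := Over.mk s
  let s₀ := Spec.map (CommRingCat.ofHom (Ideal.Quotient.mk (Ideal.span {π}))) ≫ s
  let a : Over.mk s₀ ⟶ S := Over.homMk (Spec.map (CommRingCat.ofHom (Ideal.Quotient.mk (Ideal.span {π})))) rfl
  haveI : (Ideal.span {π}).IsMaximal := hm ▸ IsLocalRing.maximalIdeal.isMaximal R
  letI : Field (R ⧸ Ideal.span {π}) := Ideal.Quotient.field _
  obtain ⟨hp, hfl⟩ := proper_prod (X := X) (Y := Y) S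
  change IsProper (snd (X ⊗ Y) S).left at hp
  change Flat (snd (X ⊗ Y) S).left at hfl
  haveI : (((X ⊗ Y) ⊗ S).left).IsSeparated :=
    ⟨by
      haveI : IsSeparated (terminal.from S.left) := inferInstanceAs (IsSeparated (terminal.from (Spec R)))
      rw [← Limits.terminal.comp_from (snd (X ⊗ Y) S).left]; infer_instance⟩
  haveI : IsLocallyNoetherian S.left := inferInstanceAs (IsLocallyNoetherian (Spec R))
  haveI : AlgebraicGeometry.IsReduced (Over.mk s₀).left :=
    inferInstanceAs (AlgebraicGeometry.IsReduced (Spec (CommRingCat.of (R ⧸ Ideal.span {π}))))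
  haveI : IsLocallyNoetherian (Over.mk s₀).left :=
    inferInstanceAs (IsLocallyNoetherian (Spec (CommRingCat.of (R ⧸ Ideal.span {π}))))
  haveI : IsLocallyNoetherian ((X ⊗ Y) ⊗ S).left := LocallyOfFiniteType.isLocallyNoetherian (snd (X ⊗ Y) S).left
  haveI hred : AlgebraicGeometry.IsReduced ((X ⊗ Y) ⊗ Over.mk s₀).left := by
    obtain ⟨hpY, hfY, hlY⟩ := snd_proper (X := Y) (Over.mk s₀)
    haveI : GeometricallyReduced (snd Y (Over.mk s₀)).left :=
      MorphismProperty.of_isPullback (isPullback_snd Y _) inferInstance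
    haveI : AlgebraicGeometry.IsReduced (Y ⊗ Over.mk s₀).left :=
      GeometricallyReduced.isReduced_of_flat_of_isLocallyNoetherian (snd Y (Over.mk s₀)).left
    haveI : IsLocallyNoetherian (Y ⊗ Over.mk s₀).left :=
      LocallyOfFiniteType.isLocallyNoetherian (snd Y (Over.mk s₀)).left
    obtain ⟨hpX, hfX, hlX⟩ := snd_proper (X := X) (Over.mk s₀)
    haveI : GeometricallyReduced (snd X (Over.mk s₀)).left :=
      MorphismProperty.of_isPullback (isPullback_snd X _) inferInstance
    haveI : GeometricallyReduced (snd X Y ▷ Over.mk s₀).left :=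
      MorphismProperty.of_isPullback (isPullback_pr X Y _) inferInstance
    haveI : Flat (snd X Y ▷ Over.mk s₀).left := MorphismProperty.of_isPullback (isPullback_pr X Y _) hfX
    exact GeometricallyReduced.isReduced_of_flat_of_isLocallyNoetherian (snd X Y ▷ Over.mk s₀).left
  obtain ⟨hpY, hfY, hlY⟩ := snd_proper (X := Y) S
  haveI : Surjective (snd Y S).left :=
    ⟨fun z => ⟨(secOf S y₀).left z, by rw [← Scheme.Hom.comp_apply, ← Over.comp_left, lift_snd]; rfl⟩⟩
  refine trivial_of_generic (snd (X ⊗ Y) S).left c hcov hV (fun i j => (hV i).inf (hV j)) π hπ hm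
    (isPullback_whiskerLeft a (X ⊗ Y)) g hg hden
    (isPullback_whiskerLeft (Over.homMk (Spec.map g) rfl : Over.mk (Spec.map g ≫ s) ⟶ S) (X ⊗ Y))
    (snd Y S).left (bijective_ringMap _ (constFibres_snd (X := Y) S)).2 (secOf S y₀).left
    (by rw [← Over.comp_left, lift_snd]; rfl) (iY X Y S x₀).left (by rw [← Over.comp_left, whiskerRight_snd]) hY
    (fun x hx => ?_) hK
  let q := (snd X Y ▷ Over.mk s₀).left
  have hpr := isPullback_pr X Y (Over.mk s₀)
  obtain ⟨hpX, hfX, hlX⟩ := snd_proper (X := X) (Over.mk s₀)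
  haveI : GeometricallyIrreducible (snd X (Over.mk s₀)).left :=
    MorphismProperty.of_isPullback (isPullback_snd X _) inferInstance
  haveI : GeometricallyIrreducible q := MorphismProperty.of_isPullback hpr inferInstance
  haveI : Flat q := MorphismProperty.of_isPullback hpr hfX
  haveI : LocallyOfFinitePresentation q := MorphismProperty.of_isPullback hpr hlX
  have hy : IsMaxPt (q x) := fun y' hy' => by
    obtain ⟨x', hx', hx'y⟩ := Flat.generalizingMap q hy'
    rw [← hx'y, hx x' hx']
  have hirr : IsIrreducible (q ⁻¹' {q x}) := q.isIrreducible_preimage q.isOpenMap isIrreducible_singleton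
  have hη : ∀ x' : ((X ⊗ Y) ⊗ Over.mk s₀).left, IsMaxPt x' → q x' = q x →
      hirr.genericPoint = x' := fun x' hx' he =>
    hx' _ ((hirr.isGenericPoint_genericPoint_closure).specializes (subset_closure he))
  refine ⟨(iY X Y (Over.mk s₀) x₀).left (q x), (Y ◁ a).left (q x), ?_, ?_, fun x' hx' hm' => ?_⟩
  · rw [← Scheme.Hom.comp_apply, ← Scheme.Hom.comp_apply, ← Over.comp_left, ← Over.comp_left]
    exact congrArg (fun φ : Y ⊗ Over.mk s₀ ⟶ (X ⊗ Y) ⊗ S => φ.left (q x)) (whisker_exchange _ a)
  · have hmem : (iY X Y (Over.mk s₀) x₀).left (q x) ∈ q ⁻¹' {q x} := by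
      show q ((iY X Y (Over.mk s₀) x₀).left (q x)) = q x
      rw [← Scheme.Hom.comp_apply, ← Over.comp_left, iY_snd]; rfl
    have h2 := hirr.isGenericPoint_genericPoint_closure.specializes (subset_closure hmem)
    rwa [hη x hx rfl] at h2
  · have h1 : q x' = q x := by
      refine hy _ ?_
      have h2 := hx'.map q.continuous
      rwa [← Scheme.Hom.comp_apply, ← Over.comp_left, iY_snd] at h2
    exact (hη x' hm' h1).symm.trans (hη x hx rfl)

end Groth.Agent.CubeField
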