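import Groth.Agent.Lib.CubeField.Square
import Groth.Prelude.Def_ThetaK

/-!
# Points along which the Mumford bundle is trivial
-/

universe u

open CategoryTheory Limits MonoidalCategory CartesianMonoidalCategory AlgebraicGeometry TopologicalSpace

set_option linter.style.haveILetI false
set_option backward.isDefEq.respectTransparency false

open scoped MonObj GrpObj

namespace Groth.Agent.CubeField

noncomputable local instance instLawMumford (Y : Scheme.{u}) : PicGrp.Law Y := M2.law Y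

variable {k : Type u} [Field k] {A : Over (Spec (CommRingCat.of k))} [GrpObj A]
  {L : A.left.Modules} {hL : PicF.IsInvertible L} {T : Over (Spec (CommRingCat.of k))}

theorem cls_structureModule (Y : Scheme.{u}) (h : PicF.IsInvertible (Coh.structureModule Y)) :
    PicGrp.cls (Coh.structureModule Y) h = 1 :=
  (PicGrp.cls_eq_one_iff _).2 ⟨Iso.refl _⟩

theorem whisker_mul (z : T ⟶ A) : (A ◁ z) ≫ μ[A] = fst A T * (snd A T ≫ z) := by
  rw [Hom.mul_def]
  congr 1

theorem sec_snd : lift (1 : T ⟶ A) (𝟙 T) ≫ snd A T = 𝟙 T := lift_snd _ _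

/-- The Mumford bundle is trivial along `z` exactly when pullback is additive there. -/
theorem isMumfordTriv_iff (hL : PicF.IsInvertible L) (z : T ⟶ A) : ThetaGrp.IsMumfordTriv A L z ↔
    P L hL (fst A T * (snd A T ≫ z)) = P L hL (fst A T) * P L hL (snd A T ≫ z) := by
  constructor
  · rintro ⟨M, hM, hiso⟩
    obtain ⟨e⟩ := hiso
    have h : PicGrp.pullHom (snd A T).left (M2.pullMul _) (PicGrp.cls M hM) * P L hL (fst A T) *
        P L hL (snd A T ≫ z) = P L hL (fst A T * (snd A T ≫ z)) := by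
      rw [← whisker_mul]
      apply Subtype.ext
      simp only [P, PicGrp.pullHom_cls, PicGrp.mul_val, PicGrp.cls_val, PicGrp.mulCl_cl]
      exact M2.cl_eq_of_iso e
    have h1 := congrArg (PicGrp.pullHom (lift (1 : T ⟶ A) (𝟙 T)).left (M2.pullMul _)) h
    have e1 : PicGrp.pullHom (lift (1 : T ⟶ A) (𝟙 T)).left (M2.pullMul _)
        (PicGrp.pullHom (snd A T).left (M2.pullMul _) (PicGrp.cls M hM)) = PicGrp.cls M hM := by
      simp only [PicGrp.pullHom_cls]
      refine (PicGrp.cls_eq_cls_iff _ _).2 ⟨(Scheme.Modules.pullbackComp _ _).app M ≪≫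
        (Scheme.Modules.pullbackCongr ?_).app M ≪≫ (Scheme.Modules.pullbackId T.left).app M⟩
      rw [← Over.comp_left, sec_snd]
      rfl
    simp only [map_mul, e1, pullHom_P, MonObj.comp_mul, lift_fst, ← Category.assoc, sec_snd,
      Category.id_comp, P_one, mul_one, one_mul] at h1
    rw [mul_eq_right] at h1
    rw [h1, map_one, one_mul] at h
    exact h.symm
  · intro h
    refine ⟨Coh.structureModule T.left, PicLoc.isInvertible_structureModule _, ?_⟩
    have h2 : PicGrp.pullHom (snd A T).left (M2.pullMul _)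
        (PicGrp.cls (Coh.structureModule T.left) (PicLoc.isInvertible_structureModule _)) * P L hL (fst A T) *
        P L hL (snd A T ≫ z) = P L hL (fst A T * (snd A T ≫ z)) := by
      rw [cls_structureModule, map_one, one_mul, h]
    rw [← whisker_mul] at h2
    replace h2 := congrArg Subtype.val h2
    simp only [P, PicGrp.pullHom_cls, PicGrp.mul_val, PicGrp.cls_val, PicGrp.mulCl_cl] at h2
    exact (PicGrp.cl_eq_cl_iff _ _).1 h2

/-- Additivity on `A × T` gives additivity on every scheme over `T`. -/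
theorem add_of_crit {z : T ⟶ A} (h : P L hL (fst A T * (snd A T ≫ z)) = P L hL (fst A T) * P L hL (snd A T ≫ z))
    {V : Over (Spec (CommRingCat.of k))} (a : V ⟶ A) (t : V ⟶ T) :
    P L hL (a * (t ≫ z)) = P L hL a * P L hL (t ≫ z) := by
  have h1 := congrArg (PicGrp.pullHom (lift a t).left (M2.pullMul _)) h
  simpa only [map_mul, pullHom_P, MonObj.comp_mul, lift_fst, lift_snd_assoc] using h1

variable {K : Over (Spec (CommRingCat.of k))} {i : K ⟶ A}

theorem crit_of_isKL (hL : PicF.IsInvertible L) (hK : ThetaGrp.IsKL A L i) (y : T ⟶ K) :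
    P L hL (fst A T * (snd A T ≫ (y ≫ i))) = P L hL (fst A T) * P L hL (snd A T ≫ (y ≫ i)) :=
  (isMumfordTriv_iff hL _).1 ((hK.univ T _).2 ⟨y, rfl⟩)

theorem mul_factors (hL : PicF.IsInvertible L) (hK : ThetaGrp.IsKL A L i) (y₁ y₂ : T ⟶ K) :
    ∃ y : T ⟶ K, y ≫ i = (y₁ ≫ i) * (y₂ ≫ i) := by
  refine (hK.univ T _).1 ((isMumfordTriv_iff hL _).2 ?_)
  have h1 := crit_of_isKL hL hK y₁
  have h2 := crit_of_isKL hL hK y₂
  rw [MonObj.comp_mul, ← mul_assoc, add_of_crit h2 (fst A T * (snd A T ≫ y₁ ≫ i)) (snd A T), h1,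
    add_of_crit h2 (snd A T ≫ y₁ ≫ i) (snd A T), mul_assoc]

theorem one_factors (hL : PicF.IsInvertible L) (hK : ThetaGrp.IsKL A L i) : ∃ y : T ⟶ K, y ≫ i = 1 := by
  refine (hK.univ T _).1 ((isMumfordTriv_iff hL _).2 ?_)
  rw [MonObj.comp_one, mul_one, P_one, mul_one]

theorem inv_factors (hL : PicF.IsInvertible L) (hK : ThetaGrp.IsKL A L i) (y : T ⟶ K) :
    ∃ y' : T ⟶ K, y' ≫ i = (y ≫ i)⁻¹ := by
  refine (hK.univ T _).1 ((isMumfordTriv_iff hL _).2 ?_)
  have h := crit_of_isKL hL hK y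
  have h1 := add_of_crit h (fst A T * (snd A T ≫ y ≫ i)⁻¹) (snd A T)
  have h2 := add_of_crit h (snd A T ≫ y ≫ i)⁻¹ (snd A T)
  rw [inv_mul_cancel_right] at h1
  rw [inv_mul_cancel, P_one] at h2
  rw [GrpObj.comp_inv, eq_inv_of_mul_eq_one_left h2.symm, eq_mul_inv_iff_mul_eq]
  exact h1.symm

theorem isLambdaSheaf_of_isKL (hL : PicF.IsInvertible L) (hK : ThetaGrp.IsKL A L i) :
    AgPol.IsLambdaSheaf ((A ◁ i) ≫ μ[A]).left (fst A K).left (snd A K ≫ i).left L
      (Coh.structureModule (A ⊗ K).left) := by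
  have h := crit_of_isKL hL hK (𝟙 K)
  rw [Category.id_comp, ← whisker_mul,
    ← one_mul (P L hL (fst A K)), ← cls_structureModule _ (PicLoc.isInvertible_structureModule _)] at h
  replace h := congrArg Subtype.val h
  simp only [P, PicGrp.mul_val, PicGrp.cls_val, PicGrp.mulCl_cl] at h
  exact (PicGrp.cl_eq_cl_iff _ _).1 h.symm

theorem tensor_inv_trivial (hL : PicF.IsInvertible L) (hK : ThetaGrp.IsKL A L i)
    {B : Over (Spec (CommRingCat.of k))} [GrpObj B] (j : B ⟶ A) [IsMonHom j] (hj : ∃ y : B ⟶ K, y ≫ i = j) :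
    Nonempty (CohB1.tensorMod ((Scheme.Modules.pullback j.left).obj L)
        ((Scheme.Modules.pullback ((𝟙 B)⁻¹ ≫ j).left).obj L) ≅ Coh.structureModule B.left) := by
  obtain ⟨y, rfl⟩ := hj
  have h := add_of_crit (crit_of_isKL hL hK y) (y ≫ i)⁻¹ (𝟙 B)
  rw [Category.id_comp, inv_mul_cancel, P_one, mul_comm] at h
  rw [GrpObj.inv_comp, Category.id_comp]
  have h' := h.symm
  rw [← cls_structureModule _ (PicLoc.isInvertible_structureModule _)] at h'
  replace h' := congrArg Subtype.val h'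
  simp only [P, PicGrp.mul_val, PicGrp.cls_val, PicGrp.mulCl_cl] at h'
  exact (PicGrp.cl_eq_cl_iff _ _).1 h'

theorem factors_iff (hL : PicF.IsInvertible L) (hK : ThetaGrp.IsKL A L i) (x : T ⟶ A) :
    (∃ y : T ⟶ K, y ≫ i = x) ↔ ∃ M : T.left.Modules, PicF.IsInvertible M ∧
      Nonempty (CohB1.tensorMod ((Scheme.Modules.pullback (fst A T).left).obj L)
          ((Scheme.Modules.pullback (snd A T).left).obj M) ≅
        (Scheme.Modules.pullback (ThetaGrp.transl A x ≫ fst A T).left).obj L) := by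
  rw [← hK.univ T x, isMumfordTriv_iff hL, ThetaGrp.transl_fst]
  constructor
  · intro h
    refine ⟨(Scheme.Modules.pullback x.left).obj L, PicLoc.isInvertible_pullback _ hL, ?_⟩
    rw [← pullHom_P] at h
    replace h := congrArg Subtype.val h.symm
    simp only [P, PicGrp.pullHom_cls, PicGrp.mul_val, PicGrp.cls_val, PicGrp.mulCl_cl] at h
    exact (PicGrp.cl_eq_cl_iff _ _).1 h
  · rintro ⟨M, hM, ⟨e⟩⟩
    have h : P L hL (fst A T) * PicGrp.pullHom (snd A T).left (M2.pullMul _) (PicGrp.cls M hM) =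
        P L hL (fst A T * (snd A T ≫ x)) := by
      apply Subtype.ext
      simp only [P, PicGrp.pullHom_cls, PicGrp.mul_val, PicGrp.cls_val, PicGrp.mulCl_cl]
      exact M2.cl_eq_of_iso e
    have h1 := congrArg (PicGrp.pullHom (lift (1 : T ⟶ A) (𝟙 T)).left (M2.pullMul _)) h
    have e1 : PicGrp.pullHom (lift (1 : T ⟶ A) (𝟙 T)).left (M2.pullMul _)
        (PicGrp.pullHom (snd A T).left (M2.pullMul _) (PicGrp.cls M hM)) = PicGrp.cls M hM := by
      simp only [PicGrp.pullHom_cls]
      refine (PicGrp.cls_eq_cls_iff _ _).2 ⟨(Scheme.Modules.pullbackComp _ _).app M ≪≫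
        (Scheme.Modules.pullbackCongr ?_).app M ≪≫ (Scheme.Modules.pullbackId T.left).app M⟩
      rw [← Over.comp_left, sec_snd]
      rfl
    simp only [map_mul, e1, pullHom_P, MonObj.comp_mul, lift_fst, ← Category.assoc, sec_snd,
      Category.id_comp, P_one, one_mul] at h1
    rw [← h, h1, pullHom_P]

omit [GrpObj A] in
theorem iso_of_sec {Y : Scheme.{u}} {g : Y ⟶ Y} (h : g = 𝟙 Y) (M : Y.Modules) :
    Nonempty ((Scheme.Modules.pullback g).obj M ≅ M) := by
  subst h
  exact ⟨(Scheme.Modules.pullbackId Y).app M⟩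

theorem iso_pullback_of_translate (hL : PicF.IsInvertible L) (x : T ⟶ A) (M : T.left.Modules)
    (h : Nonempty (CohB1.tensorMod ((Scheme.Modules.pullback (fst A T).left).obj L)
          ((Scheme.Modules.pullback (snd A T).left).obj M) ≅
        (Scheme.Modules.pullback (ThetaGrp.transl A x ≫ fst A T).left).obj L)) :
    Nonempty (M ≅ (Scheme.Modules.pullback x.left).obj L) := by
  obtain ⟨e⟩ := h
  let s := lift (1 : T ⟶ A) (𝟙 T)
  have e0 : Nonempty ((Scheme.Modules.pullback s.left).obj ((Scheme.Modules.pullback (fst A T).left).obj L) ≅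
      Coh.structureModule T.left) := by
    refine (PicGrp.cls_eq_one_iff (PicLoc.isInvertible_pullback _ (PicLoc.isInvertible_pullback _ hL))).1 ?_
    have h := pullHom_P (L := L) (hL := hL) s (fst A T)
    rw [show s ≫ fst A T = 1 from lift_fst _ _, P_one, P, PicGrp.pullHom_cls] at h
    exact h
  obtain ⟨e0⟩ := e0
  obtain ⟨e1⟩ := iso_of_sec (show s.left ≫ (snd A T).left = 𝟙 _ by rw [← Over.comp_left, sec_snd]; rfl) M
  refine ⟨(M2.tensorLUnit M).symm ≪≫ M2.tensorIso e0.symm (e1.symm ≪≫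
      ((Scheme.Modules.pullbackComp _ _).app M).symm) ≪≫ (M2.pullTensorIso s.left _ _).symm ≪≫
    (Scheme.Modules.pullback s.left).mapIso e ≪≫ (Scheme.Modules.pullbackComp _ _).app L ≪≫
    (Scheme.Modules.pullbackCongr ?_).app L⟩
  rw [← Over.comp_left]
  congr 1
  rw [ThetaGrp.transl_fst, MonObj.comp_mul, lift_fst, ← Category.assoc, sec_snd, Category.id_comp, one_mul]

end Groth.Agent.CubeField
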