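import Groth.Agent.Lib.CubeField.Product
import Groth.Agent.Lib.CurveCoh17.Degree
import Groth.Agent.Lib.TensorMod.Invertible

/-!
# Finiteness of `H¹` of invertible modules from finiteness for coherent modules
-/

universe u

open CategoryTheory Limits AlgebraicGeometry

namespace Groth.Agent.CubeField

/-- Invertible modules are coherent. -/
theorem isCoh_of_isInvertible {W : Scheme.{u}} {L : W.Modules} (hL : PicF.IsInvertible L) : Coh.IsCoh L :=
  CurveCoh17.isCoh_of_ofRank ((M2.isInvertible_iff_isFinLocFreeOfRank_one L).1 hL)

/-- `FinH1` follows from finiteness of coherent cohomology. -/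
theorem finH1_of_finite
    (h : ∀ (A : Type u) [CommRing A] [IsNoetherianRing A] (X : Scheme.{u})
      [X.Over (Spec (CommRingCat.of A))] [IsProper (X ↘ Spec (CommRingCat.of A))]
      (M : X.Modules), Coh.IsCoh M → ∀ n : ℕ, Module.Finite A (Coh.HH X M n)) : FinH1.{u} :=
  fun A _ _ W _ _ L hL => h A W L (isCoh_of_isInvertible hL) 1

end Groth.Agent.CubeField
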