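import Groth.Agent.Lib.Twist.Universal
import Groth.Agent.Lib.Ample18.Ample
import Groth.Agent.Lib.ProjSpace.Basic
import Groth.Agent.S3572
import Mathlib.AlgebraicGeometry.Morphisms.Proper

/-!
# Proper schemes with an ample module embed in projective space
-/

universe u

open CategoryTheory Limits AlgebraicGeometry TopologicalSpace Opposite

set_option linter.style.haveILetI false
set_option backward.isDefEq.respectTransparency false

namespace Groth.Agent.CubeField

open Groth.Agent.M2 (tsec res)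

variable {R : Type u} [CommRing R] {X : Scheme.{u}}

/-- A morphism whose restrictions over affine opens are closed immersions and whose image is closed. -/
theorem isClosedImmersion_of_affine_charts {Y : Scheme.{u}} (r : X ⟶ Y) {ι : Type*} (D : ι → Y.Opens)
    (hD : ∀ i, IsAffineOpen (D i)) (hrD : ∀ i, IsAffineOpen (r ⁻¹ᵁ D i)) (hcov : ⨆ i, r ⁻¹ᵁ D i = ⊤)
    (hsurj : ∀ i, Function.Surjective (r.app (D i))) (hclosed : IsClosed (Set.range r)) :
    IsClosedImmersion r := by
  let W : Y.Opens := ⨆ i, D i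
  have htop : r ⁻¹ᵁ W = ⊤ := by rw [Scheme.Hom.preimage_iSup, hcov]
  haveI : IsClosedImmersion (r ∣_ W) := by
    refine (IsZariskiLocalAtTarget.iff_of_iSup_eq_top (P := @IsClosedImmersion)
      (fun i => W.ι ⁻¹ᵁ D i) ?_).2 fun i => ?_
    · rw [← Scheme.Hom.preimage_iSup]
      exact Scheme.Opens.ι_preimage_self W
    · have hle : D i ≤ W := le_iSup D i
      rw [MorphismProperty.arrow_mk_iso_iff @IsClosedImmersion (morphismRestrictRestrict r W (W.ι ⁻¹ᵁ D i))]
      have e : W.ι ''ᵁ (W.ι ⁻¹ᵁ D i) = D i := by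
        rw [Scheme.Hom.image_preimage_eq_opensRange_inf, Scheme.Opens.opensRange_ι]
        exact inf_eq_right.2 hle
      rw [e]
      haveI : IsAffine (D i : Scheme) := hD i
      haveI : IsAffine (r ⁻¹ᵁ D i : Scheme) := hrD i
      refine IsClosedImmersion.of_surjective_of_isAffine _ ?_
      rw [morphismRestrict_appTop]
      intro z
      obtain ⟨w, hw⟩ := (Function.Surjective.comp (ConcreteCategory.bijective_of_isIso (X.presheaf.map
        (eqToHom (image_morphismRestrict_preimage r (D i) ⊤)).op)).2 ((fun U (hU : U = D i) => hU ▸ hsurj i :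
          ∀ U : Y.Opens, U = D i → Function.Surjective (r.app U)) _ (Scheme.Opens.ι_image_top _))) z
      exact ⟨w, hw⟩
  have hfac : r = (X.topIso.inv ≫ (X.isoOfEq htop).inv) ≫ (r ∣_ W) ≫ W.ι := by
    rw [morphismRestrict_ι, ← Category.assoc, Category.assoc X.topIso.inv, Scheme.isoOfEq_inv_ι]
    simp
  haveI : IsPreimmersion r := by rw [hfac]; infer_instance
  exact IsClosedImmersion.of_isPreimmersion r hclosed

/-- An ample module on a proper scheme over a ring gives a closed immersion into projective space. -/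
theorem exists_closedImmersion_of_isAmple (q : X ⟶ Spec (CommRingCat.of R)) [IsProper q] {L : X.Modules}
    (h : CohB1.IsAmple L) :
    ∃ (n : ℕ) (j : X ⟶ CohB1.ProjSpace n R), IsClosedImmersion j ∧ j ≫ CohB1.ProjSpace.toSpec n R = q := by
  classical
  haveI : QuasiSeparatedSpace X := Amp.quasiSeparatedSpace_of_isAmple h
  obtain ⟨hL, hX, hc⟩ := Amp.isAmple_iff.1 h
  haveI := hX
  choose m G hG hxG hA using hc
  obtain ⟨T, hT⟩ := isCompact_univ.elim_finite_subcover (fun x => (G x : Set X)) (fun x => (G x).isOpen)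
    fun x _ => Set.mem_iUnion.2 ⟨x, hxG x⟩
  let N := ∏ x ∈ T, (m x + 1)
  have hG' : ∀ x : T, Amp.HasSec L N (G x) := fun x => by
    obtain ⟨c, hc⟩ := Finset.dvd_prod_of_mem (fun y => m y + 1) x.2
    have hN : 0 < N := Finset.prod_pos fun y _ => Nat.succ_pos _
    rw [show N = (m x + 1) * c from hc] at hN ⊢
    obtain ⟨c', rfl⟩ := Nat.exists_eq_succ_of_ne_zero (n := c) (fun h0 => by simp [h0] at hN)
    exact (hG x).powPow hL c'
  choose s hs using hG'
  let M := CohB1.tensorPow L N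
  replace hs : ∀ x : T, CohB1.genLocus M (s x) = G x := hs
  have hM : PicF.IsInvertible M := Amp.isInvertible_tensorPow hL N
  haveI hqc := M1.isQCoh_structureModule X
  have hAs : ∀ x : T, IsAffineOpen (CohB1.genLocus M (s x)) := fun x => by rw [hs x]; exact hA x
  let φ₀ : ∀ x : T, R →+* Γ(X, CohB1.genLocus M (s x)) := fun x =>
    (Groth.Agent.M1.ores (le_top : CohB1.genLocus M (s x) ≤ ⊤)).hom.comp (ProjUP.toGlobal q)
  have hft : ∀ x : T, (φ₀ x).FiniteType := fun x => by
    have h1 : (q.appLE ⊤ (CohB1.genLocus M (s x)) le_top).hom.FiniteType :=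
      q.finiteType_appLE (isAffineOpen_top _) (hAs x) le_top
    exact h1.comp (RingHom.FiniteType.of_surjective _
      (ConcreteCategory.bijective_of_isIso (Scheme.ΓSpecIso (CommRingCat.of R)).inv).2)
  have hgens : ∀ x : T, ∃ S : Finset Γ(X, CohB1.genLocus M (s x)),
      ∀ P : Subring Γ(X, CohB1.genLocus M (s x)), (φ₀ x).range ≤ P →
      (∀ a ∈ S, a ∈ P) → P = ⊤ := fun x => by
    letI := (φ₀ x).toAlgebra
    obtain ⟨S, hS⟩ := (hft x).out
    refine ⟨S, fun P h1 h2 => top_le_iff.1 fun a _ => ?_⟩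
    let P' : Subalgebra R Γ(X, CohB1.genLocus M (s x)) :=
      { P with algebraMap_mem' := fun r => h1 ⟨r, rfl⟩ }
    have h3 : Algebra.adjoin R (↑S : Set Γ(X, CohB1.genLocus M (s x))) ≤ P' := Algebra.adjoin_le (fun y hy => h2 y hy)
    exact h3 (by rw [hS]; exact Algebra.mem_top)
  choose S hS using hgens
  choose n₀ hn₀ using fun (p : Σ x : T, S x) => Amp.exists_extend_genLocus hM (s p.1) (Coh.structureModule X)
    (show Γ(Coh.structureModule X, CohB1.genLocus M (s p.1)) from (p.2 : Γ(X, CohB1.genLocus M (s p.1))))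
  let n := Finset.univ.sup n₀ + 1
  choose t ht using fun p => hn₀ p n ((Finset.le_sup (Finset.mem_univ p)).trans (Nat.le_succ _))
  let M' := CohB1.tensorPow M n
  have hM' : PicF.IsInvertible M' := Amp.isInvertible_tensorPow hM n
  let φ := M2.tensorLUnit M'
  let w : T → ProjUP.Γm M' := fun x =>
    φ.hom.app ⊤ (tsec (Coh.structureModule X) M' (M1.one ⊤) (Amp.pw (Amp.gval (s x)) n))
  let ι₀ := Option (T ⊕ Σ x : T, S x)
  let e := Fintype.equivFin ι₀
  obtain ⟨N', hN'⟩ : ∃ N', Fintype.card ι₀ = N' + 1 :=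
    ⟨Fintype.card ι₀ - 1, (Nat.succ_pred_eq_of_pos Fintype.card_pos).symm⟩
  let v : ι₀ → ProjUP.Γm M' := fun o => o.elim 0 (Sum.elim w fun p => φ.hom.app ⊤ (t p))
  let idx : ι₀ → Fin (N' + 1) := fun o => Fin.cast hN' (e o)
  let σ : Fin (N' + 1) → ProjUP.Γm M' := fun i => v (e.symm (Fin.cast hN'.symm i))
  have hσ : ∀ o, σ (idx o) = v o := fun o => by simp [σ, idx]
  have hw : ∀ (x : T) (y : X), (Amp.Gen (Amp.gm M' y (U := ⊤) trivial (w x)) ↔ y ∈ CohB1.genLocus M (s x)) :=
    fun x y => by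
      refine (Amp.gen_map_iso φ (U := ⊤) trivial _).trans ?_
      refine (Amp.gen_tsec_iff (PicLoc.isInvertible_structureModule X) hM' (U := ⊤) (x := y) trivial _ _).trans ?_
      refine (and_iff_right ?_).trans ((Amp.gen_pw_succ hM (U := ⊤) (x := y) trivial _ _).trans (Amp.mem_genLocus_iff hM (s x)).symm)
      exact Amp.gen_one y (U := ⊤) trivial
  have hgenBy : ProjUP.GeneratedBy M' σ := fun y => by
    obtain ⟨x, hx, hyx⟩ := Set.mem_iUnion₂.1 (hT (Set.mem_univ y))
    have hg := (hw ⟨x, hx⟩ y).2 (by rw [hs]; exact hyx)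
    refine top_le_iff.1 fun a _ => ?_
    obtain ⟨c, rfl⟩ := hg.2 a
    exact Submodule.smul_mem _ c (Submodule.subset_span
      ⟨idx (some (Sum.inl ⟨x, hx⟩)), congrArg (Amp.gm M' y (U := ⊤) trivial) (hσ _)⟩)
  obtain ⟨r, hr, τ, hτ⟩ := Groth.Agent.S3572.result N' q M' hM' σ hgenBy
  refine ⟨N', r, ?_, hr⟩
  let 𝒜 := CohB1.polyGrading N' R
  have hX : ∀ i : Fin (N' + 1), (MvPolynomial.X i : MvPolynomial (Fin (N' + 1)) R) ∈ 𝒜 1 := fun i =>
    MvPolynomial.isHomogeneous_X R i
  let D : T → (CohB1.ProjSpace N' R).Opens := fun x => Proj.basicOpen 𝒜 (MvPolynomial.X (idx (some (Sum.inl x))))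
  have hres : ∀ {U : X.Opens} (z : ProjUP.Γm ((Scheme.Modules.pullback r).obj (Twist.twistProjSpace N' R 1))),
      τ.hom.app U (M1.mres _ (le_top : U ≤ ⊤) z) = M1.mres M' le_top (τ.hom.app ⊤ z) := fun z =>
    M1.app_mres τ.hom le_top z
  have hpre : ∀ x : T, r ⁻¹ᵁ D x = CohB1.genLocus M (s x) := fun x => by
    ext y
    rw [SetLike.mem_coe, SetLike.mem_coe, ← hw x y]
    have hval : w x = τ.hom.app ⊤ (ProjUP.sec 𝒜 r (hX (idx (some (Sum.inl x))))) :=
      (hσ (some (Sum.inl x))).symm.trans (hτ _).symm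
    rw [hval, Amp.gen_map_iso τ (U := ⊤) trivial]
    constructor
    · intro hy
      have h1 := (ProjUP.isGen_sec 𝒜 r (hX (idx (some (Sum.inl x))))).stalk hy
      rw [M1.germ_mres] at h1
      exact h1
    · intro hy
      obtain ⟨l, hl⟩ := Opens.mem_iSup.1 ((ProjSpace.iSup_basicOpen N' R).ge (Opens.mem_top (r y)))
      have hl' : y ∈ r ⁻¹ᵁ Proj.basicOpen 𝒜 (MvPolynomial.X l) := hl
      have h1 := congrArg (Amp.gm _ y hl')
        (ProjUP.sec_eq_ev_smul 𝒜 r (hX l) (hX (idx (some (Sum.inl x)))) _ le_rfl)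
      rw [Amp.gm_smul] at h1
      replace h1 := (M1.germ_mres _ _ hl' _).symm.trans h1
      have hy1 := (congrArg Amp.Gen h1).mp hy
      have hy2 := ((ProjUP.isGen_sec 𝒜 r (hX l)).stalk hl' |> fun hg => Amp.Gen.ne_zero_smul
        (g := Amp.gm _ y hl' _) hg _).1 hy1
      rw [← Scheme.mem_basicOpen, ProjUP.basicOpen_ev 𝒜 (hX l) r _ le_rfl (hX (idx (some (Sum.inl x))))] at hy2
      exact hy2.2
  refine isClosedImmersion_of_affine_charts r D (fun x => Proj.isAffineOpen_basicOpen 𝒜 _ (hX _) one_pos)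
    (fun x => (hpre x).symm ▸ hAs x) ?_ (fun x => ?_) ?_
  · refine top_le_iff.1 fun y _ => ?_
    obtain ⟨x, hx, hyx⟩ := Set.mem_iUnion₂.1 (hT (Set.mem_univ y))
    exact Opens.mem_iSup.2 ⟨⟨x, hx⟩, by rw [hpre, hs]; exact hyx⟩
  · set i := idx (some (Sum.inl x))
    have hU : CohB1.genLocus M (s x) ≤ r ⁻¹ᵁ Proj.basicOpen 𝒜 (MvPolynomial.X i) := (hpre x).ge
    let ψ := ProjUP.ev 𝒜 (hX i) r (CohB1.genLocus M (s x)) hU
    have hψ : ψ.range = ⊤ := by
      refine hS x _ ?_ fun a ha => ?_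
      · rintro _ ⟨c, rfl⟩
        refine ⟨algebraMap R _ c, ?_⟩
        rw [ProjUP.ev_algebraMap, show r ≫ ProjUP.toBase 𝒜 = q from hr]
        rfl
      · let p : Σ x : T, S x := ⟨x, ⟨a, ha⟩⟩
        let l := idx (some (Sum.inr p))
        refine ⟨MvPolynomial.X l, ?_⟩
        have el : τ.hom.app _ (M1.mres _ le_top (ProjUP.sec 𝒜 r (hX l))) =
            M1.mres M' (le_top : CohB1.genLocus M (s x) ≤ ⊤) (φ.hom.app ⊤ (t p)) :=
          (hres _).trans (congrArg _ ((hτ l).trans (hσ _)))
        have ei : τ.hom.app _ (M1.mres _ le_top (ProjUP.sec 𝒜 r (hX i))) =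
            M1.mres M' (le_top : CohB1.genLocus M (s x) ≤ ⊤) (w x) :=
          (hres _).trans (congrArg _ ((hτ i).trans (hσ _)))
        have h1 : M1.mres M' (le_top : CohB1.genLocus M (s x) ≤ ⊤) (φ.hom.app ⊤ (t p)) =
            ψ (MvPolynomial.X l) • M1.mres M' le_top (w x) :=
          el.symm.trans ((congrArg (fun z => τ.hom.app (CohB1.genLocus M (s x)) z)
            (ProjUP.sec_eq_ev_smul 𝒜 r (hX i) (hX l) _ hU)).trans
              ((Scheme.Modules.Hom.app_smul τ.hom _ _).trans (congrArg (ψ (MvPolynomial.X l) • ·) ei)))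
        have hwres : M1.mres M' (le_top : CohB1.genLocus M (s x) ≤ ⊤) (w x) =
            φ.hom.app _ (tsec (Coh.structureModule X) M' (M1.one _)
              (Amp.pw (res M le_top (Amp.gval (s x))) n)) := by
          refine (M1.app_mres φ.hom le_top _).symm.trans (congrArg _ ?_)
          refine (M2.res_tsec le_top _ _).trans ?_
          rw [Amp.res_pw]
          exact congrArg (fun z => tsec (Coh.structureModule X) M' z _) (M1.mres_one le_top)
        have h2 : M1.mres M' (le_top : CohB1.genLocus M (s x) ≤ ⊤) (φ.hom.app ⊤ (t p)) =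
            a • M1.mres M' le_top (w x) := by
          rw [hwres, ← M1.app_mres φ.hom le_top (t p)]
          refine Eq.trans ?_ (Scheme.Modules.Hom.app_smul φ.hom a _)
          refine congrArg _ ((ht p).trans ?_)
          erw [← M2.tsec_smul_left]
          exact congrArg (fun z => tsec (Coh.structureModule X) M' z _) (mul_one a).symm
        have hg : Twist.IsGen M' (CohB1.genLocus M (s x)) (M1.mres M' le_top (w x)) :=
          Twist.isGen_of_stalk fun y hy => by rw [M1.germ_mres]; exact (hw x y).2 hy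
        refine (hg _ le_rfl).1 ?_
        simp only [M1.mres_id]
        exact h1.symm.trans h2
    intro z
    have hz : X.presheaf.map (eqToHom (hpre x).symm).op z ∈ ψ.range := by rw [hψ]; trivial
    obtain ⟨b, hb⟩ := hz
    refine ⟨Proj.awayToSection 𝒜 (MvPolynomial.X i) (EGA2.dehom 𝒜 (hX i) b), ?_⟩
    apply (ConcreteCategory.bijective_of_isIso (X.presheaf.map (eqToHom (hpre x).symm).op)).1
    rw [← hb]
    exact (congrArg (fun m => m.hom (Proj.awayToSection 𝒜 (MvPolynomial.X i) (EGA2.dehom 𝒜 (hX i) b)))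
      (rfl : r.app (D x) ≫ X.presheaf.map (eqToHom (hpre x).symm).op = r.appLE (D x) _ hU))
  · haveI : IsProper (r ≫ CohB1.ProjSpace.toSpec N' R) := by rw [hr]; infer_instance
    haveI : IsSeparated (CohB1.ProjSpace.toSpec N' R) := by
      unfold CohB1.ProjSpace.toSpec
      infer_instance
    haveI : IsProper r := IsProper.of_comp r (CohB1.ProjSpace.toSpec N' R)
    exact r.isClosedMap.isClosed_range

end Groth.Agent.CubeField
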