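import Groth.Agent.Lib.CubeField.Coc
import Groth.Agent.Lib.Ample18.Ample

/-!
# Sections of an invertible module in terms of transition functions
-/

universe u

open CategoryTheory Limits AlgebraicGeometry TopologicalSpace Opposite

set_option linter.style.haveILetI false
set_option backward.isDefEq.respectTransparency false

namespace Groth.Agent.CubeField

variable {W : Scheme.{u}} {ι : Type} {M : W.Modules} {c : Coc W ι}

/-- The powers of transition functions. -/
def Coc.pow (c : Coc W ι) (m : ℕ) : Coc W ι where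
  V := c.V
  g i j := c.g i j ^ m
  refl i := by rw [c.refl, one_pow]
  comp i j k U hi hj hk := by rw [map_pow, map_pow, map_pow, ← mul_pow, c.comp i j k U hi hj hk]

theorem Coc.Compat.powFun {v : ∀ i, Γ(W, c.V i)} (h : c.Compat v) (m : ℕ) :
    (c.pow m).Compat fun i => v i ^ m := fun i j => by
  show rs (inf_le_left : c.V i ⊓ c.V j ≤ c.V i) (v i ^ m) =
    c.g i j ^ m * rs (inf_le_right : c.V i ⊓ c.V j ≤ c.V j) (v j ^ m)
  rw [map_pow, map_pow, h i j, mul_pow]

/-- Trivialisation of a power. -/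
noncomputable def Triv.pow (hM : PicF.IsInvertible M) (T : Triv M c) (m : ℕ) :
    Triv (CohB1.tensorPow M m) (c.pow m) where
  e i := Amp.pw (T.e i) m
  gen i := Twist.isGen_of_stalk fun _ hx => Amp.gen_pw hM hx (T.e i) m ((T.gen i).stalk hx)
  trans i j := by
    refine (Amp.res_pw (inf_le_right : c.V i ⊓ c.V j ≤ c.V j) (T.e j) m).trans ?_
    show Amp.pw (M1.mres M inf_le_right (T.e j)) m = _
    rw [T.trans i j, Amp.pw_smul]
    exact congrArg (c.g i j ^ m • ·)
      (Amp.res_pw (inf_le_left : c.V i ⊓ c.V j ≤ c.V i) (T.e i) m).symm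

/-- A global section and its coordinates have the same non-vanishing locus. -/
theorem Triv.genLocus_inf (T : Triv M c) (hM : PicF.IsInvertible M) (s : Coh.structureModule W ⟶ M) (i : ι)
    (a : Γ(W, c.V i)) (ha : a • T.e i = M1.mres M le_top (Amp.gval s)) :
    CohB1.genLocus M s ⊓ c.V i = W.basicOpen a := by
  ext x
  simp only [SetLike.mem_coe, Opens.mem_inf]
  have key : ∀ hx : x ∈ c.V i, (x ∈ CohB1.genLocus M s ↔ x ∈ W.basicOpen a) := fun hx => by
    have hg : Amp.gm M x (U := ⊤) trivial (Amp.gval s) = Amp.gm M x hx (a • T.e i) := by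
      rw [ha]; exact (M1.germ_mres M (le_top : c.V i ≤ ⊤) hx _).symm
    rw [Amp.mem_genLocus_iff hM, hg, Amp.gm_smul,
      Amp.Gen.ne_zero_smul (g := Amp.gm M x hx (T.e i)) ((T.gen i).stalk hx)]
    exact (Scheme.mem_basicOpen W a x hx).symm
  exact ⟨fun h => (key h.2).1 h.1, fun h => ⟨(key (W.basicOpen_le a h)).2 h, W.basicOpen_le a h⟩⟩

/-- Coordinates of a global section. -/
theorem Triv.exists_coords (T : Triv M c) (hM : PicF.IsInvertible M) (s : Coh.structureModule W ⟶ M) :
    ∃ v, c.Compat v ∧ ∀ i, CohB1.genLocus M s ⊓ c.V i = W.basicOpen (v i) := by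
  choose v hv using fun i => (T.gen i (c.V i) le_rfl).2 (M1.mres M (le_top : c.V i ≤ ⊤) (Amp.gval s))
  simp only at hv
  refine ⟨v, fun i j => ?_, fun i => T.genLocus_inf hM s i (v i) (by rw [← hv i, M1.mres_id])⟩
  refine (T.gen i _ inf_le_left).1 ?_
  show rs inf_le_left (v i) • M1.mres M inf_le_left (T.e i) =
    (c.g i j * rs inf_le_right (v j)) • M1.mres M inf_le_left (T.e i)
  have hi := congrArg (M1.mres M (inf_le_left : c.V i ⊓ c.V j ≤ c.V i)) (hv i)
  have hj := congrArg (M1.mres M (inf_le_right : c.V i ⊓ c.V j ≤ c.V j)) (hv j)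
  rw [M1.mres_smul, M1.mres_mres, M1.mres_mres] at hi hj
  rw [mul_comm, mul_smul, ← T.trans i j]
  exact hi.trans hj.symm

/-- A compatible family is a global section. -/
theorem Triv.exists_hom (T : Triv M c) (hM : PicF.IsInvertible M) (hcov : ⨆ i, c.V i = ⊤)
    {v : ∀ i, Γ(W, c.V i)} (hv : c.Compat v) :
    ∃ s : Coh.structureModule W ⟶ M, ∀ i, CohB1.genLocus M s ⊓ c.V i = W.basicOpen (v i) := by
  obtain ⟨s, hs, -⟩ := TopCat.Sheaf.existsUnique_gluing' (⟨M.presheaf, M.isSheaf⟩ : TopCat.Sheaf AddCommGrpCat W)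
    c.V ⊤ (fun i => homOfLE le_top) hcov.ge (fun i => v i • T.e i) fun i j => by
      show M1.mres M inf_le_left (v i • T.e i) = M1.mres M inf_le_right (v j • T.e j)
      rw [M1.mres_smul, M1.mres_smul, T.trans i j, ← mul_smul, mul_comm]
      exact congrArg (· • M1.mres M inf_le_left (T.e i)) (hv i j)
  refine ⟨M1.secHom s, fun i => T.genLocus_inf hM _ i (v i) ?_⟩
  rw [Amp.gval_secHom]
  exact (hs i).symm

end Groth.Agent.CubeField
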