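import Groth.Agent.Lib.Ample18.Gen
import Groth.Agent.Lib.Twist.Pullback
import Groth.Agent.Lib.Twist.Gen

/-!
# Line bundles given by cocycles of functions

An invertible module on a quasi-compact scheme is recorded by a finite affine cover together with
transition functions.  Triviality of any pullback is then an equation between functions.
-/

universe u

open CategoryTheory Limits AlgebraicGeometry TopologicalSpace Opposite

set_option linter.style.haveILetI false
set_option backward.isDefEq.respectTransparency false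

namespace Groth.Agent.CubeField

variable {W Y Z : Scheme.{u}} {ι : Type}

/-- Restriction of functions. -/
abbrev rs {U V : W.Opens} (h : V ≤ U) : Γ(W, U) →+* Γ(W, V) := (W.presheaf.map (homOfLE h).op).hom

theorem rs_rs {U V T : W.Opens} (h : V ≤ U) (h' : T ≤ V) (a : Γ(W, U)) :
    rs h' (rs h a) = rs (h'.trans h) a := by
  simp only [rs, ← RingHom.comp_apply, ← CommRingCat.hom_comp, ← W.presheaf.map_comp]
  rfl

theorem rs_self {U : W.Opens} (h : U ≤ U) (a : Γ(W, U)) : rs h a = a := by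
  have e : (homOfLE h).op = 𝟙 (op U) := rfl
  simp only [rs, e, W.presheaf.map_id, CommRingCat.hom_id, RingHom.id_apply]

theorem app_rs (f : Y ⟶ W) {U V : W.Opens} (h : V ≤ U) (a : Γ(W, U)) :
    f.app V (rs h a) = rs (f.preimage_mono h) (f.app U a) :=
  ConcreteCategory.congr_hom (f.naturality (homOfLE h).op) a

/-- Transition functions for a family of opens. -/
structure Coc (W : Scheme.{u}) (ι : Type) where
  V : ι → W.Opens
  g : ∀ i j, Γ(W, V i ⊓ V j)
  refl : ∀ i, g i i = 1
  comp : ∀ (i j k : ι) (U : W.Opens) (hi : U ≤ V i) (hj : U ≤ V j) (hk : U ≤ V k),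
    rs (le_inf hi hj) (g i j) * rs (le_inf hj hk) (g j k) = rs (le_inf hi hk) (g i k)

namespace Coc

variable (c : Coc W ι)

theorem mul_symm (i j : ι) (U : W.Opens) (hi : U ≤ c.V i) (hj : U ≤ c.V j) :
    rs (le_inf hi hj) (c.g i j) * rs (le_inf hj hi) (c.g j i) = 1 := by
  rw [c.comp i j i U hi hj hi, c.refl, map_one]

theorem isUnit_g (i j : ι) : IsUnit (c.g i j) := by
  have h := c.mul_symm i j (c.V i ⊓ c.V j) inf_le_left inf_le_right
  rw [rs_self] at h
  exact IsUnit.of_mul_eq_one _ h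

/-- A family of local functions which forms a section. -/
def Compat (v : ∀ i, Γ(W, c.V i)) : Prop :=
  ∀ i j, rs (inf_le_left : c.V i ⊓ c.V j ≤ c.V i) (v i) = c.g i j * rs inf_le_right (v j)

theorem Compat.res {c : Coc W ι} {v : ∀ i, Γ(W, c.V i)} (h : c.Compat v) (i j : ι) (U : W.Opens)
    (hi : U ≤ c.V i) (hj : U ≤ c.V j) :
    rs hi (v i) = rs (le_inf hi hj) (c.g i j) * rs hj (v j) := by
  have := congrArg (rs (le_inf hi hj)) (h i j)
  rwa [map_mul, rs_rs, rs_rs] at this

/-- There is a nowhere vanishing section. -/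
def Trivial : Prop := ∃ v, c.Compat v ∧ ∀ i, IsUnit (v i)

/-- Pullback of transition functions. -/
def pull (f : Y ⟶ W) : Coc Y ι where
  V i := f ⁻¹ᵁ c.V i
  g i j := f.app (c.V i ⊓ c.V j) (c.g i j)
  refl i := by rw [c.refl, map_one]
  comp i j k U hi hj hk := by
    have h := congrArg (f.app (c.V i ⊓ c.V j ⊓ c.V k))
      (c.comp i j k (c.V i ⊓ c.V j ⊓ c.V k) (inf_le_left.trans inf_le_left) (inf_le_left.trans inf_le_right)
        inf_le_right)
    rw [map_mul, app_rs, app_rs, app_rs] at h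
    have hU : U ≤ f ⁻¹ᵁ (c.V i ⊓ c.V j ⊓ c.V k) := le_inf (le_inf hi hj) hk
    have := congrArg (rs hU) h
    simp only [map_mul] at this
    erw [rs_rs, rs_rs, rs_rs] at this
    exact this

theorem Compat.pull {c : Coc W ι} {v : ∀ i, Γ(W, c.V i)} (h : c.Compat v) (f : Y ⟶ W) :
    (c.pull f).Compat fun i => f.app (c.V i) (v i) := fun i j => by
  have := congrArg (f.app (c.V i ⊓ c.V j)) (h i j)
  rwa [map_mul, app_rs, app_rs] at this

theorem Trivial.pull {c : Coc W ι} (h : c.Trivial) (f : Y ⟶ W) : (c.pull f).Trivial :=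
  let ⟨_, hv, hu⟩ := h
  ⟨_, hv.pull f, fun i => (hu i).map (f.app (c.V i)).hom⟩

theorem pull_comp (f : Y ⟶ W) (f' : Z ⟶ Y) : c.pull (f' ≫ f) = (c.pull f).pull f' := rfl

/-- The inverse transition functions. -/
def inv : Coc W ι where
  V := c.V
  g i j := rs (le_inf inf_le_right inf_le_left) (c.g j i)
  refl i := by rw [c.refl, map_one]
  comp i j k U hi hj hk := by
    rw [rs_rs, rs_rs, rs_rs, mul_comm]
    exact c.comp k j i U hk hj hi

theorem inv_pull (f : Y ⟶ W) : (c.pull f).inv = c.inv.pull f := by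
  unfold inv pull
  congr 1
  funext i j
  exact (app_rs f (le_inf inf_le_right inf_le_left : c.V i ⊓ c.V j ≤ c.V j ⊓ c.V i) (c.g j i)).symm

theorem compat_inv_pull (f : Y ⟶ W) {v : ∀ i, Γ(Y, f ⁻¹ᵁ c.V i)} (h : (c.pull f).inv.Compat v) :
    (c.inv.pull f).Compat v := fun i j =>
  (h i j).trans (congrArg (fun z : Γ(Y, f ⁻¹ᵁ (c.V i ⊓ c.V j)) => z * _)
    (app_rs f (le_inf inf_le_right inf_le_left : c.V i ⊓ c.V j ≤ c.V j ⊓ c.V i) (c.g j i)).symm)

theorem compat_pull_inv (f : Y ⟶ W) {v : ∀ i, Γ(Y, f ⁻¹ᵁ c.V i)} (h : (c.inv.pull f).Compat v) :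
    (c.pull f).inv.Compat v := fun i j =>
  (h i j).trans (congrArg (fun z : Γ(Y, f ⁻¹ᵁ (c.V i ⊓ c.V j)) => z * _)
    (app_rs f (le_inf inf_le_right inf_le_left : c.V i ⊓ c.V j ≤ c.V j ⊓ c.V i) (c.g j i)))

theorem compat_of_eq {φ ψ : Y ⟶ W} (h : φ = ψ) {v : ∀ i, Γ(Y, φ ⁻¹ᵁ c.V i)} (hv : (c.pull φ).Compat v) :
    (c.pull ψ).Compat fun i => rs (show ψ ⁻¹ᵁ c.V i ≤ φ ⁻¹ᵁ c.V i by rw [h]) (v i) := by
  subst h
  simpa only [rs_self] using hv

theorem inv_inv : c.inv.inv = c := by
  cases c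
  unfold inv
  congr 1
  funext i j
  exact (rs_rs _ _ _).trans (rs_self _ _)

/-- A section and a section of the inverse multiply to a global function. -/
theorem exists_glue_mul (hcov : ⨆ i, c.V i = ⊤) {v w : ∀ i, Γ(W, c.V i)} (hv : c.Compat v)
    (hw : c.inv.Compat w) : ∃ F : Γ(W, ⊤), ∀ i, rs le_top F = v i * w i := by
  obtain ⟨F, hF, -⟩ := W.sheaf.existsUnique_gluing' c.V ⊤ (fun i => homOfLE le_top) hcov.ge
    (fun i => v i * w i) fun i j => by
      show rs inf_le_left (v i * w i) = rs inf_le_right (v j * w j)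
      rw [map_mul, map_mul, hv i j, show rs inf_le_left (w i) =
        rs (le_inf inf_le_right inf_le_left) (c.g j i) * rs inf_le_right (w j) from hw i j]
      have := c.mul_symm i j (c.V i ⊓ c.V j) inf_le_left inf_le_right
      rw [rs_self] at this
      linear_combination (rs inf_le_right (v j) * rs inf_le_right (w j)) * this
  exact ⟨F, fun i => hF i⟩

theorem compat_inv_of_mul_eq_one {c : Coc W ι} {v w : ∀ i, Γ(W, c.V i)} (h : c.Compat v)
    (hvw : ∀ i, v i * w i = 1) : c.inv.Compat w := fun i j => by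
  have h1 : rs (inf_le_left : c.V i ⊓ c.V j ≤ c.V i) (v i) * rs inf_le_left (w i) = 1 := by
    rw [← map_mul, hvw, map_one]
  have h2 : rs (inf_le_right : c.V i ⊓ c.V j ≤ c.V j) (v j) * rs inf_le_right (w j) = 1 := by
    rw [← map_mul, hvw, map_one]
  have h3 := c.mul_symm i j (c.V i ⊓ c.V j) inf_le_left inf_le_right
  rw [rs_self] at h3
  show rs (inf_le_left : c.V i ⊓ c.V j ≤ c.V i) (w i) =
    rs (le_inf inf_le_right inf_le_left) (c.g j i) * rs (inf_le_right : c.V i ⊓ c.V j ≤ c.V j) (w j)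
  rw [h i j] at h1
  linear_combination (rs (le_inf inf_le_right inf_le_left) (c.g j i) * rs inf_le_right (w j)) * h1 +
    (-rs inf_le_left (w i) * rs (le_inf inf_le_right inf_le_left) (c.g j i) * c.g i j) * h2 +
    (-rs inf_le_left (w i)) * h3

theorem Trivial.inv {c : Coc W ι} (h : c.Trivial) : c.inv.Trivial :=
  let ⟨_, hv, hu⟩ := h
  ⟨fun i => (((hu i).unit⁻¹ : (Γ(W, c.V i))ˣ) : Γ(W, c.V i)),
    compat_inv_of_mul_eq_one hv fun i => (hu i).mul_val_inv, fun _ => Units.isUnit _⟩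

end Coc

open Coc in
/-- A section of an invertible module pulled back along `f`, in terms of transition functions. -/
structure Triv (L : W.Modules) (c : Coc W ι) where
  e : ∀ i, Γ(L, c.V i)
  gen : ∀ i, Twist.IsGen L (c.V i) (e i)
  trans : ∀ i j, M1.mres L (inf_le_right : c.V i ⊓ c.V j ≤ c.V j) (e j) =
    c.g i j • M1.mres L inf_le_left (e i)

theorem exists_triv [CompactSpace W] (L : W.Modules) (hL : PicF.IsInvertible L) :
    ∃ (n : ℕ) (c : Coc W (Fin n)), (∀ i, IsAffineOpen (c.V i)) ∧ ⨆ i, c.V i = ⊤ ∧ Nonempty (Triv L c) := by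
  choose U e hxU hle hU he using fun x : W => Amp.exists_isGenerator hL (V := ⊤) (x := x) trivial
  obtain ⟨t, ht⟩ := isCompact_univ.elim_finite_subcover (fun x => (U x : Set W)) (fun x => (U x).isOpen)
    fun x _ => Set.mem_iUnion.2 ⟨x, hxU x⟩
  let σ : Fin t.card → W := fun i => (t.equivFin.symm i).1
  have hcov : ⨆ i, U (σ i) = ⊤ := by
    refine top_le_iff.1 fun x _ => ?_
    obtain ⟨y, hy, hxy⟩ := Set.mem_iUnion₂.1 (ht (Set.mem_univ x))
    exact Opens.mem_iSup.2 ⟨t.equivFin ⟨y, hy⟩, by simpa [σ] using hxy⟩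
  have hex : ∀ i j, ∃ g : Γ(W, U (σ i) ⊓ U (σ j)),
      g • M1.mres L inf_le_left (e (σ i)) = M1.mres L inf_le_right (e (σ j)) := fun i j =>
    (he (σ i) _ inf_le_left).2 _
  choose g hg using hex
  have hres : ∀ i j (T : W.Opens) (hi : T ≤ U (σ i)) (hj : T ≤ U (σ j)),
      rs (le_inf hi hj) (g i j) • M1.mres L hi (e (σ i)) = M1.mres L hj (e (σ j)) := fun i j T hi hj => by
    have h := congrArg (M1.mres L (le_inf hi hj)) (hg i j)
    rw [M1.mres_mres, M1.mres_smul, M1.mres_mres] at h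
    exact h
  refine ⟨t.card, ⟨fun i => U (σ i), g, fun i => ?_, fun i j k T hi hj hk => ?_⟩,
    fun i => hU _, hcov, ⟨fun i => e (σ i), fun i => he (σ i), fun i j => (hg i j).symm⟩⟩
  · refine (he (σ i) (U (σ i) ⊓ U (σ i)) inf_le_left).1 ?_
    show g i i • _ = (1 : Γ(W, U (σ i) ⊓ U (σ i))) • _
    rw [one_smul]
    exact hg i i
  · refine (he (σ i) T hi).1 ?_
    show (_ * _) • M1.mres L hi (e (σ i)) = _ • M1.mres L hi (e (σ i))
    rw [mul_comm, mul_smul, hres i j T hi hj, hres j k T hj hk, hres i k T hi hk]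

/-- Pullback of a trivialisation. -/
noncomputable def Triv.pull {L : W.Modules} {c : Coc W ι} (T : Triv L c) (f : Y ⟶ W) :
    Triv ((Scheme.Modules.pullback f).obj L) (c.pull f) where
  e i := M2.pullSec f L (T.e i)
  gen i := (T.gen i).pullback f
  trans i j := by
    have key : ∀ {U V : W.Opens} (h : V ≤ U) (s : Γ(L, U)),
        M1.mres ((Scheme.Modules.pullback f).obj L) (f.preimage_mono h) (M2.pullSec f L s) =
          M2.pullSec f L (M1.mres L h s) := fun h s =>
      (M1.app_mres ((Scheme.Modules.pullbackPushforwardAdjunction f).unit.app L) h s).symm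
    refine (key inf_le_right _).trans ?_
    rw [T.trans i j, M2.pullSec_smul]
    exact congrArg (f.app (c.V i ⊓ c.V j) (c.g i j) • ·) (key inf_le_left (T.e i)).symm

theorem Triv.iso_iff {L : W.Modules} {c : Coc W ι} (T : Triv L c) (hcov : ⨆ i, c.V i = ⊤) :
    Nonempty (L ≅ Coh.structureModule W) ↔ c.Trivial := by
  constructor
  · rintro ⟨φ⟩
    have hL : PicF.IsInvertible L := M2.isInvertible_of_iso φ.symm (PicLoc.isInvertible_structureModule W)
    let s : Γ(L, ⊤) := φ.inv.app ⊤ (M1.one ⊤)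
    choose v hv using fun i => (T.gen i (c.V i) le_rfl).2 (M1.mres L (le_top : c.V i ≤ ⊤) s)
    simp only at hv
    refine ⟨v, fun i j => ?_, fun i => ?_⟩
    · refine (T.gen i _ inf_le_left).1 ?_
      show rs inf_le_left (v i) • M1.mres L inf_le_left (T.e i) = (c.g i j * rs inf_le_right (v j)) • M1.mres L inf_le_left (T.e i)
      have hi := congrArg (M1.mres L (inf_le_left : c.V i ⊓ c.V j ≤ c.V i)) (hv i)
      have hj := congrArg (M1.mres L (inf_le_right : c.V i ⊓ c.V j ≤ c.V j)) (hv j)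
      rw [M1.mres_smul, M1.mres_mres, M1.mres_mres] at hi hj
      rw [mul_comm, mul_smul, ← T.trans i j]
      exact hi.trans hj.symm
    · have hs : ∀ x (hx : x ∈ c.V i), IsUnit (W.presheaf.germ (c.V i) x hx (v i)) := fun x hx => by
        have hg : Amp.Gen (Amp.gm L x (U := c.V i) hx (v i • M1.mres L le_rfl (T.e i))) := by
          rw [hv i]
          refine Eq.mpr (congrArg Amp.Gen (M1.germ_mres L (le_top : c.V i ≤ ⊤) hx s)) ?_
          exact (Amp.gen_map_iso φ.symm (U := ⊤) (x := x) trivial (M1.one ⊤)).mpr (Amp.gen_one x (U := ⊤) trivial)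
        rw [Amp.gm_smul, M1.mres_id] at hg
        exact ((T.gen i).stalk hx |> fun h => Amp.Gen.ne_zero_smul (g := Amp.gm L x hx (T.e i)) h _).1 hg
      exact RingedSpace.isUnit_of_isUnit_germ W.toRingedSpace (c.V i) (v i) hs
  · rintro ⟨v, hv, hu⟩
    obtain ⟨s, hs, -⟩ := TopCat.Sheaf.existsUnique_gluing' (⟨L.presheaf, L.isSheaf⟩ : TopCat.Sheaf AddCommGrpCat W)
      c.V ⊤ (fun i => homOfLE le_top) hcov.ge (fun i => v i • T.e i) fun i j => by
        show M1.mres L inf_le_left (v i • T.e i) = M1.mres L inf_le_right (v j • T.e j)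
        rw [M1.mres_smul, M1.mres_smul, T.trans i j, ← mul_smul, mul_comm]
        exact congrArg (· • M1.mres L inf_le_left (T.e i)) (hv i j)
    refine Twist.nonempty_iso_of_generator L s fun U => (Twist.isGen_of_stalk (g := s) fun x _ => ?_) U le_top
    obtain ⟨i, hi⟩ := Opens.mem_iSup.1 (hcov.ge (Opens.mem_top x))
    have he : (L.presheaf.germ ⊤ x (Opens.mem_top x) s : L.presheaf.stalk x) =
        W.presheaf.germ (c.V i) x hi (v i) • (L.presheaf.germ (c.V i) x hi (T.e i) : L.presheaf.stalk x) := by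
      rw [← M1.germ_smul, ← show M1.mres L le_top s = v i • T.e i from hs i, M1.germ_mres]
    rw [he]
    exact (Amp.Gen.ne_zero_smul (g := Amp.gm L x hi (T.e i)) ((T.gen i).stalk hi) _).2 ((hu i).map _)

/-- A module trivial after pullback, in terms of transition functions. -/
theorem Triv.pull_iso_iff {L : W.Modules} {c : Coc W ι} (T : Triv L c) (hcov : ⨆ i, c.V i = ⊤) (f : Y ⟶ W) :
    Nonempty ((Scheme.Modules.pullback f).obj L ≅ Coh.structureModule Y) ↔ (c.pull f).Trivial :=
  (T.pull f).iso_iff (by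
    show ⨆ i, f ⁻¹ᵁ c.V i = ⊤
    rw [← Scheme.Hom.preimage_iSup, hcov]
    rfl)

end Groth.Agent.CubeField
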