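import Groth.Agent.Lib.CubeField.BaseChange
import Mathlib.LinearAlgebra.TensorProduct.Basis
import Mathlib.RingTheory.Flat.Basic

/-!
# Triviality descends along field extensions
-/

universe u

open CategoryTheory Limits AlgebraicGeometry TopologicalSpace Opposite TensorProduct

set_option linter.style.haveILetI false
set_option backward.isDefEq.respectTransparency false

namespace Groth.Agent.CubeField

open RigidRel

variable {K L : Type u} [Field K] [Field L] (g : CommRingCat.of K ⟶ CommRingCat.of L) {W Y : Scheme.{u}}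
  {ξ : W ⟶ Spec (CommRingCat.of K)} {η : Y ⟶ Spec (CommRingCat.of L)} {f : Y ⟶ W} {ι : Type}

theorem exists_coordinates (hsq : IsPullback f η ξ (Spec.map g)) :
    ∃ (β : Type u) (b : β → L), ∀ V : W.Opens, IsAffineOpen V →
      (∀ y : Γ(Y, f ⁻¹ᵁ V), ∃ x : β →₀ Γ(W, V),
        (x.sum fun l z => ringMap η (f ⁻¹ᵁ V) (b l) * f.app V z) = y) ∧
      (∀ x : β →₀ Γ(W, V), (x.sum fun l z => ringMap η (f ⁻¹ᵁ V) (b l) * f.app V z) = 0 → x = 0) := by
  letI : Algebra K L := g.hom.toAlgebra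
  obtain ⟨⟨β, b⟩⟩ := Module.Free.exists_basis (R := K) (M := L)
  refine ⟨β, b, fun V hV => ?_⟩
  letI := (ringMap ξ V).hom.toAlgebra
  letI := (ringMap η (f ⁻¹ᵁ V)).hom.toAlgebra
  letI : Algebra K Γ(Y, f ⁻¹ᵁ V) := ((ringMap η (f ⁻¹ᵁ V)).hom.comp g.hom).toAlgebra
  obtain ⟨_, e, he⟩ := isBaseChange_app g hsq hV
  classical
  let E := TensorProduct.equivFinsuppOfBasisLeft (N := Γ(W, V)) b
  have key : ∀ x : β →₀ Γ(W, V), e (E.symm x) = x.sum fun l z => ringMap η (f ⁻¹ᵁ V) (b l) * f.app V z := by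
    intro x
    rw [show E.symm x = x.sum fun l z => b l ⊗ₜ[K] z from TensorProduct.equivFinsuppOfBasisLeft_symm_apply b x,
      map_finsuppSum]
    exact Finsupp.sum_congr fun l _ => he _ _
  exact ⟨fun y => ⟨E (e.symm y), by rw [← key, LinearEquiv.symm_apply_apply, LinearEquiv.apply_symm_apply]⟩,
    fun x hx => E.symm.map_eq_zero_iff.1 (e.map_eq_zero_iff.1 ((key x).trans hx))⟩

theorem sum_res {β : Type u} (b : β → L) {U V : W.Opens} (h : V ≤ U) (x : β →₀ Γ(W, U)) :
    rs (f.preimage_mono h) (x.sum fun l z => ringMap η (f ⁻¹ᵁ U) (b l) * f.app U z) =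
      x.sum fun l z => ringMap η (f ⁻¹ᵁ V) (b l) * f.app V (rs h z) := by
  rw [map_finsuppSum]
  refine Finsupp.sum_congr fun l _ => ?_
  rw [map_mul, rs_ringMap, app_rs]

/-- If a pulled back cocycle has a nowhere vanishing section, sections downstairs are zero or nowhere vanishing. -/
theorem exists_section_unit (hsq : IsPullback f η ξ (Spec.map g)) [Finite ι] (c : Coc W ι)
    (hcov : ⨆ i, c.V i = ⊤) (hV : ∀ i, IsAffineOpen (c.V i)) (hI : ∀ i j, IsAffineOpen (c.V i ⊓ c.V j))
    (hY : Function.Surjective (ringMap η ⊤).hom) (h : (c.pull f).Trivial) :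
    ∃ x, c.Compat x ∧ ∀ i, IsUnit (f.app (c.V i) (x i)) := by
  haveI := Fintype.ofFinite ι
  classical
  obtain ⟨β, b, hb⟩ := exists_coordinates g hsq
  obtain ⟨w', hw', hwu⟩ := h.inv
  obtain ⟨v', hv', hvu⟩ := h
  choose x hx using fun i => (hb _ (hV i)).1 (v' i)
  have hc : ∀ l, c.Compat fun i => x i l := fun l i j => by
    let φ : ∀ i j, β →₀ Γ(W, c.V i ⊓ c.V j) := fun i j =>
      (x i).mapRange (rs inf_le_left) (map_zero _) -
        (x j).mapRange (fun z => c.g i j * rs inf_le_right z) (by rw [map_zero, mul_zero])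
    have h0 : φ i j = 0 := by
      refine (hb _ (hI i j)).2 _ ?_
      have hsplit : (φ i j).sum (fun l z => ringMap η (f ⁻¹ᵁ (c.V i ⊓ c.V j)) (b l) * f.app _ z) =
          rs (f.preimage_mono inf_le_left) (v' i) -
            f.app _ (c.g i j) * rs (f.preimage_mono inf_le_right) (v' j) := by
        rw [Finsupp.sum_sub_index (fun a y z => by rw [map_sub, mul_sub]), Finsupp.sum_mapRange_index
          (fun a => by rw [map_zero, mul_zero]), Finsupp.sum_mapRange_index (fun a => by rw [map_zero, mul_zero]),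
          ← hx i, ← hx j, sum_res (η := η) (f := f) b inf_le_left, sum_res (η := η) (f := f) b inf_le_right,
          Finsupp.mul_sum]
        exact congrArg _ (Finsupp.sum_congr fun l _ => by rw [map_mul, mul_left_comm])
      rw [hsplit, sub_eq_zero]
      exact hv' i j
    have h1 := congrArg (fun z => z l) h0
    simpa [φ, sub_eq_zero] using h1
  by_cases hzero : ∀ i, f.app (c.V i) 1 = 0
  · refine ⟨0, fun i j => by simp, fun i => ?_⟩
    have : (1 : Γ(Y, f ⁻¹ᵁ c.V i)) = 0 := by simpa using hzero i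
    haveI := subsingleton_of_zero_eq_one this.symm
    exact isUnit_of_subsingleton _
  push Not at hzero
  obtain ⟨i₀, hi₀⟩ := hzero
  have hne : x i₀ ≠ 0 := by
    intro h0
    have := hx i₀
    rw [h0, Finsupp.sum_zero_index] at this
    have hu := hvu i₀
    rw [← this] at hu
    exact hi₀ (by rw [map_one]; exact (isUnit_zero_iff.1 hu).symm)
  obtain ⟨l, hl⟩ := Finsupp.ne_iff.1 hne
  refine ⟨fun i => x i l, hc l, ?_⟩
  obtain ⟨F, hF⟩ := (c.pull f).exists_glue_mul (by
    show ⨆ i, f ⁻¹ᵁ c.V i = ⊤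
    rw [← Scheme.Hom.preimage_iSup, hcov]; rfl) ((hc l).pull f) hw'
  obtain ⟨a, rfl⟩ := hY F
  have ha : a ≠ 0 := fun ha => hl <| by
    have h1 := hF i₀
    rw [ha, map_zero, map_zero] at h1
    refine app_injective g hsq (hV i₀) g.hom.injective ?_
    rw [Finsupp.coe_zero, Pi.zero_apply, map_zero]
    exact ((hwu i₀).mul_left_eq_zero).1 h1.symm
  intro i
  have h1 : IsUnit (rs le_top (ringMap η ⊤ a) : Γ(Y, f ⁻¹ᵁ c.V i)) :=
    ((isUnit_iff_ne_zero.2 ha).map (ringMap η ⊤).hom).map _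
  exact isUnit_of_mul_isUnit_left (hF i ▸ h1)

/-- Triviality descends along field extensions. -/
theorem trivial_of_trivial_pull_field [Flat ξ] (hsq : IsPullback f η ξ (Spec.map g)) [Finite ι] (c : Coc W ι)
    (hcov : ⨆ i, c.V i = ⊤) (hV : ∀ i, IsAffineOpen (c.V i)) (hI : ∀ i j, IsAffineOpen (c.V i ⊓ c.V j))
    (hW : Function.Surjective (ringMap ξ ⊤).hom) (hY : Function.Surjective (ringMap η ⊤).hom)
    (h : (c.pull f).Trivial) : c.Trivial := by
  obtain ⟨x, hx, hxu⟩ := exists_section_unit g hsq c hcov hV hI hY h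
  obtain ⟨z, hz, hzu⟩ := exists_section_unit g hsq c.inv hcov hV
    (fun i j => by rw [inf_comm]; exact hI j i) hY (by rw [← Coc.inv_pull]; exact h.inv)
  refine ⟨x, hx, fun i => ?_⟩
  obtain ⟨G, hG⟩ := c.exists_glue_mul hcov hx hz
  change ∀ i, Γ(W, c.V i) at z
  obtain ⟨a, rfl⟩ := hW G
  have h1 : IsUnit (f.app (c.V i) (x i * z i)) := by rw [map_mul]; exact (hxu i).mul (hzu i)
  rw [← hG i] at h1
  rcases eq_or_ne a 0 with rfl | ha
  · rw [map_zero, map_zero, map_zero] at h1
    haveI : Subsingleton Γ(W, c.V i) := by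
      refine subsingleton_of_zero_eq_one (app_injective g hsq (hV i) g.hom.injective ?_)
      rw [map_zero, map_one]
      exact isUnit_zero_iff.1 h1
    exact isUnit_of_subsingleton _
  · exact isUnit_of_mul_isUnit_left (hG i ▸ ((isUnit_iff_ne_zero.2 ha).map (ringMap ξ ⊤).hom).map _)

end Groth.Agent.CubeField
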