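import Groth.Agent.Lib.CubeField.AmpleSec
import Groth.Agent.Lib.CubeField.Field

/-!
# Ampleness descends along field extensions
-/

universe u

open CategoryTheory Limits AlgebraicGeometry TopologicalSpace Opposite

set_option linter.style.haveILetI false
set_option backward.isDefEq.respectTransparency false

namespace Groth.Agent.CubeField

open RigidRel

/-- The functions on `U` whose non-vanishing locus lies in `V`. -/
def locIdeal {W : Scheme.{u}} (U V : W.Opens) : Ideal Γ(W, U) where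
  carrier := {a | W.basicOpen a ≤ V}
  zero_mem' := by simp
  add_mem' := fun {a b} ha hb => (W.basicOpen_add_le a b).trans (sup_le ha hb)
  smul_mem' := fun a b hb => by
    show W.basicOpen (a * b) ≤ V
    rw [W.basicOpen_mul]
    exact inf_le_right.trans hb

theorem mem_locIdeal {W : Scheme.{u}} {U V : W.Opens} {a : Γ(W, U)} : a ∈ locIdeal U V ↔ W.basicOpen a ≤ V :=
  Iff.rfl

/-- A function whose locus lies in the preimage of `V` has a power in the ideal of `V`. -/
theorem exists_pow_mem_map_locIdeal {W Y : Scheme.{u}} (f : Y ⟶ W) {U V : W.Opens} (hU : IsAffineOpen U)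
    (hfU : IsAffineOpen (f ⁻¹ᵁ U)) (v : Γ(Y, f ⁻¹ᵁ U)) (hv : Y.basicOpen v ≤ f ⁻¹ᵁ V) :
    ∃ m, v ^ m ∈ (locIdeal U V).map (f.app U).hom := by
  suffices h : v ∈ ((locIdeal U V).map (f.app U).hom).radical from h
  rw [Ideal.radical_eq_sInf, Submodule.mem_sInf]
  rintro p ⟨hp, hp'⟩
  by_contra hvp
  let z := hfU.fromSpec ⟨p, hp'⟩
  have hzv : z ∈ Y.basicOpen v := by
    have : (⟨p, hp'⟩ : PrimeSpectrum _) ∈ hfU.fromSpec ⁻¹ᵁ Y.basicOpen v := by
      rw [hfU.fromSpec_preimage_basicOpen]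
      exact hvp
    exact this
  have hzU : f z ∈ U := Y.basicOpen_le v hzv
  obtain ⟨a, ha, hza⟩ := hU.exists_basicOpen_le (V := V) ⟨f z, hv hzv⟩ hzU
  have hzb : z ∈ Y.basicOpen (f.app U a) := by
    rw [← Scheme.preimage_basicOpen]
    exact hza
  have hfa : f.app U a ∈ p := hp (Ideal.mem_map_of_mem _ (mem_locIdeal.2 ha))
  have : (⟨p, hp'⟩ : PrimeSpectrum _) ∈ hfU.fromSpec ⁻¹ᵁ Y.basicOpen (f.app U a) := hzb
  rw [hfU.fromSpec_preimage_basicOpen] at this
  exact this hfa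

variable {K L : Type u} [Field K] [Field L] (g : CommRingCat.of K ⟶ CommRingCat.of L) {W Y : Scheme.{u}}
  {ξ : W ⟶ Spec (CommRingCat.of K)} {η : Y ⟶ Spec (CommRingCat.of L)} {f : Y ⟶ W}

/-- Coordinates of an element of an extended ideal lie in the ideal. -/
theorem exists_coordinates_mem {β : Type u} (b : β → L) {U : W.Opens}
    (hb : ∀ y : Γ(Y, f ⁻¹ᵁ U), ∃ x : β →₀ Γ(W, U),
      (x.sum fun l z => ringMap η (f ⁻¹ᵁ U) (b l) * f.app U z) = y)
    (J : Ideal Γ(W, U)) {y : Γ(Y, f ⁻¹ᵁ U)} (hy : y ∈ J.map (f.app U).hom) :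
    ∃ x : β →₀ Γ(W, U), (∀ l, x l ∈ J) ∧
      (x.sum fun l z => ringMap η (f ⁻¹ᵁ U) (b l) * f.app U z) = y := by
  rw [Ideal.map] at hy
  induction hy using Submodule.span_induction with
  | mem y hy =>
    obtain ⟨a, ha, rfl⟩ := hy
    obtain ⟨x, hx⟩ := hb 1
    refine ⟨x.mapRange (fun z => a * z) (mul_zero a), fun l => by
      rw [Finsupp.mapRange_apply]; exact J.mul_mem_right _ ha, ?_⟩
    rw [Finsupp.sum_mapRange_index (fun l => by rw [map_zero, mul_zero]), ← mul_one ((f.app U).hom a), ← hx,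
      Finsupp.mul_sum]
    exact Finsupp.sum_congr fun l _ => by rw [map_mul, mul_left_comm]
  | zero => exact ⟨0, fun l => J.zero_mem, by rw [Finsupp.sum_zero_index]⟩
  | add y z _ _ hy hz =>
    obtain ⟨x, hx, rfl⟩ := hy
    obtain ⟨x', hx', rfl⟩ := hz
    exact ⟨x + x', fun l => J.add_mem (hx l) (hx' l), Finsupp.sum_add_index'
      (fun l => by rw [map_zero, mul_zero]) fun l p q => by rw [map_add, mul_add]⟩
  | smul r y _ hy =>
    obtain ⟨x, hx, rfl⟩ := hy
    obtain ⟨r', rfl⟩ := hb r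
    classical
    rw [smul_eq_mul, Finsupp.mul_sum]
    choose p hp using fun l => hb ((r'.sum fun l z => ringMap η (f ⁻¹ᵁ U) (b l) * f.app U z) *
      ringMap η (f ⁻¹ᵁ U) (b l))
    refine ⟨x.sum fun l z => (p l).mapRange (fun t => t * z) (zero_mul z), fun l' => ?_, ?_⟩
    · rw [Finsupp.sum_apply]
      refine J.sum_mem fun l _ => ?_
      simp only [Finsupp.mapRange_apply]
      exact J.mul_mem_left _ (hx l)
    · rw [Finsupp.sum_sum_index (fun l => by rw [map_zero, mul_zero]) fun l s t => by rw [map_add, mul_add]]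
      refine Finsupp.sum_congr fun l _ => ?_
      rw [Finsupp.sum_mapRange_index (fun a => by rw [map_zero, mul_zero]), ← mul_assoc, ← hp l, Finsupp.sum_mul]
      exact Finsupp.sum_congr fun a _ => by rw [map_mul, mul_assoc]

/-- A module which becomes ample after a field extension is ample. -/
theorem isAmple_of_pullback_field (hsq : IsPullback f η ξ (Spec.map g)) [CompactSpace W] [W.IsSeparated]
    {N : W.Modules} (hN : PicF.IsInvertible N)
    (h : CohB1.IsAmple ((Scheme.Modules.pullback f).obj N)) : CohB1.IsAmple N := by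
  classical
  haveI : Surjective (Spec.map g) := ⟨fun x =>
    ⟨IsLocalRing.closedPoint L, Subsingleton.elim (α := Spec (CommRingCat.of K)) _ _⟩⟩
  haveI : Surjective f := MorphismProperty.of_isPullback hsq.flip ‹Surjective (Spec.map g)›
  haveI : IsAffineHom f := MorphismProperty.of_isPullback hsq.flip (inferInstance : IsAffineHom (Spec.map g))
  refine Amp.isAmple_of_basis hN fun x V hx => ?_
  obtain ⟨y, hy⟩ := f.surjective x
  obtain ⟨n, G, ⟨s, hs⟩, hyG, hGV, -⟩ :=
    Amp.exists_hasSec_le h (x := y) (V := f ⁻¹ᵁ V) (show f y ∈ V from hy ▸ hx)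
  have hM := Amp.isInvertible_tensorPow hN (n + 1)
  obtain ⟨N₀, c, hV, hcov, ⟨T⟩⟩ := exists_triv _ hM
  let s' : Coh.structureModule Y ⟶ (Scheme.Modules.pullback f).obj (CohB1.tensorPow N (n + 1)) :=
    s ≫ (M2.pullTensorPowIso f N (n + 1)).inv
  have hs' : CohB1.genLocus _ s' = G := by
    rw [← hs]; exact Amp.genLocus_comp_iso (M2.pullTensorPowIso f N (n + 1)).symm s
  obtain ⟨v, hv, hvG⟩ := (T.pull f).exists_coords (PicLoc.isInvertible_pullback f hM) s'
  have hle : ∀ i, Y.basicOpen (v i) ≤ f ⁻¹ᵁ V := fun i => by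
    rw [← hvG i]; exact inf_le_left.trans (hs'.le.trans hGV)
  choose m hm using fun i => exists_pow_mem_map_locIdeal f (hV i) ((hV i).preimage f) (v i) (hle i)
  obtain ⟨m₀, hm₀⟩ : ∃ m₀, ∀ i, v i ^ (m₀ + 1) ∈ (locIdeal (c.V i) V).map (f.app (c.V i)).hom :=
    ⟨Finset.univ.sup m, fun i => Ideal.pow_mem_of_pow_mem _ (hm i)
      ((Finset.le_sup (Finset.mem_univ i)).trans (Nat.le_succ _))⟩
  obtain ⟨β, b, hb⟩ := exists_coordinates g hsq
  choose x' hxJ hxsum using fun i =>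
    exists_coordinates_mem (η := η) b (hb _ (hV i)).1 (locIdeal (c.V i) V) (hm₀ i)
  have hI : ∀ i j, IsAffineOpen (c.V i ⊓ c.V j) := fun i j => (hV i).inf (hV j)
  let c' := c.pow (m₀ + 1)
  have hw : (c'.pull f).Compat fun i => v i ^ (m₀ + 1) := fun i j => by
    have h1 := congrArg (· ^ (m₀ + 1)) (hv i j)
    simp only [mul_pow, ← map_pow] at h1
    show rs (f.preimage_mono (inf_le_left : c.V i ⊓ c.V j ≤ c.V i)) (v i ^ (m₀ + 1)) =
      f.app (c.V i ⊓ c.V j) (c.g i j ^ (m₀ + 1)) *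
        rs (f.preimage_mono (inf_le_right : c.V i ⊓ c.V j ≤ c.V j)) (v j ^ (m₀ + 1))
    exact h1.trans (congrArg (· * _) (map_pow (f.app (c.V i ⊓ c.V j)).hom (c.g i j) (m₀ + 1)).symm)
  have hc : ∀ l, c'.Compat fun i => x' i l := fun l i j => by
    let φ : β →₀ Γ(W, c.V i ⊓ c.V j) :=
      (x' i).mapRange (rs inf_le_left) (map_zero _) -
        (x' j).mapRange (fun z => c.g i j ^ (m₀ + 1) * rs inf_le_right z) (by rw [map_zero, mul_zero])
    have h0 : φ = 0 := by
      refine (hb _ (hI i j)).2 _ ?_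
      have hsplit : φ.sum (fun l z => ringMap η (f ⁻¹ᵁ (c.V i ⊓ c.V j)) (b l) * f.app _ z) =
          rs (f.preimage_mono inf_le_left) (v i ^ (m₀ + 1)) -
            f.app _ (c.g i j ^ (m₀ + 1)) * rs (f.preimage_mono inf_le_right) (v j ^ (m₀ + 1)) := by
        rw [Finsupp.sum_sub_index (fun a y z => by rw [map_sub, mul_sub]), Finsupp.sum_mapRange_index
          (fun a => by rw [map_zero, mul_zero]), Finsupp.sum_mapRange_index (fun a => by rw [map_zero, mul_zero]),
          ← hxsum i, ← hxsum j, sum_res (η := η) (f := f) b inf_le_left, sum_res (η := η) (f := f) b inf_le_right,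
          Finsupp.mul_sum]
        exact congrArg _ (Finsupp.sum_congr fun l _ => by rw [map_mul, mul_left_comm])
      rw [hsplit, sub_eq_zero]
      exact hw i j
    have h1 := congrArg (fun z => z l) h0
    simpa [φ, c', Coc.pow, sub_eq_zero] using h1
  obtain ⟨i₀, hi₀⟩ : ∃ i, x ∈ c.V i := Opens.mem_iSup.1 (hcov.ge (Opens.mem_top x))
  have hy₀ : y ∈ f ⁻¹ᵁ c.V i₀ := show f y ∈ c.V i₀ from hy ▸ hi₀
  have hyv : y ∈ Y.basicOpen (v i₀ ^ (m₀ + 1)) := by
    rw [Scheme.basicOpen_pow _ _ (Nat.succ_pos _), ← hvG i₀]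
    exact ⟨hs'.ge hyG, hy₀⟩
  obtain ⟨l, hl⟩ : ∃ l, x ∈ W.basicOpen (x' i₀ l) := by
    by_contra hcon
    simp only [not_exists] at hcon
    rw [Scheme.mem_basicOpen Y _ y hy₀, ← hxsum i₀, map_finsuppSum] at hyv
    refine (IsLocalRing.mem_maximalIdeal _).1 (Ideal.sum_mem _ fun l _ => ?_) hyv
    simp only [map_mul]
    refine Ideal.mul_mem_left _ _ ((IsLocalRing.mem_maximalIdeal _).2 fun hu => hcon l ?_)
    have : y ∈ f ⁻¹ᵁ W.basicOpen (x' i₀ l) := by
      rw [Scheme.preimage_basicOpen]; exact (Scheme.mem_basicOpen Y _ y hy₀).2 hu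
    exact hy ▸ this
  obtain ⟨t, ht⟩ := (T.pow hM (m₀ + 1)).exists_hom (Amp.isInvertible_tensorPow hM _)
    (show ⨆ i, c'.V i = ⊤ from hcov) (hc l)
  refine ⟨(n + 1) * (m₀ + 1) - 1, CohB1.genLocus _ t, ?_, ?_, fun z hz => ?_⟩
  · exact (Amp.hasSec_of_iso (M2.tensorPowPow N (n + 1) (m₀ + 1)) t).of_eq
      (Nat.sub_add_cancel (Nat.mul_pos n.succ_pos m₀.succ_pos)).symm
  · exact ((ht i₀).ge hl).1
  · obtain ⟨i, hi⟩ := Opens.mem_iSup.1 (hcov.ge (Opens.mem_top z))
    exact mem_locIdeal.1 (hxJ i l) ((ht i).le ⟨hz, hi⟩)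

end Groth.Agent.CubeField
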