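import Groth.Agent.Lib.CubeField.Square
import Groth.Agent.Lib.CubeField.AmpleDescent
import Groth.Agent.Lib.TensorMod.IdealMod
import Mathlib.AlgebraicGeometry.AlgClosed.Basic
import Mathlib.AlgebraicGeometry.Group.Abelian
import Mathlib.FieldTheory.IsAlgClosed.AlgebraicClosure

/-!
# Ampleness on abelian varieties of modules with an affine non-vanishing locus
-/

universe u

open CategoryTheory Limits MonoidalCategory CartesianMonoidalCategory AlgebraicGeometry
  TopologicalSpace

set_option linter.style.haveILetI false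
set_option backward.isDefEq.respectTransparency false

open scoped MonObj GrpObj

namespace Groth.Agent.CubeField

variable {k : Type u} [Field k] {A : Over (Spec (CommRingCat.of k))} [GrpObj A]

/-- Translation by a rational point. -/
noncomputable abbrev trans₁ (a : 𝟙_ (Over (Spec (CommRingCat.of k))) ⟶ A) : A ⟶ A := 𝟙 A * (toUnit A ≫ a)

theorem trans₁_comp (a b : 𝟙_ (Over (Spec (CommRingCat.of k))) ⟶ A) : trans₁ a ≫ trans₁ b = trans₁ (a * b) := by
  simp only [trans₁, MonObj.comp_mul, Category.comp_id, mul_assoc]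
  rw [← Category.assoc, CartesianMonoidalCategory.comp_toUnit]

theorem trans₁_one : trans₁ (1 : 𝟙_ (Over (Spec (CommRingCat.of k))) ⟶ A) = 𝟙 A := by
  simp only [trans₁, MonObj.comp_one, mul_one]

instance (a : 𝟙_ (Over (Spec (CommRingCat.of k))) ⟶ A) : IsIso (trans₁ a).left :=
  ((Over.forget _).mapIso (⟨trans₁ a, trans₁ a⁻¹, by rw [trans₁_comp, mul_inv_cancel, trans₁_one],
    by rw [trans₁_comp, inv_mul_cancel, trans₁_one]⟩ : A ≅ A)).isIso_hom

theorem hasSec_one {X : Scheme.{u}} {N : X.Modules} (s : Coh.structureModule X ⟶ N) :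
    Amp.HasSec N 1 (CohB1.genLocus N s) :=
  Amp.hasSec_of_iso (M2.tensorLUnit N).symm s

variable [IsProper A.hom] [GeometricallyIntegral A.hom]

theorem isAmple_of_affine_genLocus_isAlgClosed (hfin : FinH1.{u}) [IsAlgClosed k] {N : A.left.Modules}
    (hN : PicF.IsInvertible N) (s : Coh.structureModule A.left ⟶ N)
    (hU : IsAffineOpen (CohB1.genLocus N s)) (hne : (CohB1.genLocus N s : Set A.left).Nonempty) :
    CohB1.IsAmple N := by
  set U := CohB1.genLocus N s with hUdef
  haveI := isCommMonObj_of_isProper_of_geometricallyIntegral A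
  haveI : IsIntegral A.left := GeometricallyIntegral.isIntegral_of_subsingleton A.hom
  haveI : CompactSpace A.left := QuasiCompact.compactSpace_of_compactSpace A.hom
  haveI : A.left.IsSeparated := ⟨by rw [← Limits.terminal.comp_from A.hom]; infer_instance⟩
  haveI : JacobsonSpace A.left := LocallyOfFiniteType.jacobsonSpace A.hom
  suffices hclosed : ∀ x : A.left, IsClosed ({x} : Set A.left) →
      ∃ G : A.left.Opens, Amp.HasSec N 2 G ∧ x ∈ G ∧ IsAffineOpen G by
    refine Amp.isAmple_iff.2 ⟨hN, inferInstance, fun y => ?_⟩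
    obtain ⟨x, hxy, hx⟩ := nonempty_inter_closedPoints (Z := closure {y}) ⟨y, subset_closure rfl⟩
      isClosed_closure.isLocallyClosed
    obtain ⟨G, hG, hxG, hA⟩ := hclosed x hx
    exact ⟨1, G, hG, (specializes_iff_mem_closure.2 hxy).mem_open G.isOpen hxG, hA⟩
  intro x hx
  let x₁ : 𝟙_ (Over (Spec (CommRingCat.of k))) ⟶ A := Over.homMk (pointOfClosedPoint A.hom x hx) (by simp)
  let φ : A ⟶ A := (toUnit A ≫ x₁) * 𝟙 A
  let ψ : A ⟶ A := (toUnit A ≫ x₁) * (𝟙 A)⁻¹
  have hφ : Surjective φ.left := by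
    have h1 : ((toUnit A ≫ x₁⁻¹) * 𝟙 A) ≫ φ = 𝟙 A := by
      simp only [φ, MonObj.comp_mul, Category.comp_id]
      rw [← Category.assoc, CartesianMonoidalCategory.comp_toUnit, GrpObj.comp_inv, ← mul_assoc, mul_inv_cancel, one_mul]
    haveI : Surjective (((toUnit A ≫ x₁⁻¹) * 𝟙 A).left ≫ φ.left) := by
      rw [← Over.comp_left, h1, Over.id_left]; infer_instance
    exact Surjective.of_comp ((toUnit A ≫ x₁⁻¹) * 𝟙 A).left φ.left
  have hψ : Surjective ψ.left := by
    have h1 : ψ ≫ ψ = 𝟙 A := by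
      simp only [ψ, MonObj.comp_mul, GrpObj.comp_inv, Category.comp_id]
      rw [← Category.assoc, CartesianMonoidalCategory.comp_toUnit, mul_inv_rev, inv_inv, mul_comm (𝟙 A),
        mul_inv_cancel_left]
    haveI : Surjective (ψ.left ≫ ψ.left) := by
      rw [← Over.comp_left, h1, Over.id_left]; infer_instance
    exact Surjective.of_comp ψ.left ψ.left
  have hW1 : ((φ.left ⁻¹ᵁ U : A.left.Opens) : Set A.left).Nonempty :=
    let ⟨z, hz⟩ := hne; let ⟨w, hw⟩ := φ.left.surjective z; ⟨w, show φ.left w ∈ U from hw ▸ hz⟩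
  have hW2 : ((ψ.left ⁻¹ᵁ U : A.left.Opens) : Set A.left).Nonempty :=
    let ⟨z, hz⟩ := hne; let ⟨w, hw⟩ := ψ.left.surjective z; ⟨w, show ψ.left w ∈ U from hw ▸ hz⟩
  obtain ⟨a₀, ha₀, hac⟩ := nonempty_inter_closedPoints
    (Z := ((φ.left ⁻¹ᵁ U : A.left.Opens) : Set A.left) ∩ (ψ.left ⁻¹ᵁ U : A.left.Opens))
    (nonempty_preirreducible_inter (φ.left ⁻¹ᵁ U).isOpen (ψ.left ⁻¹ᵁ U).isOpen hW1 hW2)
    ((φ.left ⁻¹ᵁ U).isOpen.inter (ψ.left ⁻¹ᵁ U).isOpen).isLocallyClosed
  let a : 𝟙_ (Over (Spec (CommRingCat.of k))) ⟶ A := Over.homMk (pointOfClosedPoint A.hom a₀ hac) (by simp)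
  have hxa : ∀ (b : 𝟙_ (Over (Spec (CommRingCat.of k))) ⟶ A) (χ : A ⟶ A), x₁ ≫ trans₁ b = a ≫ χ →
      χ.left a₀ ∈ U → x ∈ (trans₁ b).left ⁻¹ᵁ U := fun b χ hb hmem => by
    show (trans₁ b).left x ∈ U
    have h1 : (x₁ ≫ trans₁ b).left (IsLocalRing.closedPoint k) = (a ≫ χ).left (IsLocalRing.closedPoint k) := by
      rw [hb]
    have h2 : (x₁ ≫ trans₁ b).left (IsLocalRing.closedPoint k) = (trans₁ b).left x := by simp [x₁]
    have h3 : (a ≫ χ).left (IsLocalRing.closedPoint k) = χ.left a₀ := by simp [a]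
    rw [← h2, h1, h3]; exact hmem
  have hx1 := hxa a φ (by simp only [trans₁, φ, MonObj.comp_mul, Category.comp_id, ← Category.assoc,
    toUnit_unique (x₁ ≫ toUnit A) (𝟙 _), toUnit_unique (a ≫ toUnit A) (𝟙 _), Category.id_comp]) ha₀.1
  have hx2 := hxa a⁻¹ ψ (by simp only [trans₁, ψ, MonObj.comp_mul, GrpObj.comp_inv, Category.comp_id, ← Category.assoc,
    toUnit_unique (x₁ ≫ toUnit A) (𝟙 _), toUnit_unique (a ≫ toUnit A) (𝟙 _), Category.id_comp]) ha₀.2
  obtain ⟨e⟩ := cl_translate (L := N) hfin a a⁻¹ hN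
  refine ⟨(trans₁ a).left ⁻¹ᵁ U ⊓ (trans₁ a⁻¹).left ⁻¹ᵁ U, ?_, ⟨hx1, hx2⟩,
    (hU.preimage _).inf (hU.preimage _)⟩
  have h2 := ((hasSec_one s).pullback (trans₁ a).left hN).tensor (PicLoc.isInvertible_pullback _ hN)
    (PicLoc.isInvertible_pullback _ hN) ((hasSec_one s).pullback (trans₁ a⁻¹).left hN)
  let e₁ : (Scheme.Modules.pullback (𝟙 A * (toUnit A ≫ (a * a⁻¹))).left).obj N ≅ N :=
    eqToIso (by rw [mul_inv_cancel, MonObj.comp_one, mul_one, Over.id_left]) ≪≫
      (Scheme.Modules.pullbackId A.left).app N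
  have h3 := (h2.map_iso e.symm).map_iso
    (M2.tensorIso (e₁ ≪≫ (M2.tensorLUnit N).symm) (Iso.refl N))
  exact (h3.of_tensorPow (a := 2)).of_eq rfl

/-- An invertible module with a nonempty affine non-vanishing locus is ample. -/
theorem isAmple_of_affine_genLocus (hfin : FinH1.{u}) {N : A.left.Modules}
    (hN : PicF.IsInvertible N) (s : Coh.structureModule A.left ⟶ N)
    (hU : IsAffineOpen (CohB1.genLocus N s)) (hne : (CohB1.genLocus N s : Set A.left).Nonempty) :
    CohB1.IsAmple N := by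
  let K := AlgebraicClosure k
  let g := CommRingCat.ofHom (algebraMap k K)
  let F := Over.pullback (Spec.map g)
  let B := F.obj A
  haveI : GrpObj B := Functor.grpObjObj
  haveI : IsProper B.hom := inferInstanceAs (IsProper (pullback.snd A.hom (Spec.map g)))
  haveI : GeometricallyIntegral B.hom := inferInstanceAs (GeometricallyIntegral (pullback.snd A.hom (Spec.map g)))
  let f : B.left ⟶ A.left := pullback.fst A.hom (Spec.map g)
  have hsq : IsPullback f B.hom A.hom (Spec.map g) := IsPullback.of_hasPullback _ _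
  haveI : CompactSpace A.left := QuasiCompact.compactSpace_of_compactSpace A.hom
  haveI : A.left.IsSeparated := ⟨by rw [← Limits.terminal.comp_from A.hom]; infer_instance⟩
  refine isAmple_of_pullback_field g hsq hN ?_
  haveI : Surjective (Spec.map g) := ⟨fun x =>
    ⟨IsLocalRing.closedPoint K, Subsingleton.elim (α := Spec (CommRingCat.of k)) _ _⟩⟩
  haveI : Surjective f := MorphismProperty.of_isPullback hsq.flip ‹Surjective (Spec.map g)›
  haveI : IsAffineHom f := MorphismProperty.of_isPullback hsq.flip (inferInstance : IsAffineHom (Spec.map g))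
  let e := (PicLoc.pullbackStructureIso f).symm
  have hloc := Amp.genLocus_pullback f hN s e
  refine isAmple_of_affine_genLocus_isAlgClosed hfin (PicLoc.isInvertible_pullback f hN)
    (e.hom ≫ (Scheme.Modules.pullback f).map s) (hloc ▸ hU.preimage f) ?_
  rw [hloc]
  obtain ⟨z, hz⟩ := hne
  obtain ⟨w, hw⟩ := f.surjective z
  exact ⟨w, show f w ∈ CohB1.genLocus N s from hw ▸ hz⟩

end Groth.Agent.CubeField
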