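import Groth.Agent.Lib.RigidRel.Global
import Groth.Agent.Lib.CubeField.Coc
import Mathlib.RingTheory.Flat.Basic
import Mathlib.RingTheory.IsTensorProduct

/-!
# Functions on affine opens under base change of an affine base
-/

universe u

open CategoryTheory Limits AlgebraicGeometry TopologicalSpace Opposite TensorProduct

set_option linter.style.haveILetI false
set_option backward.isDefEq.respectTransparency false

namespace Groth.Agent.CubeField

open RigidRel

variable {A B : CommRingCat.{u}} (g : A ⟶ B) {W Y : Scheme.{u}} {ξ : W ⟶ Spec A} {η : Y ⟶ Spec B}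
  {f : Y ⟶ W}

theorem rs_ringMap {U V : W.Opens} (h : V ≤ U) (a : A) :
    rs h (ringMap ξ U a) = ringMap ξ V a :=
  ConcreteCategory.congr_hom (ringMap_res ξ h) a

theorem app_ringMap (hsq : CommSq f η ξ (Spec.map g)) (V : W.Opens) (a : A) :
    f.app V (ringMap ξ V a) = ringMap η (f ⁻¹ᵁ V) (g a) := by
  suffices h : ringMap ξ V ≫ f.app V = g ≫ ringMap η (f ⁻¹ᵁ V) from ConcreteCategory.congr_hom h a
  rw [ringMap, ringMap, Category.assoc, Scheme.Hom.app_eq_appLE, Scheme.Hom.appLE_comp_appLE]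
  simp only [hsq.w]
  rw [← Scheme.Hom.appLE_comp_appLE _ _ ⊤ ⊤ _ le_top le_top]
  have e : (Scheme.ΓSpecIso A).inv ≫ (Spec.map g).appLE ⊤ ⊤ le_top = g ≫ (Scheme.ΓSpecIso B).inv := by
    rw [Scheme.ΓSpecIso_inv_naturality, Scheme.Hom.appTop, Scheme.Hom.app_eq_appLE]
    rfl
  rw [← Category.assoc, e, Category.assoc]

theorem isPushout_app (hsq : IsPullback f η ξ (Spec.map g)) {V : W.Opens} (hV : IsAffineOpen V) :
    IsPushout (ringMap ξ V) g (f.app V) (ringMap η (f ⁻¹ᵁ V)) := by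
  have h := isIso_pushoutSection_of_isAffineOpen hsq (US := ⊤) (UT := ⊤)
    (UX := V) (UY := f ⁻¹ᵁ V) le_top le_top (by simp) (isAffineOpen_top _) (isAffineOpen_top _) hV
  replace h := (isIso_pushoutSection_iff _ _ _ _).mp h
  refine h.of_iso (Scheme.ΓSpecIso A) (Iso.refl _) (Scheme.ΓSpecIso B) (Iso.refl _) ?_ ?_ ?_ ?_
  · simp only [Iso.refl_hom, Category.comp_id]
    show _ = (Scheme.ΓSpecIso A).hom ≫ ringMap ξ V
    rw [ringMap, Iso.hom_inv_id_assoc]
  · rw [← Scheme.ΓSpecIso_naturality, Scheme.Hom.appTop, Scheme.Hom.app_eq_appLE]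
    rfl
  · simp only [Iso.refl_hom, Category.comp_id, Category.id_comp, Scheme.Hom.app_eq_appLE]
  · simp only [Iso.refl_hom, Category.comp_id]
    show _ = (Scheme.ΓSpecIso B).hom ≫ ringMap η _
    rw [ringMap, Iso.hom_inv_id_assoc]

theorem isBaseChange_app (hsq : IsPullback f η ξ (Spec.map g)) {V : W.Opens} (hV : IsAffineOpen V) :
    letI := g.hom.toAlgebra
    letI := (ringMap ξ V).hom.toAlgebra
    letI := (ringMap η (f ⁻¹ᵁ V)).hom.toAlgebra
    letI : Algebra A Γ(Y, f ⁻¹ᵁ V) := ((ringMap η (f ⁻¹ᵁ V)).hom.comp g.hom).toAlgebra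
    ∃ (_ : IsScalarTower A B Γ(Y, f ⁻¹ᵁ V)) (e : B ⊗[A] Γ(W, V) ≃ₗ[B] Γ(Y, f ⁻¹ᵁ V)),
      ∀ b c, e (b ⊗ₜ c) = ringMap η (f ⁻¹ᵁ V) b * f.app V c := by
  letI := g.hom.toAlgebra
  letI := (ringMap ξ V).hom.toAlgebra
  letI := (ringMap η (f ⁻¹ᵁ V)).hom.toAlgebra
  letI : Algebra A Γ(Y, f ⁻¹ᵁ V) := ((ringMap η (f ⁻¹ᵁ V)).hom.comp g.hom).toAlgebra
  letI : Algebra Γ(W, V) Γ(Y, f ⁻¹ᵁ V) := (f.app V).hom.toAlgebra
  haveI hT : IsScalarTower A B Γ(Y, f ⁻¹ᵁ V) := .of_algebraMap_eq' rfl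
  haveI : IsScalarTower A Γ(W, V) Γ(Y, f ⁻¹ᵁ V) :=
    .of_algebraMap_eq fun a => (app_ringMap g hsq.toCommSq V a).symm
  have hpo : IsPushout (CommRingCat.ofHom (algebraMap A Γ(W, V))) (CommRingCat.ofHom (algebraMap A B))
      (CommRingCat.ofHom (algebraMap Γ(W, V) Γ(Y, f ⁻¹ᵁ V)))
      (CommRingCat.ofHom (algebraMap B Γ(Y, f ⁻¹ᵁ V))) := isPushout_app g hsq hV
  haveI : Algebra.IsPushout A Γ(W, V) B Γ(Y, f ⁻¹ᵁ V) := CommRingCat.isPushout_iff_isPushout.mp hpo
  haveI hp : Algebra.IsPushout A B Γ(W, V) Γ(Y, f ⁻¹ᵁ V) := Algebra.IsPushout.symm inferInstance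
  refine ⟨hT, hp.out.equiv, fun b c => ?_⟩
  rw [IsBaseChange.equiv_tmul]
  rfl

/-- A function killed by base change comes from the kernel. -/
theorem mem_map_ker_of_app_eq_zero [Flat ξ] (hsq : IsPullback f η ξ (Spec.map g)) {V : W.Opens}
    (hV : IsAffineOpen V) (x : Γ(W, V)) (hx : f.app V x = 0) :
    x ∈ (RingHom.ker g.hom).map (ringMap ξ V).hom := by
  letI := g.hom.toAlgebra
  letI := (ringMap ξ V).hom.toAlgebra
  letI := (ringMap η (f ⁻¹ᵁ V)).hom.toAlgebra
  letI : Algebra A Γ(Y, f ⁻¹ᵁ V) := ((ringMap η (f ⁻¹ᵁ V)).hom.comp g.hom).toAlgebra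
  haveI : Module.Flat A Γ(W, V) := flat_ringMap ξ hV
  obtain ⟨_, e, he⟩ := isBaseChange_app g hsq hV
  have h0 : (1 : B) ⊗ₜ[A] x = 0 := e.injective (by rw [he, hx, mul_zero, map_zero])
  let I := RingHom.ker (algebraMap A B)
  let j : (A ⧸ I) →ₗ[A] B := (Ideal.Quotient.liftₐ I (Algebra.ofId A B) fun a ha => ha).toLinearMap
  have hj : Function.Injective j := RingHom.kerLift_injective (algebraMap A B)
  have hj' := Module.Flat.rTensor_preserves_injective_linearMap (M := Γ(W, V)) j hj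
  have h1 : (1 : A ⧸ I) ⊗ₜ[A] x = 0 := hj' (by
    rw [LinearMap.rTensor_tmul, map_zero, show j 1 = 1 from map_one (Ideal.Quotient.liftₐ I (Algebra.ofId A B) fun a ha => ha)]
    exact h0)
  have h2 := congrArg (TensorProduct.quotTensorEquivQuotSMul Γ(W, V) I) h1
  rw [map_zero, ← map_one (Ideal.Quotient.mk I), TensorProduct.quotTensorEquivQuotSMul_mk_tmul, one_smul,
    Submodule.Quotient.mk_eq_zero, Ideal.smul_top_eq_map] at h2
  exact h2

/-- Base change along an injective map is injective on functions. -/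
theorem app_injective [Flat ξ] (hsq : IsPullback f η ξ (Spec.map g)) {V : W.Opens} (hV : IsAffineOpen V)
    (hg : Function.Injective g.hom) : Function.Injective (f.app V).hom := by
  rw [injective_iff_map_eq_zero]
  intro x hx
  have h := mem_map_ker_of_app_eq_zero g hsq hV x hx
  rwa [(RingHom.injective_iff_ker_eq_bot g.hom).1 hg, Ideal.map_bot, Ideal.mem_bot] at h

/-- Functions lift along surjective base change. -/
theorem app_surjective (hsq : IsPullback f η ξ (Spec.map g)) {V : W.Opens} (hV : IsAffineOpen V)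
    (hg : Function.Surjective g.hom) : Function.Surjective (f.app V).hom :=
  RigidRel.surjective_of_isPushout (isPushout_app g hsq hV).flip hg

/-- The kernel of base change. -/
theorem app_eq_zero_iff [Flat ξ] (hsq : IsPullback f η ξ (Spec.map g)) {V : W.Opens} (hV : IsAffineOpen V)
    (x : Γ(W, V)) : f.app V x = 0 ↔ x ∈ (RingHom.ker g.hom).map (ringMap ξ V).hom := by
  refine ⟨mem_map_ker_of_app_eq_zero g hsq hV x, fun h => ?_⟩
  suffices hle : (RingHom.ker g.hom).map (ringMap ξ V).hom ≤ RingHom.ker (f.app V).hom from hle h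
  rw [Ideal.map_le_iff_le_comap]
  intro a ha
  show f.app V (ringMap ξ V a) = 0
  rw [app_ringMap g hsq.toCommSq, show g a = 0 from ha, map_zero]

end Groth.Agent.CubeField
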