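import Groth.Agent.Lib.CubeField.Coc
import Mathlib.AlgebraicGeometry.AffineScheme

/-!
# Additive cocycles of functions on an affine open are coboundaries
-/

universe u

open CategoryTheory Limits AlgebraicGeometry TopologicalSpace Opposite

set_option linter.style.haveILetI false
set_option backward.isDefEq.respectTransparency false

namespace Groth.Agent.CubeField

variable {X : Scheme.{u}} {ι : Type}

/-- The additive cocycle condition. -/
def IsCocycle (V : ι → X.Opens) (f : ∀ i j, Γ(X, V i ⊓ V j)) : Prop :=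
  ∀ (i j k : ι) (U : X.Opens) (hi : U ≤ V i) (hj : U ≤ V j) (hk : U ≤ V k),
    rs (le_inf hi hj) (f i j) + rs (le_inf hj hk) (f j k) = rs (le_inf hi hk) (f i k)

/-- The cocycle is the boundary of a family of functions. -/
def IsCoboundary (V : ι → X.Opens) (f : ∀ i j, Γ(X, V i ⊓ V j)) : Prop :=
  ∃ h : ∀ i, Γ(X, V i), ∀ i j, rs inf_le_left (h i) - rs inf_le_right (h j) = f i j

theorem IsCocycle.res_self {V : ι → X.Opens} {f : ∀ i j, Γ(X, V i ⊓ V j)} (h : IsCocycle V f) (i : ι)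
    (U : X.Opens) (hi : U ≤ V i) : rs (le_inf hi hi) (f i i) = 0 :=
  add_left_cancel ((h i i i U hi hi hi).trans (add_zero _).symm)

theorem exists_pow_mul_extend {D : X.Opens} (hD : IsAffineOpen D) (r : Γ(X, D)) {U : X.Opens}
    (hU : U = X.basicOpen r) (z : Γ(X, U)) :
    ∃ N : ℕ, ∃ g : Γ(X, D), rs (hU.trans_le (X.basicOpen_le r)) g = (rs (hU.trans_le (X.basicOpen_le r)) r) ^ N * z := by
  subst hU
  letI := (X.presheaf.map (homOfLE (X.basicOpen_le r)).op).hom.toAlgebra
  haveI : IsLocalization.Away r Γ(X, X.basicOpen r) := hD.isLocalization_basicOpen r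
  obtain ⟨N, g, hg⟩ := IsLocalization.Away.surj r z
  exact ⟨N, g, by rw [mul_comm]; exact hg.symm⟩

theorem exists_pow_mul_eq_zero {D : X.Opens} (hD : IsAffineOpen D) (r : Γ(X, D)) {U : X.Opens}
    (hU : U = X.basicOpen r) (z : Γ(X, D)) (hz : rs (hU.trans_le (X.basicOpen_le r)) z = 0) :
    ∃ M : ℕ, r ^ M * z = 0 := by
  subst hU
  letI := (X.presheaf.map (homOfLE (X.basicOpen_le r)).op).hom.toAlgebra
  haveI : IsLocalization.Away r Γ(X, X.basicOpen r) := hD.isLocalization_basicOpen r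
  obtain ⟨⟨_, M, rfl⟩, hM⟩ := (IsLocalization.map_eq_zero_iff (Submonoid.powers r) Γ(X, X.basicOpen r) z).1 hz
  exact ⟨M, hM⟩

/-- Vanishing for a cover by basic opens. -/
theorem exists_boundary_basic {P : X.Opens} (hP : IsAffineOpen P) {κ : Type} [Finite κ] (r : κ → Γ(X, P))
    (hr : Ideal.span (Set.range r) = ⊤) (f : ∀ l m, Γ(X, X.basicOpen (r l) ⊓ X.basicOpen (r m)))
    (hf : IsCocycle (fun l => X.basicOpen (r l)) f) :
    IsCoboundary (fun l => X.basicOpen (r l)) f := by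
  haveI := Fintype.ofFinite κ
  classical
  let D : κ → X.Opens := fun l => X.basicOpen (r l)
  have hD : ∀ l, IsAffineOpen (D l) := fun l => hP.basicOpen _
  have hle : ∀ l, D l ≤ P := fun l => X.basicOpen_le _
  have hbo : ∀ {U : X.Opens} (h : U ≤ P) (m : κ), U ⊓ D m = X.basicOpen (rs h (r m)) := fun h m =>
    (X.basicOpen_res (r m) (homOfLE h).op).symm
  have hI : ∀ l k, IsAffineOpen (D l ⊓ D k) := fun l k => by
    rw [hbo (hle l) k]; exact (hD l).basicOpen _
  choose N g hg using fun l m => exists_pow_mul_extend (hD l) (rs (hle l) (r m)) (hbo (hle l) m) (f l m)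
  let N₀ := Finset.univ.sup fun p : κ × κ => N p.1 p.2
  have hN : ∀ l m, N l m ≤ N₀ := fun l m => Finset.le_sup (f := fun p : κ × κ => N p.1 p.2) (Finset.mem_univ (l, m))
  let g₀ : ∀ l _, Γ(X, D l) := fun l m => rs (hle l) (r m) ^ (N₀ - N l m) * g l m
  have hg₀ : ∀ l m (U : X.Opens) (hl : U ≤ D l) (hm : U ≤ D m),
      rs hl (g₀ l m) = rs (hl.trans (hle l)) (r m) ^ N₀ * rs (le_inf hl hm) (f l m) := fun l m U hl hm => by
    have h := congrArg (rs (le_inf hl hm)) (hg l m)
    rw [map_mul, map_pow, rs_rs, rs_rs, rs_rs] at h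
    rw [map_mul, map_pow, rs_rs, h, ← mul_assoc, ← pow_add, Nat.sub_add_cancel (hN l m)]
  let E : ∀ l k _, Γ(X, D l ⊓ D k) := fun l k m => rs inf_le_left (g₀ l m) - rs inf_le_right (g₀ k m) -
    rs (inf_le_left.trans (hle l)) (r m) ^ N₀ * f l k
  have hE : ∀ l k m, ∃ M : ℕ, rs (inf_le_left.trans (hle l)) (r m) ^ M * E l k m = 0 := fun l k m => by
    refine exists_pow_mul_eq_zero (hI l k) _ (hbo (inf_le_left.trans (hle l)) m) _ ?_
    simp only [E, map_sub, map_mul, map_pow, rs_rs]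
    rw [hg₀ l m _ _ inf_le_right, hg₀ k m _ _ inf_le_right, ← mul_sub, sub_eq_zero]
    congr 1
    · rw [rs_rs]
    rw [sub_eq_iff_eq_add]
    exact (hf l k m (D l ⊓ D k ⊓ D m) (inf_le_left.trans inf_le_left) (inf_le_left.trans inf_le_right)
      inf_le_right).symm
  choose M hM using hE
  let M₀ := Finset.univ.sup fun p : κ × κ × κ => M p.1 p.2.1 p.2.2
  have hMle : ∀ l k m, M l k m ≤ M₀ := fun l k m =>
    Finset.le_sup (f := fun p : κ × κ × κ => M p.1 p.2.1 p.2.2) (Finset.mem_univ (l, k, m))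
  have htop : Ideal.span (Set.range fun m => r m ^ (M₀ + N₀)) = ⊤ := by
    rw [eq_top_iff, ← Ideal.span_pow_eq_top _ hr (M₀ + N₀), Ideal.span_le]
    rintro _ ⟨_, ⟨m, rfl⟩, rfl⟩
    exact Ideal.subset_span ⟨m, rfl⟩
  obtain ⟨a, ha⟩ := (Submodule.mem_span_range_iff_exists_fun _).1 (htop ▸ Submodule.mem_top (x := (1 : Γ(X, P))))
  simp only [smul_eq_mul] at ha
  refine ⟨fun l => ∑ m, rs (hle l) (a m) * (rs (hle l) (r m) ^ M₀ * g₀ l m), fun l k => ?_⟩
  show rs inf_le_left _ - rs inf_le_right _ = f l k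
  simp only [map_sum, map_mul, map_pow, rs_rs, ← Finset.sum_sub_distrib]
  have key : ∀ m, rs (inf_le_left.trans (hle l)) (r m) ^ M₀ * (rs inf_le_left (g₀ l m) - rs inf_le_right (g₀ k m)) =
      rs (inf_le_left.trans (hle l)) (r m) ^ (M₀ + N₀) * f l k := fun m => by
    have h : rs (inf_le_left.trans (hle l)) (r m) ^ M₀ * E l k m = 0 := by
      rw [← Nat.sub_add_cancel (hMle l k m), pow_add, mul_assoc, hM, mul_zero]
    simp only [E, mul_sub, sub_eq_zero] at h
    rw [mul_sub, h, ← mul_assoc, ← pow_add]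
  calc _ = ∑ m, rs (inf_le_left.trans (hle l)) (a m) * (rs (inf_le_left.trans (hle l)) (r m) ^ (M₀ + N₀) * f l k) := by
        refine Finset.sum_congr rfl fun m _ => ?_
        rw [← key m]
        have ea : ∀ z, rs (inf_le_right : D l ⊓ D k ≤ D k) (rs (hle k) z) = rs (inf_le_left.trans (hle l)) z :=
          fun z => rs_rs _ _ z
        have eb : ∀ z, rs (inf_le_left : D l ⊓ D k ≤ D l) (rs (hle l) z) = rs (inf_le_left.trans (hle l)) z :=
          fun z => rs_rs _ _ z
        erw [ea, ea, eb, eb]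
        ring
    _ = rs (inf_le_left.trans (hle l)) (∑ m, a m * r m ^ (M₀ + N₀)) * f l k := by
        rw [map_sum, Finset.sum_mul]
        exact Finset.sum_congr rfl fun m _ => by rw [map_mul, map_pow, mul_assoc]
    _ = f l k := by rw [ha, map_one, one_mul]

/-- An additive cocycle of functions on an affine open is a coboundary. -/
theorem exists_boundary_of_isAffineOpen (V : ι → X.Opens) (f : ∀ i j, Γ(X, V i ⊓ V j)) (hf : IsCocycle V f)
    {P : X.Opens} (hP : IsAffineOpen P) (hcov : P ≤ ⨆ i, V i) :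
    ∃ h : ∀ i, Γ(X, P ⊓ V i), ∀ (i j : ι) (U : X.Opens) (hi : U ≤ P ⊓ V i) (hj : U ≤ P ⊓ V j),
      rs hi (h i) - rs hj (h j) = rs (le_inf (hi.trans inf_le_right) (hj.trans inf_le_right)) (f i j) := by
  classical
  have hex : ∀ x : P, ∃ (i : ι) (r : Γ(X, P)), x.1 ∈ X.basicOpen r ∧ X.basicOpen r ≤ V i := fun x => by
    obtain ⟨i, hi⟩ := Opens.mem_iSup.1 (hcov x.2)
    obtain ⟨r, hr, hxr⟩ := hP.exists_basicOpen_le (V := V i) ⟨x.1, hi⟩ x.2
    exact ⟨i, r, hxr, hr⟩
  choose σ r hx hle using hex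
  have hspan : Ideal.span (Set.range r) = ⊤ := by
    rw [← hP.iSup_basicOpen_eq_self_iff]
    refine le_antisymm (iSup_le fun s => X.basicOpen_le _) fun x hx' => ?_
    exact Opens.mem_iSup.2 ⟨⟨r ⟨x, hx'⟩, ⟨_, rfl⟩⟩, hx ⟨x, hx'⟩⟩
  obtain ⟨t, ht⟩ := Ideal.span_eq_top_iff_finite _ |>.1 hspan
  choose pre hpre using fun s : t => ht.1 s.2
  let e : Fin t.card → t := t.equivFin.symm
  let r' : Fin t.card → Γ(X, P) := fun l => r (pre (e l))
  have hr' : Ideal.span (Set.range r') = ⊤ := by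
    rw [eq_top_iff, ← ht.2, Ideal.span_le]
    intro s hs
    exact Ideal.subset_span ⟨t.equivFin ⟨s, hs⟩, by simp [r', e, hpre]⟩
  let σ' : Fin t.card → ι := fun l => σ (pre (e l))
  have hle' : ∀ l, X.basicOpen (r' l) ≤ V (σ' l) := fun l => hle _
  let f' : ∀ l m, Γ(X, X.basicOpen (r' l) ⊓ X.basicOpen (r' m)) := fun l m =>
    rs (inf_le_inf (hle' l) (hle' m)) (f (σ' l) (σ' m))
  obtain ⟨h', hh'⟩ := exists_boundary_basic hP r' hr' f' fun l m n U hl hm hn => by
    simp only [f']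
    rw [rs_rs, rs_rs, rs_rs]
    exact hf _ _ _ U (hl.trans (hle' l)) (hm.trans (hle' m)) (hn.trans (hle' n))
  let D : ι → Fin t.card → X.Opens := fun i l => P ⊓ V i ⊓ X.basicOpen (r' l)
  have hglue : ∀ i, ∃ h : Γ(X, P ⊓ V i), ∀ l, rs (inf_le_left : D i l ≤ P ⊓ V i) h =
      rs (le_inf (inf_le_left.trans inf_le_right) (inf_le_right.trans (hle' l))) (f i (σ' l)) +
        rs inf_le_right (h' l) := fun i => by
    obtain ⟨h, hh, -⟩ := X.sheaf.existsUnique_gluing' (D i) (P ⊓ V i) (fun l => homOfLE inf_le_left)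
      (fun x hxm => by
        have h1 : x ∈ ⨆ l, X.basicOpen (r' l) := by
          have h2 := (hP.iSup_basicOpen_eq_self_iff.2 hr').ge hxm.1
          obtain ⟨⟨_, l, rfl⟩, hl⟩ := Opens.mem_iSup.1 h2
          exact Opens.mem_iSup.2 ⟨l, hl⟩
        obtain ⟨l, hl⟩ := Opens.mem_iSup.1 h1
        exact Opens.mem_iSup.2 ⟨l, hxm, hl⟩)
      (fun l => rs (le_inf (inf_le_left.trans inf_le_right) (inf_le_right.trans (hle' l))) (f i (σ' l)) +
        rs inf_le_right (h' l)) fun l m => by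
        show rs inf_le_left (_ + _) = rs inf_le_right (_ + _)
        rw [map_add, map_add, rs_rs, rs_rs, rs_rs, rs_rs]
        have h1 := congrArg (rs (le_inf (inf_le_left.trans inf_le_right) (inf_le_right.trans inf_le_right) :
          D i l ⊓ D i m ≤ X.basicOpen (r' l) ⊓ X.basicOpen (r' m))) (hh' l m)
        simp only [f', map_sub, rs_rs] at h1
        have h2 := hf i (σ' l) (σ' m) (D i l ⊓ D i m) (inf_le_left.trans (inf_le_left.trans inf_le_right))
          ((inf_le_left.trans inf_le_right).trans (hle' l)) ((inf_le_right.trans inf_le_right).trans (hle' m))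
        rw [← h2, add_assoc]
        exact congrArg _ (sub_eq_iff_eq_add.1 h1)
    exact ⟨h, hh⟩
  choose h hh using hglue
  refine ⟨h, fun i j U hi hj => ?_⟩
  refine X.sheaf.eq_of_locally_eq' (fun l => U ⊓ X.basicOpen (r' l)) U (fun l => homOfLE inf_le_left) (fun x hxU => ?_) _ _ fun l => ?_
  · have h2 := (hP.iSup_basicOpen_eq_self_iff.2 hr').ge (hi hxU).1
    obtain ⟨⟨_, l, rfl⟩, hl⟩ := Opens.mem_iSup.1 h2
    exact Opens.mem_iSup.2 ⟨l, hxU, hl⟩
  · show rs inf_le_left (rs hi (h i) - rs hj (h j)) = rs inf_le_left _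
    have h1 := congrArg (rs (le_inf (inf_le_left.trans hi) inf_le_right : U ⊓ X.basicOpen (r' l) ≤ D i l)) (hh i l)
    have h2 := congrArg (rs (le_inf (inf_le_left.trans hj) inf_le_right : U ⊓ X.basicOpen (r' l) ≤ D j l)) (hh j l)
    simp only [map_add, rs_rs] at h1 h2
    simp only [map_sub, rs_rs]
    rw [h1, h2, add_sub_add_right_eq_sub, sub_eq_iff_eq_add]
    exact (hf i j (σ' l) _ (inf_le_left.trans (hi.trans inf_le_right)) (inf_le_left.trans (hj.trans inf_le_right))
      (inf_le_right.trans (hle' l))).symm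

end Groth.Agent.CubeField
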