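import Groth.Agent.Lib.CubeField.Cube

/-!
# The theorem of the cube on `X × (Y × Z)`
-/

universe u

open CategoryTheory Limits MonoidalCategory CartesianMonoidalCategory AlgebraicGeometry

set_option linter.style.haveILetI false
set_option backward.isDefEq.respectTransparency false

namespace Groth.Agent.CubeField

/-- The theorem of the cube, given finiteness of first cohomology. -/
theorem isTriv_cube (hfin : FinH1.{u}) {k : Type u} [Field k] (X Y Z : Over (Spec (CommRingCat.of k)))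
    [IsProper X.hom] [GeometricallyIntegral X.hom]
    [IsProper Y.hom] [GeometricallyReduced Y.hom] [GeometricallyConnected Y.hom]
    [LocallyOfFiniteType Z.hom] [QuasiCompact Z.hom] [GeometricallyIntegral Z.hom]
    (x₀ : 𝟙_ (Over (Spec (CommRingCat.of k))) ⟶ X) (y₀ : 𝟙_ (Over (Spec (CommRingCat.of k))) ⟶ Y)
    (z₀ : 𝟙_ (Over (Spec (CommRingCat.of k))) ⟶ Z)
    (L : (X ⊗ Y ⊗ Z).left.Modules) (hL : PicF.IsInvertible L)
    (hx : IsTriv ((Scheme.Modules.pullback (lift (toUnit (Y ⊗ Z) ≫ x₀) (𝟙 (Y ⊗ Z))).left).obj L))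
    (hy : IsTriv ((Scheme.Modules.pullback
      (lift (fst X Z) (lift (toUnit (X ⊗ Z) ≫ y₀) (snd X Z))).left).obj L))
    (hz : IsTriv ((Scheme.Modules.pullback
      (lift (fst X Y) (lift (snd X Y) (toUnit (X ⊗ Y) ≫ z₀))).left).obj L)) :
    IsTriv L := by
  let a := (α_ X Y Z).hom
  have h : IsTriv ((Scheme.Modules.pullback a.left).obj L) := by
    refine isTriv_of_slices x₀ y₀ _ z₀ hfin (PicLoc.isInvertible_pullback _ hL) ?_ ?_ ?_
    · rw [isTriv_comp_iff, ← Over.comp_left]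
      refine isTriv_of_eq (congrArg (fun f : X ⊗ Z ⟶ X ⊗ Y ⊗ Z => f.left) ?_) hy
      ext : 1 <;> try (ext : 1)
      · simp [a, iX]
      · simp [a, iX]
      · simp [a, iX]
    · rw [isTriv_comp_iff, ← Over.comp_left]
      refine isTriv_of_eq (congrArg (fun f : Y ⊗ Z ⟶ X ⊗ Y ⊗ Z => f.left) ?_) hx
      ext : 1 <;> try (ext : 1)
      · simp [a, iY]
      · simp [a, iY]
      · simp [a, iY]
    · rw [isTriv_comp_iff, ← Over.comp_left]
      refine isTriv_of_eq (congrArg (fun f : X ⊗ Y ⟶ X ⊗ Y ⊗ Z => f.left) ?_) hz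
      ext : 1 <;> try (ext : 1)
      all_goals simp [a]
  have h2 := h.pullback (α_ X Y Z).inv.left
  rw [isTriv_comp_iff, ← Over.comp_left, Iso.inv_hom_id, Over.id_left] at h2
  obtain ⟨e⟩ := h2
  exact ⟨((Scheme.Modules.pullbackId _).app L).symm ≪≫ e⟩

end Groth.Agent.CubeField
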