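import Groth.Agent.Lib.CubeField.AmpleAV
import Groth.Agent.Lib.CubeField.MulSurj
import Mathlib.Topology.JacobsonSpace

/-!
# Sets contracted by an invertible module on an abelian variety

If a power of an invertible module with a section is trivial on a proper integral scheme mapping to an
abelian variety, the non-vanishing locus of the section is invariant under the differences of its points.
-/

universe u

open CategoryTheory Limits MonoidalCategory CartesianMonoidalCategory AlgebraicGeometry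
  TopologicalSpace

set_option linter.style.haveILetI false
set_option backward.isDefEq.respectTransparency false

open scoped MonObj GrpObj

namespace Groth.Agent.CubeField

noncomputable local instance instLawC (Y : Scheme.{u}) : PicGrp.Law Y := M2.law Y

/-- Open subsets of a Jacobson space with the same closed points are equal. -/
theorem opens_eq_of_closedPoints {X : Type*} [TopologicalSpace X] [JacobsonSpace X] {U V : Opens X}
    (h : ∀ x : X, IsClosed ({x} : Set X) → (x ∈ U ↔ x ∈ V)) : U = V := by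
  have key : ∀ {U V : Opens X}, (∀ x : X, IsClosed ({x} : Set X) → x ∈ U → x ∈ V) → U ≤ V := by
    intro U V h z hz
    by_contra hzV
    obtain ⟨x, ⟨hxU, hxV⟩, hx⟩ := nonempty_inter_closedPoints (Z := (U : Set X) ∩ (V : Set X)ᶜ) ⟨z, hz, hzV⟩
      (U.isOpen.isLocallyClosed.inter V.isOpen.isClosed_compl.isLocallyClosed)
    exact hxV (h x hx hxU)
  exact le_antisymm (key fun x hx => (h x hx).1) (key fun x hx => (h x hx).2)

variable {k : Type u} [Field k]

/-- A rational point as a point. -/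
noncomputable abbrev rpt {X : Over (Spec (CommRingCat.of k))}
    (p : 𝟙_ (Over (Spec (CommRingCat.of k))) ⟶ X) : X.left :=
  p.left (IsLocalRing.closedPoint k)

theorem rpt_comp {X Y : Over (Spec (CommRingCat.of k))} (p : 𝟙_ (Over (Spec (CommRingCat.of k))) ⟶ X)
    (f : X ⟶ Y) : rpt (p ≫ f) = f.left (rpt p) := by
  rw [rpt, Over.comp_left, Scheme.Hom.comp_apply]

theorem exists_rpt [IsAlgClosed k] {X : Over (Spec (CommRingCat.of k))} [LocallyOfFiniteType X.hom]
    {x : X.left} (hx : IsClosed ({x} : Set X.left)) :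
    ∃ p : 𝟙_ (Over (Spec (CommRingCat.of k))) ⟶ X, rpt p = x :=
  ⟨Over.homMk (pointOfClosedPoint X.hom x hx) (by simp), pointOfClosedPoint_apply X.hom x hx _⟩

variable [IsAlgClosed k]

theorem rpt_injective {X : Over (Spec (CommRingCat.of k))} [LocallyOfFiniteType X.hom] :
    Function.Injective (rpt (X := X)) := fun p q h =>
  Over.OverMorphism.ext (ext_of_apply_closedPoint_eq X.hom (Over.w p) (Over.w q) h)

omit [IsAlgClosed k] in
/-- A section of a trivial module on an integral proper scheme vanishes nowhere or everywhere. -/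
theorem genLocus_eq_bot_or_top_of_isTriv {B : Scheme.{u}} (p : B ⟶ Spec (CommRingCat.of k)) [IsProper p]
    [IsIntegral B] {M : B.Modules} (hM : IsTriv M) (σ : Coh.structureModule B ⟶ M) :
    CohB1.genLocus M σ = ⊥ ∨ CohB1.genLocus M σ = ⊤ := by
  obtain ⟨e⟩ := hM
  rw [← Amp.genLocus_comp_iso e σ, genLocus_structure_eq_basicOpen]
  rcases eq_or_ne (show Γ(B, ⊤) from Amp.gval (σ ≫ e.hom)) 0 with h0 | h0
  · exact Or.inl (by rw [h0, Scheme.basicOpen_zero])
  · have hfield : IsField Γ(B, ⊤) := isField_of_universallyClosed (f := p)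
    obtain ⟨c, hc⟩ := hfield.mul_inv_cancel h0
    exact Or.inr (by rw [Scheme.basicOpen_of_isUnit _ (IsUnit.of_mul_eq_one c hc)])

variable {A : Over (Spec (CommRingCat.of k))} [GrpObj A]

omit [IsAlgClosed k] in
theorem comp_trans₁ {V : Over (Spec (CommRingCat.of k))} (f : V ⟶ A)
    (a : 𝟙_ (Over (Spec (CommRingCat.of k))) ⟶ A) : f ≫ trans₁ a = f * (toUnit V ≫ a) := by
  simp only [trans₁, MonObj.comp_mul, Category.comp_id, ← Category.assoc, CartesianMonoidalCategory.comp_toUnit]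

omit [IsAlgClosed k] in
theorem point_comp_trans₁ (p a : 𝟙_ (Over (Spec (CommRingCat.of k))) ⟶ A) : p ≫ trans₁ a = p * a := by
  rw [comp_trans₁, toUnit_unit, Category.id_comp]

omit [IsAlgClosed k] in
theorem trans₁_rpt (a p : 𝟙_ (Over (Spec (CommRingCat.of k))) ⟶ A) : (trans₁ a).left (rpt p) = rpt (p * a) := by
  rw [← rpt_comp, point_comp_trans₁]

variable [IsProper A.hom] [GeometricallyIntegral A.hom]

omit [GrpObj A] in
/-- Two surjective endomorphisms take some point into a nonempty open set simultaneously. -/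
theorem exists_point_two (φ ψ : A ⟶ A) [Surjective φ.left] [Surjective ψ.left] {U : A.left.Opens}
    (hne : (U : Set A.left).Nonempty) :
    ∃ a : 𝟙_ (Over (Spec (CommRingCat.of k))) ⟶ A, φ.left (rpt a) ∈ U ∧ ψ.left (rpt a) ∈ U := by
  haveI : IsIntegral A.left := GeometricallyIntegral.isIntegral_of_subsingleton A.hom
  haveI : JacobsonSpace A.left := LocallyOfFiniteType.jacobsonSpace A.hom
  obtain ⟨z, hz⟩ := hne
  obtain ⟨w₁, hw₁⟩ := φ.left.surjective z
  obtain ⟨w₂, hw₂⟩ := ψ.left.surjective z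
  obtain ⟨x, hx, hxc⟩ := nonempty_inter_closedPoints
    (Z := ((φ.left ⁻¹ᵁ U : A.left.Opens) : Set A.left) ∩ (ψ.left ⁻¹ᵁ U : A.left.Opens))
    (nonempty_preirreducible_inter (φ.left ⁻¹ᵁ U).isOpen (ψ.left ⁻¹ᵁ U).isOpen
      ⟨w₁, show φ.left w₁ ∈ U from hw₁ ▸ hz⟩ ⟨w₂, show ψ.left w₂ ∈ U from hw₂ ▸ hz⟩)
    ((φ.left ⁻¹ᵁ U).isOpen.inter (ψ.left ⁻¹ᵁ U).isOpen).isLocallyClosed
  obtain ⟨a, rfl⟩ := exists_rpt hxc
  exact ⟨a, hx.1, hx.2⟩

variable {N : A.left.Modules} {hN : PicF.IsInvertible N}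

omit [IsAlgClosed k] in
theorem P_three (hfin : FinH1.{u}) {a b c : 𝟙_ (Over (Spec (CommRingCat.of k))) ⟶ A} (h : a * b * c = 1) :
    P N hN (trans₁ a) * P N hN (trans₁ b) * P N hN (trans₁ c) = P N hN (𝟙 A) ^ 3 := by
  have key : ∀ p q : 𝟙_ (Over (Spec (CommRingCat.of k))) ⟶ A,
      P N hN (trans₁ (p * q)) * P N hN (𝟙 A) = P N hN (trans₁ p) * P N hN (trans₁ q) := fun p q => by
    have h1 := square (L := N) (hL := hN) hfin (𝟙 A) (toUnit A ≫ p) (toUnit A ≫ q)
    rwa [mul_assoc (𝟙 A), ← MonObj.comp_mul, P_const, P_const, P_const, mul_one, mul_one, mul_one] at h1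
  rw [← key a b, mul_right_comm, ← key (a * b) c, h, trans₁_one, pow_succ, sq]

/-- If a power of `N` is trivial on `B`, translates of the locus of a section meeting `B` contain it. -/
theorem preimage_eq_top_of_nonempty (hfin : FinH1.{u}) (s : Coh.structureModule A.left ⟶ N)
    (hne : (CohB1.genLocus N s : Set A.left).Nonempty) {B : Over (Spec (CommRingCat.of k))} [IsProper B.hom]
    [IsIntegral B.left] (j : B ⟶ A) {m : ℕ} (hm : 0 < m) (hj : P N hN j ^ m = 1)
    (a : 𝟙_ (Over (Spec (CommRingCat.of k))) ⟶ A)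
    (ha : (((j ≫ trans₁ a).left ⁻¹ᵁ CohB1.genLocus N s : B.left.Opens) : Set B.left).Nonempty) :
    (j ≫ trans₁ a).left ⁻¹ᵁ CohB1.genLocus N s = ⊤ := by
  set U := CohB1.genLocus N s with hUdef
  haveI := isCommMonObj_of_isProper_of_geometricallyIntegral A
  haveI : JacobsonSpace B.left := LocallyOfFiniteType.jacobsonSpace B.hom
  obtain ⟨z, -, hzc⟩ := nonempty_inter_closedPoints (Z := (Set.univ : Set B.left)) ⟨genericPoint B.left, trivial⟩
    isClosed_univ.isLocallyClosed
  obtain ⟨z₁, -⟩ := exists_rpt hzc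
  let c₀ := z₁ ≫ j
  let φ : A ⟶ A := (toUnit A ≫ c₀) * 𝟙 A
  let ψ : A ⟶ A := (toUnit A ≫ (c₀ * a⁻¹)) * (𝟙 A)⁻¹
  have hφψ : ∀ p : 𝟙_ (Over (Spec (CommRingCat.of k))) ⟶ A, Surjective ((toUnit A ≫ p) * 𝟙 A).left ∧
      Surjective ((toUnit A ≫ p) * (𝟙 A)⁻¹).left := fun p => by
    constructor
    · haveI : Surjective (((toUnit A ≫ p⁻¹) * 𝟙 A).left ≫ ((toUnit A ≫ p) * 𝟙 A).left) := by
        rw [← Over.comp_left, MonObj.comp_mul, Category.comp_id, ← Category.assoc,
          CartesianMonoidalCategory.comp_toUnit, GrpObj.comp_inv, ← mul_assoc, mul_inv_cancel, one_mul, Over.id_left]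
        infer_instance
      exact Surjective.of_comp ((toUnit A ≫ p⁻¹) * 𝟙 A).left _
    · haveI : Surjective (((toUnit A ≫ p) * (𝟙 A)⁻¹).left ≫ ((toUnit A ≫ p) * (𝟙 A)⁻¹).left) := by
        rw [← Over.comp_left, MonObj.comp_mul, GrpObj.comp_inv, Category.comp_id, ← Category.assoc,
          CartesianMonoidalCategory.comp_toUnit, mul_inv_rev, inv_inv, mul_comm (𝟙 A), mul_inv_cancel_left, Over.id_left]
        infer_instance
      exact Surjective.of_comp ((toUnit A ≫ p) * (𝟙 A)⁻¹).left _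
  haveI : Surjective φ.left := (hφψ c₀).1
  haveI : Surjective ψ.left := (hφψ (c₀ * a⁻¹)).2
  obtain ⟨b, hb1, hb2⟩ := exists_point_two φ ψ (U := U) hne
  let c := (a * b)⁻¹
  have hmem : ∀ d : 𝟙_ (Over (Spec (CommRingCat.of k))) ⟶ A, rpt (c₀ * d) ∈ U →
      rpt z₁ ∈ (j ≫ trans₁ d).left ⁻¹ᵁ U := fun d hd => by
    show (j ≫ trans₁ d).left (rpt z₁) ∈ U
    rwa [← rpt_comp, ← Category.assoc, point_comp_trans₁]
  have hbU : rpt z₁ ∈ (j ≫ trans₁ b).left ⁻¹ᵁ U := hmem b (by
    rwa [← rpt_comp, MonObj.comp_mul, Category.comp_id, ← Category.assoc, toUnit_unique (b ≫ toUnit A) (𝟙 _),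
      Category.id_comp] at hb1)
  have hcU : rpt z₁ ∈ (j ≫ trans₁ c).left ⁻¹ᵁ U := hmem c (by
    rw [← rpt_comp, MonObj.comp_mul, GrpObj.comp_inv, Category.comp_id, ← Category.assoc,
      toUnit_unique (b ≫ toUnit A) (𝟙 _), Category.id_comp, mul_assoc c₀ a⁻¹, ← mul_inv] at hb2
    exact hb2)
  obtain ⟨w, hwa, hwbc⟩ := nonempty_preirreducible_inter ((j ≫ trans₁ a).left ⁻¹ᵁ U).isOpen
    (((j ≫ trans₁ b).left ⁻¹ᵁ U) ⊓ ((j ≫ trans₁ c).left ⁻¹ᵁ U)).isOpen ha ⟨rpt z₁, hbU, hcU⟩
  obtain ⟨q, rfl⟩ := Nat.exists_eq_add_of_le hm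
  have hsec : ∀ d, Amp.HasSec ((Scheme.Modules.pullback (j ≫ trans₁ d).left).obj N) (0 + 1 + q)
      ((j ≫ trans₁ d).left ⁻¹ᵁ U) := fun d =>
    (((hasSec_one s).pullback (j ≫ trans₁ d).left hN).powPow (PicLoc.isInvertible_pullback _ hN) q).of_eq
      (by rw [zero_add, one_mul, add_comm])
  have hI : ∀ d, PicF.IsInvertible ((Scheme.Modules.pullback (j ≫ trans₁ d).left).obj N) := fun d =>
    PicLoc.isInvertible_pullback _ hN
  obtain ⟨σ, hσ⟩ := ((hsec a).tensor (hI a) (hI b) (hsec b)).tensor (M2.isInvertible_tensor (hI a) (hI b)) (hI c) (hsec c)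
  have hcl : (P N hN (j ≫ trans₁ a) * P N hN (j ≫ trans₁ b) * P N hN (j ≫ trans₁ c)) ^ (0 + 1 + q) = 1 := by
    have h3 := congrArg (PicGrp.pullHom j.left (M2.pullMul _))
      (P_three (N := N) (hN := hN) hfin (a := a) (b := b) (c := c) (mul_inv_cancel (a * b)))
    simp only [map_mul, map_pow, pullHom_P, Category.comp_id] at h3
    rw [h3, ← pow_mul, mul_comm, pow_mul, hj, one_pow]
  have hmul : ∀ (M M' : B.left.Modules) (hM : PicF.IsInvertible M) (hM' : PicF.IsInvertible M'),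
      PicGrp.cls M hM * PicGrp.cls M' hM' = PicGrp.cls (CohB1.tensorMod M M') (M2.isInvertible_tensor hM hM') :=
    fun M M' hM hM' => Subtype.ext (PicGrp.cls_mul_cls_val hM hM')
  simp only [P, hmul] at hcl
  replace hcl := congrArg Subtype.val hcl
  rw [PicGrp.cls_pow_val, PicGrp.one_val] at hcl
  have htriv : IsTriv (CohB1.tensorPow (CohB1.tensorMod (CohB1.tensorMod
      ((Scheme.Modules.pullback (j ≫ trans₁ a).left).obj N) ((Scheme.Modules.pullback (j ≫ trans₁ b).left).obj N))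
      ((Scheme.Modules.pullback (j ≫ trans₁ c).left).obj N)) (0 + 1 + q)) :=
    (PicGrp.cl_eq_cl_iff _ _).1 hcl
  rcases genLocus_eq_bot_or_top_of_isTriv B.hom htriv σ with h | h
  · exfalso
    have h2 := hσ ▸ h
    exact (h2.le ⟨⟨hwa, hwbc.1⟩, hwbc.2⟩ : w ∈ (⊥ : B.left.Opens))
  · rw [h] at hσ
    exact top_le_iff.1 (hσ.le.trans (inf_le_left.trans inf_le_left))

/-- The locus is invariant under differences of points of `B`. -/
theorem preimage_trans₁_eq (hfin : FinH1.{u}) (s : Coh.structureModule A.left ⟶ N)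
    (hne : (CohB1.genLocus N s : Set A.left).Nonempty) {B : Over (Spec (CommRingCat.of k))} [IsProper B.hom]
    [IsIntegral B.left] (j : B ⟶ A) {m : ℕ} (hm : 0 < m) (hj : P N hN j ^ m = 1)
    (x y : 𝟙_ (Over (Spec (CommRingCat.of k))) ⟶ B) :
    (trans₁ ((y ≫ j) * (x ≫ j)⁻¹)).left ⁻¹ᵁ CohB1.genLocus N s = CohB1.genLocus N s := by
  haveI := isCommMonObj_of_isProper_of_geometricallyIntegral A
  haveI : JacobsonSpace A.left := LocallyOfFiniteType.jacobsonSpace A.hom
  set U := CohB1.genLocus N s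
  refine opens_eq_of_closedPoints fun z hz => ?_
  obtain ⟨z₁, rfl⟩ := exists_rpt hz
  let a := z₁ * (x ≫ j)⁻¹
  have hx : (j ≫ trans₁ a).left (rpt x) = rpt z₁ := by
    rw [← rpt_comp, ← Category.assoc, point_comp_trans₁]
    simp only [a]
    rw [mul_comm z₁, mul_inv_cancel_left]
  have hy : (j ≫ trans₁ a).left (rpt y) = (trans₁ ((y ≫ j) * (x ≫ j)⁻¹)).left (rpt z₁) := by
    rw [← rpt_comp, ← rpt_comp, ← Category.assoc, point_comp_trans₁, point_comp_trans₁]
    simp only [a]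
    rw [mul_left_comm]
  show (trans₁ ((y ≫ j) * (x ≫ j)⁻¹)).left (rpt z₁) ∈ U ↔ rpt z₁ ∈ U
  rw [← hy, ← hx]
  exact ⟨fun h => ((preimage_eq_top_of_nonempty hfin s hne j hm hj a ⟨rpt y, h⟩).ge trivial :
      rpt x ∈ (j ≫ trans₁ a).left ⁻¹ᵁ U),
    fun h => ((preimage_eq_top_of_nonempty hfin s hne j hm hj a ⟨rpt x, h⟩).ge trivial :
      rpt y ∈ (j ≫ trans₁ a).left ⁻¹ᵁ U)⟩

/-- Differences of points of `B` fix each component of the complement of the locus. -/
theorem image_trans₁_eq (hfin : FinH1.{u}) (s : Coh.structureModule A.left ⟶ N)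
    (hne : (CohB1.genLocus N s : Set A.left).Nonempty) {B : Over (Spec (CommRingCat.of k))} [IsProper B.hom]
    [IsIntegral B.left] (j : B ⟶ A) {m : ℕ} (hm : 0 < m) (hj : P N hN j ^ m = 1)
    {E : Set A.left} (hEc : IsClosed E) (hEirr : IsIrreducible E) (hE : E ⊆ (CohB1.genLocus N s : Set A.left)ᶜ)
    (hmax : ∀ T : Set A.left, IsClosed T → IsIrreducible T → T ⊆ (CohB1.genLocus N s : Set A.left)ᶜ → E ⊆ T → T = E)
    (x y : 𝟙_ (Over (Spec (CommRingCat.of k))) ⟶ B) :
    (trans₁ ((y ≫ j) * (x ≫ j)⁻¹)).left '' E = E := by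
  haveI := isCommMonObj_of_isProper_of_geometricallyIntegral A
  haveI : JacobsonSpace A.left := LocallyOfFiniteType.jacobsonSpace A.hom
  haveI : JacobsonSpace B.left := LocallyOfFiniteType.jacobsonSpace B.hom
  haveI : IsLocallyNoetherian A.left := LocallyOfFiniteType.isLocallyNoetherian A.hom
  haveI : CompactSpace A.left := QuasiCompact.compactSpace_of_compactSpace A.hom
  haveI : AlgebraicGeometry.IsNoetherian A.left := {}
  set U := CohB1.genLocus N s
  obtain ⟨S, hSfin, hScl, hSirr, hSeq⟩ := NoetherianSpace.exists_finite_set_isClosed_irreducible (α := A.left)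
    U.isOpen.isClosed_compl
  have key : ∀ x y : 𝟙_ (Over (Spec (CommRingCat.of k))) ⟶ B,
      (trans₁ ((y ≫ j) * (x ≫ j)⁻¹)).left '' E ⊆ E := by
    intro x y
    let W : Set A.left → Set B.left := fun T =>
      ⋂ e ∈ {e : 𝟙_ (Over (Spec (CommRingCat.of k))) ⟶ A | rpt e ∈ E}, (j ≫ trans₁ (e * (x ≫ j)⁻¹)).left ⁻¹' T
    have hW : ∀ (T : Set A.left), IsClosed T → ∀ w : 𝟙_ (Over (Spec (CommRingCat.of k))) ⟶ B,
        (rpt w ∈ W T ↔ (trans₁ ((w ≫ j) * (x ≫ j)⁻¹)).left '' E ⊆ T) := fun T hT w => by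
      have e1 : ∀ e, (j ≫ trans₁ (e * (x ≫ j)⁻¹)).left (rpt w) = (trans₁ ((w ≫ j) * (x ≫ j)⁻¹)).left (rpt e) :=
        fun e => by
          rw [← rpt_comp, ← rpt_comp, ← Category.assoc, point_comp_trans₁, point_comp_trans₁, mul_left_comm]
      simp only [W, Set.mem_iInter, Set.mem_preimage, Set.mem_ofPred_eq, e1]
      constructor
      · intro h
        rw [Set.image_subset_iff, ← (JacobsonSpace.closure_inter_closedPoints_eq_closure hEc.isLocallyClosed).trans
          hEc.closure_eq]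
        refine closure_minimal (fun v ⟨hv, hvc⟩ => ?_) (hT.preimage (Scheme.Hom.continuous _))
        obtain ⟨e, rfl⟩ := exists_rpt hvc
        exact h e hv
      · exact fun h e he => h ⟨_, he, rfl⟩
    have hWcl : ∀ T ∈ S, IsClosed (W T) := fun T hT =>
      isClosed_biInter fun e _ => (hScl T hT).preimage (Scheme.Hom.continuous _)
    have hcov : (Set.univ : Set B.left) ⊆ ⋃ T ∈ S, W T := by
      rw [← (JacobsonSpace.closure_inter_closedPoints_eq_closure
        (isClosed_univ (X := B.left)).isLocallyClosed).trans isClosed_univ.closure_eq]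
      refine closure_minimal (fun v ⟨_, hvc⟩ => ?_) (hSfin.isClosed_biUnion hWcl)
      obtain ⟨w, rfl⟩ := exists_rpt hvc
      have hsub : (trans₁ ((w ≫ j) * (x ≫ j)⁻¹)).left '' E ⊆ ⋃₀ S := by
        rintro _ ⟨v', hv', rfl⟩
        rw [← hSeq]
        intro hU
        exact hE hv' ((preimage_trans₁_eq hfin s hne j hm hj x w).le hU)
      obtain ⟨T, hT, hTE⟩ := isIrreducible_iff_sUnion_isClosed.1
        (hEirr.image _ (Scheme.Hom.continuous _).continuousOn) hSfin.toFinset (fun T hT => hScl T (hSfin.mem_toFinset.1 hT))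
        (by rwa [hSfin.coe_toFinset])
      exact Set.mem_biUnion (hSfin.mem_toFinset.1 hT) ((hW T (hScl T (hSfin.mem_toFinset.1 hT)) w).2 hTE)
    obtain ⟨T, hT, hTW⟩ := isIrreducible_iff_sUnion_isClosed.1 (IrreducibleSpace.isIrreducible_univ B.left)
      (hSfin.image W).toFinset (fun T hT => by
        obtain ⟨T, hT', rfl⟩ := (hSfin.image W).mem_toFinset.1 hT
        exact hWcl T hT') (by rwa [(hSfin.image W).coe_toFinset, Set.sUnion_image])
    obtain ⟨T, hT', rfl⟩ := (hSfin.image W).mem_toFinset.1 hT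
    have hTE := (hW T (hScl T hT') x).1 (hTW trivial)
    rw [mul_inv_cancel, trans₁_one, Over.id_left] at hTE
    obtain rfl := hmax T (hScl T hT') (hSirr T hT') (hSeq ▸ Set.subset_sUnion_of_mem hT') (by
      intro v hv; exact hTE ⟨v, hv, rfl⟩)
    exact (hW T hEc y).1 (hTW trivial)
  refine (key x y).antisymm fun v hv => ?_
  refine ⟨(trans₁ ((x ≫ j) * (y ≫ j)⁻¹)).left v, key y x ⟨v, hv, rfl⟩, ?_⟩
  rw [← Scheme.Hom.comp_apply, ← Over.comp_left, trans₁_comp, mul_assoc, inv_mul_cancel_left, mul_inv_cancel,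
    trans₁_one]
  rfl

end Groth.Agent.CubeField
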