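import Groth.Agent.Lib.CubeField.Slice
import Groth.Agent.Lib.RigidRel.H0Geom

/-!
# Normalised trivialisations glue
-/

universe u

open CategoryTheory Limits AlgebraicGeometry TopologicalSpace Opposite

set_option linter.style.haveILetI false
set_option backward.isDefEq.respectTransparency false

namespace Groth.Agent.CubeField

variable {W Z : Scheme.{u}} {ι : Type}

/-- A nowhere vanishing section over the open `O`. -/
def Coc.TrivialOn (c : Coc W ι) (O : W.Opens) : Prop :=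
  ∃ w : ∀ i, Γ(W, c.V i ⊓ O), (∀ i, IsUnit (w i)) ∧
    ∀ (i j : ι) (U : W.Opens) (hi : U ≤ c.V i ⊓ O) (hj : U ≤ c.V j ⊓ O),
      rs hi (w i) = rs (le_inf (hi.trans inf_le_left) (hj.trans inf_le_left)) (c.g i j) * rs hj (w j)

theorem Coc.trivialOn_of_pull {Y : Scheme.{u}} (c : Coc W ι) (j : Y ⟶ W) [IsOpenImmersion j] {O : W.Opens}
    (hO : j.opensRange = O) (h : (c.pull j).Trivial) : c.TrivialOn O := by
  obtain ⟨v, hv, hvu⟩ := h
  change ∀ i, Γ(Y, j ⁻¹ᵁ c.V i) at v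
  have hle : ∀ U : W.Opens, U ≤ O → U ≤ j.opensRange := fun U h => h.trans hO.ge
  have hiso : ∀ U : W.Opens, U ≤ O → Function.Bijective (j.app U).hom := fun U h =>
    haveI := j.isIso_app U (hle U h)
    ConcreteCategory.bijective_of_isIso (j.app U)
  choose w hw using fun i => (hiso (c.V i ⊓ O) inf_le_right).2
    (rs (j.preimage_mono (inf_le_left : c.V i ⊓ O ≤ c.V i)) (v i))
  refine ⟨w, fun i => ?_, fun i i' U hi hi' => (hiso U (hi.trans inf_le_right)).1 ?_⟩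
  · haveI := j.isIso_app (c.V i ⊓ O) (hle _ inf_le_right)
    have h1 : IsUnit (j.app (c.V i ⊓ O) (w i)) := hw i ▸ (hvu i).map _
    exact (isUnit_map_iff (asIso (j.app (c.V i ⊓ O))).commRingCatIsoToRingEquiv _).1 h1
  · rw [map_mul, app_rs, app_rs, app_rs, hw, hw, rs_rs, rs_rs]
    exact hv.res i i' _ (j.preimage_mono (hi.trans inf_le_left)) (j.preimage_mono (hi'.trans inf_le_left))

set_option maxHeartbeats 1000000 in
/-- Trivialisations on the preimages of a cover, normalised along a section, glue. -/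
theorem trivial_of_trivialOn_cover (c : Coc W ι) (hcov : ⨆ i, c.V i = ⊤) (ξ : W ⟶ Z) (σ : Z ⟶ W)
    (hσ : σ ≫ ξ = 𝟙 Z) (hb : ∀ U : Z.Opens, Function.Surjective (ξ.app U).hom) (hσt : (c.pull σ).Trivial)
    {α : Type} (U : α → Z.Opens) (hU : ⨆ a, U a = ⊤) (h : ∀ a, c.TrivialOn (ξ ⁻¹ᵁ U a)) : c.Trivial := by
  obtain ⟨τ, hτ, hτu⟩ := hσt
  change ∀ i, Γ(Z, σ ⁻¹ᵁ c.V i) at τ
  have hσU : ∀ U : Z.Opens, σ ⁻¹ᵁ (ξ ⁻¹ᵁ U) = U := fun U => congrArg (fun φ : Z ⟶ Z => φ ⁻¹ᵁ U) hσ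
  have hσξ : ∀ (U T : Z.Opens) (hT : T ≤ σ ⁻¹ᵁ (ξ ⁻¹ᵁ U)) (g : Γ(Z, U)),
      rs hT (σ.app _ (ξ.app U g)) = rs (hT.trans (hσU U).le) g := fun U T hT g => by
    rw [rs_app_app_of_eq σ ξ hσ (h₁ := hT) (h₂ := show T ≤ (𝟙 Z : Z ⟶ Z) ⁻¹ᵁ U from hT.trans (hσU U).le)]
    rfl
  have hcovZ : ⨆ i, σ ⁻¹ᵁ c.V i = ⊤ := by rw [← Scheme.Hom.preimage_iSup, hcov]; rfl
  -- normalised sections
  have key : ∀ a, ∃ w : ∀ i, Γ(W, c.V i ⊓ ξ ⁻¹ᵁ U a), (∀ i, IsUnit (w i)) ∧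
      (∀ (i j : ι) (T : W.Opens) (hi : T ≤ c.V i ⊓ ξ ⁻¹ᵁ U a) (hj : T ≤ c.V j ⊓ ξ ⁻¹ᵁ U a),
        rs hi (w i) = rs (le_inf (hi.trans inf_le_left) (hj.trans inf_le_left)) (c.g i j) * rs hj (w j)) ∧
      ∀ (i : ι) (T : Z.Opens) (hT : T ≤ σ ⁻¹ᵁ (c.V i ⊓ ξ ⁻¹ᵁ U a)),
        rs hT (σ.app _ (w i)) = rs (hT.trans (σ.preimage_mono inf_le_left)) (τ i) := by
    intro a
    obtain ⟨w, hwu, hw⟩ := h a
    let P : ι → Z.Opens := fun i => σ ⁻¹ᵁ (c.V i ⊓ ξ ⁻¹ᵁ U a)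
    have hPV : ∀ i, P i ≤ σ ⁻¹ᵁ c.V i := fun i => σ.preimage_mono inf_le_left
    have hσw : ∀ i, IsUnit (σ.app _ (w i)) := fun i => (hwu i).map (σ.app _).hom
    let t : ∀ i, Γ(Z, P i) := fun i => rs (hPV i) (τ i) * (((hσw i).unit⁻¹ : (Γ(Z, P i))ˣ) : Γ(Z, P i))
    have ht : ∀ i, t i * σ.app _ (w i) = rs (hPV i) (τ i) := fun i => by
      show rs (hPV i) (τ i) * _ * _ = _
      rw [mul_assoc, (hσw i).val_inv_mul, mul_one]
    obtain ⟨g, hg⟩ := exists_glue P (U := U a) (fun x hx => by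
        obtain ⟨i, hi⟩ := Opens.mem_iSup.1 (hcovZ.ge (Opens.mem_top x))
        exact Opens.mem_iSup.2 ⟨i, hi, (hσU (U a)).ge hx⟩)
      (fun i => (σ.preimage_mono inf_le_right).trans (hσU (U a)).le) t fun i j => by
      have hu : IsUnit (rs (inf_le_right : P i ⊓ P j ≤ P j) (σ.app _ (w j))) := (hσw j).map _
      refine hu.mul_right_cancel ?_
      have e1 := congrArg (rs (inf_le_left : P i ⊓ P j ≤ P i)) (ht i)
      have e2 := congrArg (rs (inf_le_right : P i ⊓ P j ≤ P j)) (ht j)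
      rw [map_mul, rs_rs] at e1 e2
      have e3 := congrArg (σ.app _) (hw i j ((c.V i ⊓ ξ ⁻¹ᵁ U a) ⊓ (c.V j ⊓ ξ ⁻¹ᵁ U a)) inf_le_left inf_le_right)
      rw [map_mul, app_rs, app_rs, app_rs] at e3
      have e4 := congrArg (rs (le_refl (P i ⊓ P j) : P i ⊓ P j ≤ σ ⁻¹ᵁ ((c.V i ⊓ ξ ⁻¹ᵁ U a) ⊓ (c.V j ⊓ ξ ⁻¹ᵁ U a)))) e3
      rw [map_mul] at e4
      erw [rs_rs, rs_rs, rs_rs] at e4
      have e5 := hτ.res i j (P i ⊓ P j) (inf_le_left.trans (hPV i)) (inf_le_right.trans (hPV j))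
      have hgu : IsUnit (rs (le_inf (inf_le_left.trans (hPV i)) (inf_le_right.trans (hPV j)) :
          P i ⊓ P j ≤ σ ⁻¹ᵁ c.V i ⊓ σ ⁻¹ᵁ c.V j) ((c.pull σ).g i j)) := ((c.pull σ).isUnit_g i j).map _
      refine hgu.mul_left_cancel ?_
      change rs _ (σ.app _ (w i)) = rs _ ((c.pull σ).g i j) * _ at e4
      linear_combination e1 + e5 - (rs (inf_le_left : P i ⊓ P j ≤ P i) (t i)) * e4 -
        (rs (le_inf (inf_le_left.trans (hPV i)) (inf_le_right.trans (hPV j)) :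
          P i ⊓ P j ≤ σ ⁻¹ᵁ c.V i ⊓ σ ⁻¹ᵁ c.V j) ((c.pull σ).g i j)) * e2
    have hgu : IsUnit g := by
      refine RingedSpace.isUnit_of_isUnit_germ Z.toRingedSpace (U a) g fun x hx => ?_
      obtain ⟨i, hi⟩ := Opens.mem_iSup.1 (hcovZ.ge (Opens.mem_top x))
      have hxP : x ∈ P i := ⟨hi, (hσU (U a)).ge hx⟩
      have h1 : IsUnit (t i) := ((hτu i).map _).mul (Units.isUnit _)
      rw [← hg i] at h1
      have h2 := h1.map (Z.presheaf.germ (P i) x hxP).hom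
      rw [← TopCat.Presheaf.germ_res_apply Z.presheaf
        (homOfLE ((σ.preimage_mono inf_le_right).trans (hσU (U a)).le : P i ≤ U a)) x hxP g]
      exact h2
    refine ⟨fun i => rs (inf_le_right : c.V i ⊓ ξ ⁻¹ᵁ U a ≤ ξ ⁻¹ᵁ U a) (ξ.app (U a) g) * w i,
      fun i => ((hgu.map (ξ.app (U a)).hom).map _).mul (hwu i), fun i j T hi hj => ?_, fun i T hT => ?_⟩
    · rw [map_mul, map_mul, rs_rs, rs_rs]
      linear_combination (rs (hi.trans inf_le_right) (ξ.app (U a) g)) * hw i j T hi hj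
    · rw [map_mul, map_mul, app_rs, rs_rs, hσξ, ← rs_rs (hT.trans le_rfl : T ≤ P i) le_rfl, rs_self]
      have h1 := congrArg (rs hT) (ht i)
      rw [map_mul, ← hg i, rs_rs, rs_rs] at h1
      exact h1
  choose w hwu hw hwn using key
  -- agreement on overlaps
  have hagree : ∀ a b i, rs inf_le_left (w a i) =
      rs (inf_le_right : (c.V i ⊓ ξ ⁻¹ᵁ U a) ⊓ (c.V i ⊓ ξ ⁻¹ᵁ U b) ≤ _) (w b i) := by
    intro a b
    let O : W.Opens := ξ ⁻¹ᵁ (U a ⊓ U b)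
    let Q : ι → W.Opens := fun i => c.V i ⊓ O
    have ha : ∀ i, Q i ≤ c.V i ⊓ ξ ⁻¹ᵁ U a := fun i => inf_le_inf_left _ (ξ.preimage_mono inf_le_left)
    have hb' : ∀ i, Q i ≤ c.V i ⊓ ξ ⁻¹ᵁ U b := fun i => inf_le_inf_left _ (ξ.preimage_mono inf_le_right)
    let t : ∀ i, Γ(W, Q i) := fun i =>
      rs (ha i) (w a i) * rs (hb' i) (((hwu b i).unit⁻¹ : (Γ(W, c.V i ⊓ ξ ⁻¹ᵁ U b))ˣ) : Γ(W, c.V i ⊓ ξ ⁻¹ᵁ U b))
    have ht : ∀ i, t i * rs (hb' i) (w b i) = rs (ha i) (w a i) := fun i => by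
      show rs (ha i) (w a i) * _ * _ = _
      rw [mul_assoc, ← map_mul, (hwu b i).val_inv_mul, map_one, mul_one]
    obtain ⟨G, hG⟩ := exists_glue Q (U := O) (fun x hx => by
        obtain ⟨i, hi⟩ := Opens.mem_iSup.1 (hcov.ge (Opens.mem_top x))
        exact Opens.mem_iSup.2 ⟨i, hi, hx⟩) (fun i => inf_le_right) t fun i j => by
      refine (((hwu b j).map (rs (hb' j))).map (rs (inf_le_right : Q i ⊓ Q j ≤ Q j))).mul_right_cancel ?_
      have e1 := congrArg (rs (inf_le_left : Q i ⊓ Q j ≤ Q i)) (ht i)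
      have e2 := congrArg (rs (inf_le_right : Q i ⊓ Q j ≤ Q j)) (ht j)
      rw [map_mul, rs_rs, rs_rs] at e1 e2
      rw [rs_rs]
      have e3 := hw b i j (Q i ⊓ Q j) (inf_le_left.trans (hb' i)) (inf_le_right.trans (hb' j))
      have e4 := hw a i j (Q i ⊓ Q j) (inf_le_left.trans (ha i)) (inf_le_right.trans (ha j))
      have hgu : IsUnit (rs (le_inf (inf_le_left.trans inf_le_left) (inf_le_right.trans inf_le_left) :
          Q i ⊓ Q j ≤ c.V i ⊓ c.V j) (c.g i j)) := (c.isUnit_g i j).map _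
      refine hgu.mul_left_cancel ?_
      linear_combination e1 + e4 - (rs (inf_le_left : Q i ⊓ Q j ≤ Q i) (t i)) * e3 -
        (rs (le_inf (inf_le_left.trans inf_le_left) (inf_le_right.trans inf_le_left) :
          Q i ⊓ Q j ≤ c.V i ⊓ c.V j) (c.g i j)) * e2
    obtain ⟨r, rfl⟩ := hb _ G
    have hr : r = 1 := by
      refine TopCat.Sheaf.eq_of_locally_eq' Z.sheaf (fun i => σ ⁻¹ᵁ Q i) (U a ⊓ U b)
        (fun i => homOfLE ((σ.preimage_mono inf_le_right).trans (hσU _).le)) (fun x hx => by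
          obtain ⟨i, hi⟩ := Opens.mem_iSup.1 (hcovZ.ge (Opens.mem_top x))
          exact Opens.mem_iSup.2 ⟨i, hi, (hσU (U a ⊓ U b)).ge hx⟩) _ _ fun i => ?_
      show rs _ r = rs _ 1
      rw [map_one]
      have h1 := congrArg (σ.app (Q i)) (ht i)
      rw [← hG i, map_mul, app_rs, app_rs, app_rs] at h1
      rw [hσξ, hwn, hwn] at h1
      refine ((hτu i).map (rs (σ.preimage_mono inf_le_left : σ ⁻¹ᵁ Q i ≤ σ ⁻¹ᵁ c.V i))).mul_right_cancel ?_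
      rw [one_mul]
      exact h1
    intro i
    have h1 := congrArg (rs (le_inf (inf_le_left.trans inf_le_left) (le_inf (inf_le_left.trans inf_le_right)
      (inf_le_right.trans inf_le_right)) : (c.V i ⊓ ξ ⁻¹ᵁ U a) ⊓ (c.V i ⊓ ξ ⁻¹ᵁ U b) ≤ Q i)) (ht i)
    rw [← hG i, hr, map_one, map_one, one_mul, rs_rs, rs_rs] at h1
    exact h1.symm
  choose v hv using fun i => exists_glue (fun a => c.V i ⊓ ξ ⁻¹ᵁ U a) (U := c.V i) (fun x hx => by
      obtain ⟨a, ha⟩ := Opens.mem_iSup.1 (hU.ge (Opens.mem_top (ξ x)))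
      exact Opens.mem_iSup.2 ⟨a, hx, ha⟩) (fun a => inf_le_left) (fun a => w a i) (fun a b => hagree a b i)
  refine ⟨v, fun i j => ?_, fun i => ?_⟩
  · refine TopCat.Sheaf.eq_of_locally_eq' W.sheaf (fun a => c.V i ⊓ c.V j ⊓ ξ ⁻¹ᵁ U a) (c.V i ⊓ c.V j)
      (fun a => homOfLE inf_le_left) (fun x hx => by
        obtain ⟨a, ha⟩ := Opens.mem_iSup.1 (hU.ge (Opens.mem_top (ξ x)))
        exact Opens.mem_iSup.2 ⟨a, hx, ha⟩) _ _ fun a => ?_
    show rs inf_le_left _ = rs inf_le_left _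
    rw [map_mul, rs_rs, rs_rs,
      ← rs_rs (inf_le_left : c.V i ⊓ ξ ⁻¹ᵁ U a ≤ c.V i) (inf_le_inf_right _ inf_le_left) (v i), hv,
      ← rs_rs (inf_le_left : c.V j ⊓ ξ ⁻¹ᵁ U a ≤ c.V j) (inf_le_inf_right _ inf_le_right) (v j), hv]
    exact hw a i j _ _ _
  · refine RingedSpace.isUnit_of_isUnit_germ W.toRingedSpace (c.V i) (v i) fun x hx => ?_
    obtain ⟨a, ha⟩ := Opens.mem_iSup.1 (hU.ge (Opens.mem_top (ξ x)))
    have h2 := (hwu a i).map (W.presheaf.germ (c.V i ⊓ ξ ⁻¹ᵁ U a) x ⟨hx, ha⟩).hom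
    rw [← hv i a] at h2
    rw [← TopCat.Presheaf.germ_res_apply W.presheaf
      (homOfLE (inf_le_left : c.V i ⊓ ξ ⁻¹ᵁ U a ≤ c.V i)) x ⟨hx, ha⟩ (v i)]
    exact h2

end Groth.Agent.CubeField
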