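import Groth.Agent.Lib.CubeField.Product
import Groth.Agent.Lib.CubeField.Field
import Groth.Agent.Lib.CubeField.Glue
import Groth.Agent.Lib.KrullAkizuki.DVR
import Groth.Agent.Lib.Twist.Pullback
import Mathlib.AlgebraicGeometry.FunctionField
import Mathlib.AlgebraicGeometry.ResidueField

/-!
# The theorem of the cube over a field
-/

universe u

open CategoryTheory Limits MonoidalCategory CartesianMonoidalCategory AlgebraicGeometry TopologicalSpace Opposite

set_option linter.style.haveILetI false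
set_option backward.isDefEq.respectTransparency false

namespace Groth.Agent.CubeField

open RigidRel GITQuot

/-- Isomorphic to the structure sheaf. -/
def IsTriv {W : Scheme.{u}} (M : W.Modules) : Prop := Nonempty (M ≅ Coh.structureModule W)

theorem isTriv_of_eq {V W : Scheme.{u}} {f g : V ⟶ W} (e : f = g) {M : W.Modules}
    (h : IsTriv ((Scheme.Modules.pullback f).obj M)) : IsTriv ((Scheme.Modules.pullback g).obj M) := e ▸ h

theorem IsTriv.pullback {V W : Scheme.{u}} (f : V ⟶ W) {M : W.Modules} :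
    IsTriv M → IsTriv ((Scheme.Modules.pullback f).obj M) :=
  fun ⟨e⟩ => ⟨(Scheme.Modules.pullback f).mapIso e ≪≫ PicLoc.pullbackStructureIso f⟩

theorem isTriv_comp_iff {U V W : Scheme.{u}} (g : U ⟶ V) (f : V ⟶ W) (M : W.Modules) :
    IsTriv ((Scheme.Modules.pullback g).obj ((Scheme.Modules.pullback f).obj M)) ↔
      IsTriv ((Scheme.Modules.pullback (g ≫ f)).obj M) :=
  ⟨fun ⟨e⟩ => ⟨((Scheme.Modules.pullbackComp g f).app M).symm ≪≫ e⟩,
    fun ⟨e⟩ => ⟨(Scheme.Modules.pullbackComp g f).app M ≪≫ e⟩⟩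

variable {k : Type u} [Field k] {X Y Z : Over (Spec (CommRingCat.of k))}
  [IsProper X.hom] [GeometricallyIntegral X.hom]
  [IsProper Y.hom] [GeometricallyReduced Y.hom] [GeometricallyConnected Y.hom]
  (x₀ : 𝟙_ (Over (Spec (CommRingCat.of k))) ⟶ X) (y₀ : 𝟙_ (Over (Spec (CommRingCat.of k))) ⟶ Y)
  (L : ((X ⊗ Y) ⊗ Z).left.Modules)

/-- A morphism to `Z` as a morphism over the field. -/
noncomputable def pt {T : CommRingCat.{u}} (s : Spec T ⟶ Spec (CommRingCat.of k)) (φ : Spec T ⟶ Z.left)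
    (h : φ ≫ Z.hom = s) : Over.mk s ⟶ Z := Over.homMk φ h

/-- The module is trivial over the `T`-point `φ` of `Z`. -/
def At {T : CommRingCat.{u}} (φ : Spec T ⟶ Z.left) : Prop :=
  ∀ s h, IsTriv ((Scheme.Modules.pullback ((X ⊗ Y) ◁ pt s φ h).left).obj L)

omit [IsProper X.hom] [GeometricallyIntegral X.hom] [IsProper Y.hom] [GeometricallyReduced Y.hom]
  [GeometricallyConnected Y.hom] in
theorem at_of_triv {T : CommRingCat.{u}} (s : Spec T ⟶ Spec (CommRingCat.of k)) (φ : Spec T ⟶ Z.left)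
    (h : φ ≫ Z.hom = s) (ht : IsTriv ((Scheme.Modules.pullback ((X ⊗ Y) ◁ pt s φ h).left).obj L)) :
    At L φ := fun s' h' => by subst h; subst h'; exact ht

omit [IsProper X.hom] [GeometricallyIntegral X.hom] [IsProper Y.hom] [GeometricallyReduced Y.hom]
  [GeometricallyConnected Y.hom] in
theorem whisker_pt_comp {T T' : CommRingCat.{u}} (g : T ⟶ T') (s : Spec T ⟶ Spec (CommRingCat.of k))
    (φ : Spec T ⟶ Z.left) (h : φ ≫ Z.hom = s) :
    ((X ⊗ Y) ◁ (Over.homMk (Spec.map g) rfl : Over.mk (Spec.map g ≫ s) ⟶ Over.mk s)).left ≫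
      ((X ⊗ Y) ◁ pt s φ h).left =
      ((X ⊗ Y) ◁ pt (Spec.map g ≫ s) (Spec.map g ≫ φ) (by rw [Category.assoc, h])).left := by
  rw [← Over.comp_left, ← MonoidalCategory.whiskerLeft_comp]
  rfl

omit [IsProper X.hom] [GeometricallyIntegral X.hom] [IsProper Y.hom] [GeometricallyReduced Y.hom]
  [GeometricallyConnected Y.hom] in
theorem At.comp {T T' : CommRingCat.{u}} (g : T ⟶ T') {φ : Spec T ⟶ Z.left} (h : At L φ) :
    At L (Spec.map g ≫ φ) :=
  at_of_triv L _ _ (by rw [Category.assoc]) (isTriv_of_eq (whisker_pt_comp g _ φ rfl)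
    ((isTriv_comp_iff _ _ L).1 ((h _ rfl).pullback _)))

theorem exists_coc (hL : PicF.IsInvertible L) {T : CommRingCat.{u}} (s : Spec T ⟶ Spec (CommRingCat.of k))
    (φ : Spec T ⟶ Z.left) (h : φ ≫ Z.hom = s) :
    ∃ (n : ℕ) (c : Coc ((X ⊗ Y) ⊗ Over.mk s).left (Fin n)),
      (∀ i, IsAffineOpen (c.V i)) ∧ ⨆ i, c.V i = ⊤ ∧
      Nonempty (Triv ((Scheme.Modules.pullback ((X ⊗ Y) ◁ pt s φ h).left).obj L) c) := by
  obtain ⟨hp, -⟩ := proper_prod (X := X) (Y := Y) (Over.mk s)
  haveI : CompactSpace (Over.mk s).left := inferInstanceAs (CompactSpace (Spec T))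
  haveI : CompactSpace ((X ⊗ Y) ⊗ Over.mk s).left :=
    QuasiCompact.compactSpace_of_compactSpace (snd (X ⊗ Y) (Over.mk s)).left
  exact exists_triv _ (PicLoc.isInvertible_pullback _ hL)

omit [IsProper X.hom] [GeometricallyIntegral X.hom] [IsProper Y.hom] [GeometricallyReduced Y.hom]
  [GeometricallyConnected Y.hom] in
theorem isTriv_slice_iY (hY : IsTriv ((Scheme.Modules.pullback (iY X Y Z x₀).left).obj L))
    {S : Over (Spec (CommRingCat.of k))} (a : S ⟶ Z) :
    IsTriv ((Scheme.Modules.pullback (iY X Y S x₀).left).obj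
      ((Scheme.Modules.pullback ((X ⊗ Y) ◁ a).left).obj L)) := by
  rw [isTriv_comp_iff, ← Over.comp_left, ← whisker_exchange, Over.comp_left, ← isTriv_comp_iff]
  exact hY.pullback _

omit [IsProper X.hom] [GeometricallyIntegral X.hom] [IsProper Y.hom] [GeometricallyReduced Y.hom]
  [GeometricallyConnected Y.hom] in
theorem isTriv_slice_iX (hX : IsTriv ((Scheme.Modules.pullback (iX X Y Z y₀).left).obj L))
    {S : Over (Spec (CommRingCat.of k))} (a : S ⟶ Z) :
    IsTriv ((Scheme.Modules.pullback (iX X Y S y₀).left).obj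
      ((Scheme.Modules.pullback ((X ⊗ Y) ◁ a).left).obj L)) := by
  rw [isTriv_comp_iff, ← Over.comp_left, ← whisker_exchange, Over.comp_left, ← isTriv_comp_iff]
  exact hX.pullback _

include y₀ in
theorem At.descend (hL : PicF.IsInvertible L) {K K' : Type u} [Field K] [Field K']
    (g : CommRingCat.of K ⟶ CommRingCat.of K') {φ : Spec (CommRingCat.of K) ⟶ Z.left}
    (h : At L (Spec.map g ≫ φ)) : At L φ := by
  refine at_of_triv L _ φ rfl ?_
  let s := φ ≫ Z.hom
  obtain ⟨n, c, hV, hcov, ⟨T⟩⟩ := exists_coc L hL s φ rfl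
  obtain ⟨hp, hf⟩ := proper_prod (X := X) (Y := Y) (Over.mk s)
  haveI : IsSeparated (terminal.from (Over.mk s).left) :=
    inferInstanceAs (IsSeparated (terminal.from (Spec (CommRingCat.of K))))
  haveI : (((X ⊗ Y) ⊗ Over.mk s).left).IsSeparated :=
    ⟨by rw [← Limits.terminal.comp_from (snd (X ⊗ Y) (Over.mk s)).left]; infer_instance⟩
  let b : Over.mk (Spec.map g ≫ s) ⟶ Over.mk s := Over.homMk (Spec.map g) rfl
  refine (T.iso_iff hcov).2 (trivial_of_trivial_pull_field g (ξ := (snd (X ⊗ Y) (Over.mk s)).left)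
    (isPullback_whiskerLeft b (X ⊗ Y)) c hcov hV (fun i j => (hV i).inf (hV j))
    (surjective_ringMap_prod y₀ s) (surjective_ringMap_prod y₀ (Spec.map g ≫ s)) ?_)
  exact (T.pull_iso_iff hcov _).1 ((isTriv_comp_iff _ _ L).2
    (isTriv_of_eq (whisker_pt_comp g s φ rfl).symm (h _ _)))

include x₀ y₀ in
theorem At.special (hfin : FinH1.{u}) (hL : PicF.IsInvertible L)
    (hX : IsTriv ((Scheme.Modules.pullback (iX X Y Z y₀).left).obj L))
    (hY : IsTriv ((Scheme.Modules.pullback (iY X Y Z x₀).left).obj L))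
    {R : CommRingCat.{u}} [IsDomain R] [IsLocalRing R] [IsNoetherianRing R] (π : R) (hπ : π ≠ 0)
    (hm : IsLocalRing.maximalIdeal R = Ideal.span {π}) {φ : Spec R ⟶ Z.left}
    (h : At L (Spec.map (CommRingCat.ofHom (Ideal.Quotient.mk (Ideal.span {π}))) ≫ φ)) : At L φ := by
  refine at_of_triv L _ φ rfl ?_
  obtain ⟨n, c, hV, hcov, ⟨T⟩⟩ := exists_coc L hL (φ ≫ Z.hom) φ rfl
  refine (T.iso_iff hcov).2 (trivial_special x₀ y₀ hfin (φ ≫ Z.hom) π hπ hm c hcov hV _
    (PicLoc.isInvertible_pullback _ hL) T ?_ ?_ ?_)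
  · exact (T.pull_iso_iff hcov _).1 (isTriv_slice_iX y₀ L hX _)
  · exact (T.pull_iso_iff hcov _).1 (isTriv_slice_iY x₀ L hY _)
  · exact (T.pull_iso_iff hcov _).1 ((isTriv_comp_iff _ _ L).2
      (isTriv_of_eq (whisker_pt_comp _ _ φ rfl).symm (h _ _)))

include x₀ y₀ in
theorem At.generic (hL : PicF.IsInvertible L) (hY : IsTriv ((Scheme.Modules.pullback (iY X Y Z x₀).left).obj L))
    {R : CommRingCat.{u}} [IsDomain R] [IsLocalRing R] [IsNoetherianRing R] (π : R) (hπ : π ≠ 0)
    (hm : IsLocalRing.maximalIdeal R = Ideal.span {π}) {K : Type u} [Field K] (g : R ⟶ CommRingCat.of K)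
    (hg : Function.Injective g.hom) (hden : ∀ b : K, ∃ r s, s ∈ nonZeroDivisors R ∧ b * g s = g r)
    {φ : Spec R ⟶ Z.left} (h : At L (Spec.map g ≫ φ)) : At L φ := by
  refine at_of_triv L _ φ rfl ?_
  obtain ⟨n, c, hV, hcov, ⟨T⟩⟩ := exists_coc L hL (φ ≫ Z.hom) φ rfl
  exact (T.iso_iff hcov).2 (trivial_generic x₀ y₀ (φ ≫ Z.hom) π hπ hm g hg hden c hcov hV
    ((T.pull_iso_iff hcov _).1 (isTriv_slice_iY x₀ L hY _))
    ((T.pull_iso_iff hcov _).1 ((isTriv_comp_iff _ _ L).2
      (isTriv_of_eq (whisker_pt_comp _ _ φ rfl).symm (h _ _)))))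

include x₀ y₀ in
/-- Triviality moves between the two points of a discrete valuation ring. -/
theorem at_iff_of_dvr (hfin : FinH1.{u}) (hL : PicF.IsInvertible L)
    (hX : IsTriv ((Scheme.Modules.pullback (iX X Y Z y₀).left).obj L))
    (hY : IsTriv ((Scheme.Modules.pullback (iY X Y Z x₀).left).obj L))
    {R : CommRingCat.{u}} [IsDomain R] [IsLocalRing R] [IsNoetherianRing R] (π : R) (hπ : π ≠ 0)
    (hm : IsLocalRing.maximalIdeal R = Ideal.span {π}) {K : Type u} [Field K] (g : R ⟶ CommRingCat.of K)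
    (hg : Function.Injective g.hom) (hden : ∀ b : K, ∃ r s, s ∈ nonZeroDivisors R ∧ b * g s = g r)
    (ψ : Spec R ⟶ Z.left) {F : Type u} [Field F] (e : CommRingCat.of F ⟶ CommRingCat.of (R ⧸ Ideal.span {π}))
    (φ₀ : Spec (CommRingCat.of F) ⟶ Z.left) (η : Spec (CommRingCat.of K) ⟶ Z.left)
    (hq : Spec.map (CommRingCat.ofHom (Ideal.Quotient.mk (Ideal.span {π}))) ≫ ψ = Spec.map e ≫ φ₀)
    (hgψ : Spec.map g ≫ ψ = η) : At L φ₀ ↔ At L η := by
  haveI : (Ideal.span {π}).IsMaximal := hm ▸ IsLocalRing.maximalIdeal.isMaximal R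
  letI : Field (R ⧸ Ideal.span {π}) := Ideal.Quotient.field _
  constructor
  · intro h
    have h2 : At L (Spec.map (CommRingCat.ofHom (Ideal.Quotient.mk (Ideal.span {π}))) ≫ ψ) := by
      rw [hq]; exact At.comp L e h
    rw [← hgψ]
    exact At.comp L g (At.special x₀ y₀ L hfin hL hX hY π hπ hm h2)
  · intro h
    refine At.descend (K := F) (K' := R ⧸ Ideal.span {π}) y₀ L hL e ?_
    rw [← hq]
    exact At.comp L _ (At.generic x₀ y₀ L hL hY π hπ hm g hg hden (hgψ.symm ▸ h))

variable [LocallyOfFiniteType Z.hom] [QuasiCompact Z.hom] [GeometricallyIntegral Z.hom]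
  (z₀ : 𝟙_ (Over (Spec (CommRingCat.of k))) ⟶ Z)

set_option maxHeartbeats 1600000 in
/-- Triviality over a point and over the generic point agree. -/
theorem at_residue_iff_at_generic (hfin : FinH1.{u}) (hL : PicF.IsInvertible L)
    (hX : IsTriv ((Scheme.Modules.pullback (iX X Y Z y₀).left).obj L))
    (hY : IsTriv ((Scheme.Modules.pullback (iY X Y Z x₀).left).obj L)) [IsIntegral Z.left] (z : Z.left) :
    At L (Z.left.fromSpecResidueField z) ↔ At L (Z.left.fromSpecStalk (genericPoint Z.left)) := by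
  haveI : IsLocallyNoetherian Z.left := LocallyOfFiniteType.isLocallyNoetherian Z.hom
  let A := Z.left.presheaf.stalk z
  have hs : genericPoint Z.left ⤳ z := (genericPoint_spec Z.left).specializes trivial
  let ι : A ⟶ Z.left.functionField := Z.left.presheaf.stalkSpecializes hs
  have hι : Spec.map ι ≫ Z.left.fromSpecStalk z = Z.left.fromSpecStalk (genericPoint Z.left) :=
    Scheme.SpecMap_stalkSpecializes_fromSpecStalk hs
  by_cases hA : IsField A
  · letI : Field A := hA.toField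
    have hu : ∀ a : A, a ≠ 0 → IsUnit a := fun a ha =>
      let ⟨b, hb⟩ := hA.mul_inv_cancel ha
      IsUnit.of_mul_eq_one b hb
    have hres : IsIso (Z.left.residue z) := by
      refine (ConcreteCategory.isIso_iff_bijective _).2 ⟨?_, Ideal.Quotient.mk_surjective⟩
      exact (RingHom.injective_iff_ker_eq_bot _).2 ((Ideal.mk_ker).trans
        (IsLocalRing.isField_iff_maximalIdeal_eq.1 hA))
    have hιb : IsIso ι := by
      refine (ConcreteCategory.isIso_iff_bijective _).2 ⟨IsFractionRing.injective A Z.left.functionField, fun b => ?_⟩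
      obtain ⟨a, s, hs', rfl⟩ := IsFractionRing.div_surjective A b
      obtain ⟨u, rfl⟩ := hu s (nonZeroDivisors.ne_zero hs')
      exact ⟨a * ((u⁻¹ : Aˣ) : A), by
        show ι (a * _) = ι a / ι (u : A)
        rw [map_mul, eq_div_iff (IsUnit.ne_zero (u.isUnit.map ι.hom)), mul_assoc, ← map_mul, u.inv_mul, map_one,
          mul_one]⟩
    rw [← hι, Scheme.fromSpecResidueField]
    constructor
    · intro h
      have h1 := (h.comp L (inv (Z.left.residue z))).comp L ι
      rwa [← Category.assoc (Spec.map (inv (Z.left.residue z))), ← Spec.map_comp, IsIso.hom_inv_id, Spec.map_id,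
        Category.id_comp] at h1
    · intro h
      have h1 := (h.comp L (inv ι)).comp L (Z.left.residue z)
      rwa [← Category.assoc (Spec.map (inv ι)), ← Spec.map_comp, IsIso.hom_inv_id, Spec.map_id,
        Category.id_comp] at h1
  · obtain ⟨V, hVd, hV, hVm⟩ := KrullAkizuki.exists_dvr_dominating A hA Z.left.functionField Z.left.functionField
    obtain ⟨ϖ, hϖ⟩ := IsDiscreteValuationRing.exists_irreducible V
    let R : CommRingCat.{u} := CommRingCat.of V
    let φ : A ⟶ R := CommRingCat.ofHom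
      ((algebraMap A Z.left.functionField).codRestrict V.toSubring fun a => hV a)
    let g : R ⟶ Z.left.functionField := CommRingCat.ofHom V.subtype
    have hm : IsLocalRing.maximalIdeal R = Ideal.span {(ϖ : R)} := hϖ.maximalIdeal_eq
    have hφg : φ ≫ g = ι := rfl
    haveI : (Ideal.span {(ϖ : R)}).IsMaximal := hm ▸ IsLocalRing.maximalIdeal.isMaximal R
    letI : Field (R ⧸ Ideal.span {(ϖ : R)}) := Ideal.Quotient.field _
    let q : R ⟶ CommRingCat.of (R ⧸ Ideal.span {(ϖ : R)}) := CommRingCat.ofHom (Ideal.Quotient.mk _)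
    haveI hloc : IsLocalHom (φ ≫ q).hom := ⟨fun a ha => by
      by_contra hna
      have h1 : φ a ∈ IsLocalRing.maximalIdeal R :=
        (V.valuation_lt_one_iff (φ a)).2 (hVm a ((IsLocalRing.mem_maximalIdeal a).2 hna))
      rw [hm] at h1
      exact not_isUnit_zero ((Ideal.Quotient.eq_zero_iff_mem.2 h1) ▸ ha)⟩
    have hq : Spec.map q ≫ Spec.map φ ≫ Z.left.fromSpecStalk z =
        Spec.map (Z.left.descResidueField (φ ≫ q)) ≫ Z.left.fromSpecResidueField z := by
      rw [Scheme.descResidueField_fromSpecResidueField, ← Spec.map_comp_assoc]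
    have hgφ : Spec.map g ≫ Spec.map φ ≫ Z.left.fromSpecStalk z =
        Z.left.fromSpecStalk (genericPoint Z.left) := by
      rw [← Spec.map_comp_assoc, hφg, hι]
    haveI : IsDomain R := inferInstanceAs (IsDomain V)
    haveI : IsLocalRing R := inferInstanceAs (IsLocalRing V)
    haveI : IsNoetherianRing R := inferInstanceAs (IsNoetherianRing V)
    refine at_iff_of_dvr (R := R) (K := Z.left.functionField) (F := Z.left.residueField z) x₀ y₀ L hfin hL hX hY
      (ϖ : R) hϖ.ne_zero hm g Subtype.val_injective ?_ _ (Z.left.descResidueField (φ ≫ q)) _ _ hq hgφ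
    intro b
    rcases eq_or_ne b 0 with rfl | hb
    · exact ⟨0, 1, one_mem _, by simp⟩
    rcases V.mem_or_inv_mem b with hbV | hbV
    · exact ⟨⟨b, hbV⟩, 1, one_mem _, by rw [map_one, mul_one]; rfl⟩
    · refine ⟨1, ⟨b⁻¹, hbV⟩, mem_nonZeroDivisors_of_ne_zero fun h0 => inv_ne_zero hb (congrArg Subtype.val h0),
        by rw [map_one]; exact mul_inv_cancel₀ hb⟩

omit [GeometricallyIntegral Z.hom] in
include x₀ y₀ in
/-- Seesaw: triviality at all field valued points and on one slice gives triviality. -/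
theorem isTriv_of_all_points [IsIntegral Z.left] (hL : PicF.IsInvertible L)
    (hY : IsTriv ((Scheme.Modules.pullback (iY X Y Z x₀).left).obj L))
    (hpoint : ∀ {K : Type u} [Field K] (φ : Spec (CommRingCat.of K) ⟶ Z.left), At L φ) : IsTriv L := by
  haveI : IsLocallyNoetherian Z.left := LocallyOfFiniteType.isLocallyNoetherian Z.hom
  -- seesaw on affine opens, then glue
  let σ : Z ⟶ (X ⊗ Y) ⊗ Z := secOf Z (lift x₀ y₀)
  have hσ : ∀ S : Over (Spec (CommRingCat.of k)),
      secOf S (lift x₀ y₀) = secOf S y₀ ≫ iY X Y S x₀ := fun S => by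
    ext : 1
    · simp only [secOf, lift_fst, Category.assoc, whiskerRight_fst, comp_lift, comp_toUnit_assoc,
        Category.comp_id]
    · simp [secOf]
  obtain ⟨hpW, hfW⟩ := proper_prod (X := X) (Y := Y) Z
  haveI : CompactSpace Z.left := QuasiCompact.compactSpace_of_compactSpace Z.hom
  haveI : CompactSpace ((X ⊗ Y) ⊗ Z).left := QuasiCompact.compactSpace_of_compactSpace (snd (X ⊗ Y) Z).left
  obtain ⟨n, c, hV, hcov, ⟨T⟩⟩ := exists_triv L hL
  obtain ⟨m, U, hU, hUcov⟩ := exists_finite_affine_cover Z.left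
  refine (T.iso_iff hcov).2 (trivial_of_trivialOn_cover c hcov (snd (X ⊗ Y) Z).left σ.left
    (by rw [← Over.comp_left, lift_snd]; rfl) (fun V => ?_) ?_ U hUcov fun a => ?_)
  · haveI : Surjective (snd Y Z).left :=
      ⟨fun z => ⟨(secOf Z y₀).left z, by rw [← Scheme.Hom.comp_apply, ← Over.comp_left, lift_snd]; rfl⟩⟩
    obtain ⟨hpY, hfY, hlY⟩ := snd_proper (X := Y) Z
    haveI h1 : ∀ V, IsIso ((snd X Y ▷ Z).left.app V) :=
      isIso_app_of_bijective _ fun U hU => bijective_app_prod Z U hU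
    haveI h2 : ∀ V, IsIso ((snd Y Z).left.app V) :=
      isIso_app_of_bijective _ fun U hU => bijective_app' _ (constFibres_snd (X := Y) Z) hU
    have e : (snd (X ⊗ Y) Z).left = (snd X Y ▷ Z).left ≫ (snd Y Z).left := by
      rw [← Over.comp_left, whiskerRight_snd]
    rw [e, Scheme.Hom.comp_app]
    exact (ConcreteCategory.bijective_of_isIso ((snd Y Z).left.app V ≫ (snd X Y ▷ Z).left.app _)).2
  · refine (T.pull_iso_iff hcov _).1 ?_
    show IsTriv _
    rw [show σ = _ from hσ Z, Over.comp_left, ← isTriv_comp_iff]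
    exact hY.pullback _
  · let s := (hU a).fromSpec ≫ Z.hom
    let b : Over.mk s ⟶ Z := pt s (hU a).fromSpec rfl
    have hsq := isPullback_whiskerLeft b (X ⊗ Y)
    haveI : IsOpenImmersion b.left := inferInstanceAs (IsOpenImmersion (hU a).fromSpec)
    haveI : IsOpenImmersion ((X ⊗ Y) ◁ b).left := MorphismProperty.of_isPullback hsq.flip inferInstance
    refine c.trivialOn_of_pull ((X ⊗ Y) ◁ b).left ?_ ?_
    · ext1
      show Set.range ((X ⊗ Y) ◁ b).left = (snd (X ⊗ Y) Z).left ⁻¹' (U a : Set Z.left)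
      rw [← hsq.isoPullback_hom_fst, Scheme.Hom.comp_base, TopCat.coe_comp, Set.range_comp,
        Set.range_eq_univ.2 hsq.isoPullback.hom.surjective, Set.image_univ, Scheme.Pullback.range_fst]
      exact congrArg _ (hU a).range_fromSpec
    refine (T.pull_iso_iff hcov _).1 ?_
    by_cases hne : Nonempty (U a)
    · haveI := hne
      haveI : IsNoetherianRing Γ(Z.left, U a) := IsLocallyNoetherian.component_noetherian ⟨U a, hU a⟩
      obtain ⟨n', c', hV', hcov', ⟨T'⟩⟩ := exists_coc L hL s (hU a).fromSpec rfl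
      obtain ⟨hp', hf'⟩ := proper_prod (X := X) (Y := Y) (Over.mk s)
      haveI : IsSeparated (terminal.from (Over.mk s).left) :=
        inferInstanceAs (IsSeparated (terminal.from (Spec Γ(Z.left, U a))))
      haveI : (((X ⊗ Y) ⊗ Over.mk s).left).IsSeparated :=
        ⟨by rw [← Limits.terminal.comp_from (snd (X ⊗ Y) (Over.mk s)).left]; infer_instance⟩
      have hsec : (secOf (Over.mk s) (lift x₀ y₀)).left ≫ (snd (X ⊗ Y) (Over.mk s)).left = 𝟙 _ := by
        rw [← Over.comp_left, lift_snd]; rfl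
      haveI : IsAffineHom (secOf (Over.mk s) (lift x₀ y₀)).left := isAffineHom_of_section _ _ hsec
      refine (T'.iso_iff hcov').2 (trivial_of_fibres (snd (X ⊗ Y) (Over.mk s)).left c' hcov' hV'
        (fun i j => (hV' i).inf (hV' j)) (secOf (Over.mk s) (lift x₀ y₀)).left hsec
        (fun i => (hV' i).preimage _) ?_ (surjective_ringMap_prod y₀ s) fun p hp => ?_)
      · refine (T'.pull_iso_iff hcov' _).1 ?_
        show IsTriv _
        rw [hσ, Over.comp_left, ← isTriv_comp_iff]
        exact (isTriv_slice_iY x₀ L hY b).pullback _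
      · let gp := CommRingCat.ofHom (algebraMap Γ(Z.left, U a) p.ResidueField)
        refine ⟨_, _, _, isPullback_whiskerLeft (Over.homMk (Spec.map gp) rfl :
          Over.mk (Spec.map gp ≫ s) ⟶ Over.mk s) (X ⊗ Y), surjective_ringMap_prod y₀ _,
          (T'.pull_iso_iff hcov' _).1 ((isTriv_comp_iff _ _ L).2
            (isTriv_of_eq (whisker_pt_comp gp s _ rfl).symm (hpoint _ _ _)))⟩
    · haveI : IsEmpty (Spec Γ(Z.left, U a)) := ⟨fun x => hne ⟨(hU a).fromSpec x, by
        have : (hU a).fromSpec x ∈ Set.range (hU a).fromSpec := ⟨x, rfl⟩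
        rwa [(hU a).range_fromSpec] at this⟩⟩
      haveI : IsEmpty ((X ⊗ Y) ⊗ Over.mk s).left :=
        Function.isEmpty (β := Spec Γ(Z.left, U a)) (snd (X ⊗ Y) (Over.mk s)).left
      obtain ⟨n', c', hV', hcov', ⟨T'⟩⟩ := exists_coc L hL s (hU a).fromSpec rfl
      refine (T'.iso_iff hcov').2 ⟨fun i => 1, fun i j => ?_, fun i => isUnit_one⟩
      exact TopCat.Presheaf.section_ext ((X ⊗ Y) ⊗ Over.mk s).left.sheaf _ _ _ fun x => isEmptyElim x

/-- The theorem of the cube. -/
theorem isTriv_of_slices (hfin : FinH1.{u}) (hL : PicF.IsInvertible L)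
    (hX : IsTriv ((Scheme.Modules.pullback (iX X Y Z y₀).left).obj L))
    (hY : IsTriv ((Scheme.Modules.pullback (iY X Y Z x₀).left).obj L))
    (hZ : IsTriv ((Scheme.Modules.pullback (lift (𝟙 (X ⊗ Y)) (toUnit (X ⊗ Y) ≫ z₀)).left).obj L)) :
    IsTriv L := by
  haveI : IsIntegral Z.left := GeometricallyIntegral.isIntegral_of_subsingleton Z.hom
  haveI : IsLocallyNoetherian Z.left := LocallyOfFiniteType.isLocallyNoetherian Z.hom
  have hseed : At L z₀.left := by
    refine at_of_triv L (𝟙 _) z₀.left (Over.w z₀) ?_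
    have h := (hZ.pullback ((fst (X ⊗ Y) (Over.mk (𝟙 (Spec (CommRingCat.of k))))).left))
    rw [isTriv_comp_iff, ← Over.comp_left] at h
    refine isTriv_of_eq (congrArg (fun f : (X ⊗ Y) ⊗ Over.mk (𝟙 _) ⟶ (X ⊗ Y) ⊗ Z => f.left) ?_) h
    have e : (toUnit (Over.mk (𝟙 (Spec (CommRingCat.of k))))) ≫ z₀ = pt (𝟙 _) z₀.left (Over.w z₀) := by
      ext1; exact Category.id_comp _
    rw [← e]
    ext : 1
    · rw [Category.assoc, lift_fst, Category.comp_id, whiskerLeft_fst]
    · rw [Category.assoc, lift_snd, whiskerLeft_snd, ← Category.assoc, ← Category.assoc,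
        toUnit_unique (fst (X ⊗ Y) _ ≫ toUnit (X ⊗ Y)) (snd (X ⊗ Y) _ ≫ toUnit _)]
  have hpoint : ∀ {K : Type u} [Field K] (φ : Spec (CommRingCat.of K) ⟶ Z.left), At L φ := by
    intro K _ φ
    let ζ : Spec (CommRingCat.of k) ⟶ Z.left := z₀.left
    have hη : At L (Z.left.fromSpecStalk (genericPoint Z.left)) := by
      refine (at_residue_iff_at_generic x₀ y₀ L hfin hL hX hY (ζ (IsLocalRing.closedPoint k))).1 ?_
      refine At.descend (K := Z.left.residueField (ζ (IsLocalRing.closedPoint k))) (K' := k) y₀ L hL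
        (Z.left.descResidueField (K := k) (Scheme.stalkClosedPointTo ζ)) ?_
      exact (Z.left.descResidueField_stalkClosedPointTo_fromSpecResidueField k ζ).symm ▸ hseed
    have h := At.comp L (Z.left.descResidueField (K := K) (Scheme.stalkClosedPointTo φ))
      ((at_residue_iff_at_generic x₀ y₀ L hfin hL hX hY (φ (IsLocalRing.closedPoint K))).2 hη)
    rw [Z.left.descResidueField_stalkClosedPointTo_fromSpecResidueField K φ] at h
    exact h
  exact isTriv_of_all_points x₀ y₀ L hL hY hpoint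

end Groth.Agent.CubeField
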