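import Groth.Agent.Lib.CubeField.Contract
import Groth.Agent.Lib.RelAmple18.Generation
import Groth.Agent.Lib.Twist.Ample
import Groth.Agent.Lib.ProjSpace.Basic
import Groth.Agent.S3572

/-!
# An effective invertible module on an abelian variety is ample or contracts a subvariety
-/

universe u

open CategoryTheory Limits MonoidalCategory CartesianMonoidalCategory AlgebraicGeometry
  TopologicalSpace

set_option linter.style.haveILetI false
set_option backward.isDefEq.respectTransparency false

open scoped MonObj GrpObj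

namespace Groth.Agent.CubeField

noncomputable local instance instLawD (Y : Scheme.{u}) : PicGrp.Law Y := M2.law Y

variable {k : Type u} [Field k] [IsAlgClosed k] {A : Over (Spec (CommRingCat.of k))} [GrpObj A]
  [IsProper A.hom] [GeometricallyIntegral A.hom] {N : A.left.Modules}

/-- The square of an effective invertible module has a section not vanishing at a given point. -/
theorem exists_hasSec_two (hfin : FinH1.{u}) (hN : PicF.IsInvertible N) (s : Coh.structureModule A.left ⟶ N)
    (hne : (CohB1.genLocus N s : Set A.left).Nonempty) (x : A.left) :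
    ∃ G : A.left.Opens, Amp.HasSec N 2 G ∧ x ∈ G := by
  set U := CohB1.genLocus N s
  haveI := isCommMonObj_of_isProper_of_geometricallyIntegral A
  haveI : JacobsonSpace A.left := LocallyOfFiniteType.jacobsonSpace A.hom
  suffices hclosed : ∀ z : A.left, IsClosed ({z} : Set A.left) →
      ∃ G : A.left.Opens, Amp.HasSec N 2 G ∧ z ∈ G by
    obtain ⟨z, hzx, hz⟩ := nonempty_inter_closedPoints (Z := closure {x}) ⟨x, subset_closure rfl⟩
      isClosed_closure.isLocallyClosed
    obtain ⟨G, hG, hzG⟩ := hclosed z hz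
    exact ⟨G, hG, (specializes_iff_mem_closure.2 hzx).mem_open G.isOpen hzG⟩
  intro z hz
  obtain ⟨p, rfl⟩ := exists_rpt hz
  have hφ : Surjective ((toUnit A ≫ p) * 𝟙 A).left := by
    haveI : Surjective (((toUnit A ≫ p⁻¹) * 𝟙 A).left ≫ ((toUnit A ≫ p) * 𝟙 A).left) := by
      rw [← Over.comp_left, MonObj.comp_mul, Category.comp_id, ← Category.assoc,
        CartesianMonoidalCategory.comp_toUnit, GrpObj.comp_inv, ← mul_assoc, mul_inv_cancel, one_mul, Over.id_left]
      infer_instance
    exact Surjective.of_comp ((toUnit A ≫ p⁻¹) * 𝟙 A).left _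
  have hψ : Surjective ((toUnit A ≫ p) * (𝟙 A)⁻¹).left := by
    haveI : Surjective (((toUnit A ≫ p) * (𝟙 A)⁻¹).left ≫ ((toUnit A ≫ p) * (𝟙 A)⁻¹).left) := by
      rw [← Over.comp_left, MonObj.comp_mul, GrpObj.comp_inv, Category.comp_id, ← Category.assoc,
        CartesianMonoidalCategory.comp_toUnit, mul_inv_rev, inv_inv, mul_comm (𝟙 A), mul_inv_cancel_left, Over.id_left]
      infer_instance
    exact Surjective.of_comp ((toUnit A ≫ p) * (𝟙 A)⁻¹).left _
  obtain ⟨a, ha1, ha2⟩ := exists_point_two ((toUnit A ≫ p) * 𝟙 A) ((toUnit A ≫ p) * (𝟙 A)⁻¹) (U := U) hne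
  have h1 : rpt p ∈ (trans₁ a).left ⁻¹ᵁ U := by
    show (trans₁ a).left (rpt p) ∈ U
    rwa [← rpt_comp, MonObj.comp_mul, Category.comp_id, ← Category.assoc, toUnit_unique (a ≫ toUnit A) (𝟙 _),
      Category.id_comp, ← point_comp_trans₁, rpt_comp] at ha1
  have h2 : rpt p ∈ (trans₁ a⁻¹).left ⁻¹ᵁ U := by
    show (trans₁ a⁻¹).left (rpt p) ∈ U
    rwa [← rpt_comp, MonObj.comp_mul, GrpObj.comp_inv, Category.comp_id, ← Category.assoc,
      toUnit_unique (a ≫ toUnit A) (𝟙 _), Category.id_comp, ← point_comp_trans₁, rpt_comp] at ha2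
  obtain ⟨e⟩ := cl_translate (L := N) hfin a a⁻¹ hN
  refine ⟨(trans₁ a).left ⁻¹ᵁ U ⊓ (trans₁ a⁻¹).left ⁻¹ᵁ U, ?_, h1, h2⟩
  have h2 := ((hasSec_one s).pullback (trans₁ a).left hN).tensor (PicLoc.isInvertible_pullback _ hN)
    (PicLoc.isInvertible_pullback _ hN) ((hasSec_one s).pullback (trans₁ a⁻¹).left hN)
  let e₁ : (Scheme.Modules.pullback (𝟙 A * (toUnit A ≫ (a * a⁻¹))).left).obj N ≅ N :=
    eqToIso (by rw [mul_inv_cancel, MonObj.comp_one, mul_one, Over.id_left]) ≪≫
      (Scheme.Modules.pullbackId A.left).app N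
  have h3 := (h2.map_iso e.symm).map_iso
    (M2.tensorIso (e₁ ≪≫ (M2.tensorLUnit N).symm) (Iso.refl N))
  exact (h3.of_tensorPow (a := 2)).of_eq rfl

/-- Either ample, or the square is trivial on an infinite proper integral subscheme. -/
theorem isAmple_or_exists_contracted (hfin : FinH1.{u}) (hN : PicF.IsInvertible N)
    (s : Coh.structureModule A.left ⟶ N) (hne : (CohB1.genLocus N s : Set A.left).Nonempty) :
    CohB1.IsAmple N ∨ ∃ (B : Over (Spec (CommRingCat.of k))) (_ : IsProper B.hom) (_ : IsIntegral B.left)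
      (j : B ⟶ A), IsClosedImmersion j.left ∧ {x : B.left | IsClosed ({x} : Set B.left)}.Infinite ∧
        P N hN j ^ 2 = 1 := by
  classical
  haveI : CompactSpace A.left := QuasiCompact.compactSpace_of_compactSpace A.hom
  haveI : JacobsonSpace A.left := LocallyOfFiniteType.jacobsonSpace A.hom
  haveI : IsLocallyNoetherian A.left := LocallyOfFiniteType.isLocallyNoetherian A.hom
  haveI : AlgebraicGeometry.IsNoetherian A.left := {}
  choose G hG hxG using exists_hasSec_two hfin hN s hne
  obtain ⟨T, hT⟩ := isCompact_univ.elim_finite_subcover (fun x => (G x : Set A.left)) (fun x => (G x).isOpen)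
    fun x _ => Set.mem_iUnion.2 ⟨x, hxG x⟩
  choose σ₀ hσ₀ using fun x : T => hG x
  let M := CohB1.tensorPow N 2
  have hM : PicF.IsInvertible M := Amp.isInvertible_tensorPow hN 2
  let e := Fintype.equivFin (Option T)
  obtain ⟨n, hn⟩ : ∃ n, Fintype.card (Option T) = n + 1 :=
    ⟨Fintype.card (Option T) - 1, (Nat.succ_pred_eq_of_pos Fintype.card_pos).symm⟩
  let v : Option T → ProjUP.Γm M := fun o => o.elim 0 fun x => Amp.gval (σ₀ x)
  let σ : Fin (n + 1) → ProjUP.Γm M := fun i => v (e.symm (Fin.cast hn.symm i))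
  have hgenBy : ProjUP.GeneratedBy M σ := fun y => by
    obtain ⟨x, hx, hyx⟩ := Set.mem_iUnion₂.1 (hT (Set.mem_univ y))
    have hg := (Amp.mem_genLocus_iff hM (σ₀ ⟨x, hx⟩) (x := y)).1 (by rw [hσ₀]; exact hyx)
    refine top_le_iff.1 fun a _ => ?_
    obtain ⟨c, rfl⟩ := hg.2 a
    refine Submodule.smul_mem _ c (Submodule.subset_span ⟨Fin.cast hn (e (some ⟨x, hx⟩)), ?_⟩)
    simp [σ, v]
  obtain ⟨r, hr, τ, -⟩ := Groth.Agent.S3572.result n A.hom M hM σ hgenBy
  haveI : IsProper (r ≫ CohB1.ProjSpace.toSpec n k) := by rw [hr]; infer_instance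
  haveI : IsSeparated (CohB1.ProjSpace.toSpec n k) := by
    unfold CohB1.ProjSpace.toSpec
    infer_instance
  haveI : IsProper r := IsProper.of_comp r (CohB1.ProjSpace.toSpec n k)
  by_cases hfinite : ∀ x : A.left, IsClosed ({x} : Set A.left) → (r ⁻¹' {r x}).Finite
  · left
    have hcl : ∀ x ∈ closedPoints A.left, r.QuasiFiniteAt x := by
      intro x hx
      have hb : IsClosed ({r x} : Set (CohB1.ProjSpace n k)) := by
        rw [← Set.image_singleton]; exact r.isClosedMap _ hx
      haveI : Finite ↥(r ⁻¹' {r x}) := (hfinite x hx).to_subtype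
      have hpts : ∀ y ∈ r ⁻¹' {r x}, IsClosed ({y} : Set A.left) := fun y hy => by
        have hF : IsClosed (r ⁻¹' {r x}) := hb.preimage r.continuous
        have hcl : IsClosed (r ⁻¹' {r x} ∩ closedPoints A.left) := by
          rw [← Set.biUnion_of_singleton (r ⁻¹' {r x} ∩ closedPoints A.left)]
          exact ((hfinite x hx).subset Set.inter_subset_left).isClosed_biUnion fun w hw => hw.2
        have h1 : r ⁻¹' {r x} ⊆ r ⁻¹' {r x} ∩ closedPoints A.left := by
          conv_lhs => rw [← (JacobsonSpace.closure_inter_closedPoints_eq_closure hF.isLocallyClosed).trans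
            hF.closure_eq]
          exact closure_minimal subset_rfl hcl
        exact (h1 hy).2
      rw [Scheme.Hom.quasiFiniteAt_iff_isOpen_singleton_asFiber]
      haveI : DiscreteTopology ↥(r ⁻¹' {r x}) := DiscreteTopology.of_finite_of_isClosed_singleton
        fun y => by
          have := (hpts y.1 y.2).preimage (continuous_subtype_val (p := fun a => a ∈ r ⁻¹' {r x}))
          have e : (Subtype.val ⁻¹' {y.1} : Set ↥(r ⁻¹' {r x})) = {y} := by
            ext z; simp [Subtype.ext_iff]
          rwa [e] at this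
      rw [← (r.fiberHomeo (r x)).isOpen_image]
      exact isOpen_discrete _
    have hall : ∀ x, r.QuasiFiniteAt x := by
      by_contra hne
      push Not at hne
      obtain ⟨x, hx⟩ := hne
      obtain ⟨q, hq, hqc⟩ := nonempty_inter_closedPoints (Z := {x | r.QuasiFiniteAt x}ᶜ) ⟨x, hx⟩
        r.isOpen_quasiFiniteAt.isClosed_compl.isLocallyClosed
      exact hq (hcl q hqc)
    haveI : LocallyQuasiFinite r :=
      r.quasiFiniteLocus_eq_top_iff.1 (top_le_iff.1 fun x _ => hall x)
    haveI := IsFinite.of_isProper_of_locallyQuasiFinite r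
    have hO : CohB1.IsAmple (Twist.twistProjSpace n k 1) :=
      Groth.Agent.Twist.isAmple_twist (CohB1.polyGrading n k) (fun i => MvPolynomial.X i)
        (fun i => Groth.Agent.ProjSpace.X_mem' n k i) (Groth.Agent.ProjSpace.irrelevant_le_span n k) (d := 1) (by omega)
    exact (Amp.isAmple_tensorPow_iff hN two_pos).1
      (Amp.isAmple_of_iso τ (Amp.isAmple_pullback_of_isAffineHom r hO))
  · right
    push Not at hfinite
    obtain ⟨x, hx, hinf⟩ := hfinite
    have hb : IsClosed ({r x} : Set (CohB1.ProjSpace n k)) := by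
      rw [← Set.image_singleton]; exact r.isClosedMap _ hx
    obtain ⟨S, hS, hScl, hSirr, hSeq⟩ := NoetherianSpace.exists_finite_set_isClosed_irreducible
      (hb.preimage r.continuous)
    obtain ⟨T, hTS, hTinf⟩ : ∃ T ∈ S, T.Infinite := by
      by_contra hcon
      push Not at hcon
      exact hinf (hSeq ▸ hS.sUnion hcon)
    let Zc : Closeds A.left := ⟨T, hScl T hTS⟩
    let I := Scheme.IdealSheafData.vanishingIdeal Zc
    haveI : AlgebraicGeometry.IsReduced I.subscheme := RedSepLib.isReduced_vanishingIdeal_subscheme Zc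
    have hrange : Set.range I.subschemeι = T := by
      rw [Scheme.IdealSheafData.range_subschemeι]; simp [I, Zc]
    haveI : IrreducibleSpace I.subscheme := by
      have hgen := (hSirr T hTS).closure_genericPoint (hScl T hTS)
      obtain ⟨x', hx'⟩ := hrange.ge (hgen.le (subset_closure (Set.mem_singleton (hSirr T hTS).genericPoint)))
      refine irreducibleSpace_def _ |>.2 ?_
      have h1 : IsGenericPoint x' (Set.univ : Set I.subscheme) := by
        refine Set.eq_univ_of_forall fun y => ?_
        rw [← specializes_iff_mem_closure, ← I.subschemeι.isEmbedding.isInducing.specializes_iff, hx',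
          specializes_iff_mem_closure, hgen, ← hrange]
        exact ⟨y, rfl⟩
      exact h1.isIrreducible
    haveI : IsIntegral I.subscheme := isIntegral_of_irreducibleSpace_of_isReduced _
    let B : Over (Spec (CommRingCat.of k)) := Over.mk (I.subschemeι ≫ A.hom)
    let j : B ⟶ A := Over.homMk I.subschemeι rfl
    haveI hBp : IsProper B.hom := inferInstanceAs (IsProper (I.subschemeι ≫ A.hom))
    haveI hBi : IsIntegral B.left := ‹IsIntegral I.subscheme›
    haveI : AlgebraicGeometry.IsReduced B.left := ‹AlgebraicGeometry.IsReduced I.subscheme›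
    haveI : JacobsonSpace B.left := LocallyOfFiniteType.jacobsonSpace B.hom
    have hfib : ∀ y : B.left, (j.left ≫ r) y = r x := fun y => by
      have hy : I.subschemeι y ∈ T := hrange ▸ ⟨y, rfl⟩
      exact (hSeq ▸ Set.subset_sUnion_of_mem hTS : T ⊆ r ⁻¹' {r x}) hy
    refine ⟨B, hBp, hBi, j, inferInstanceAs (IsClosedImmersion I.subschemeι), fun hfc => hTinf ?_, ?_⟩
    · have huniv : (Set.univ : Set B.left) = {x : B.left | IsClosed ({x} : Set B.left)} := by
        refine subset_antisymm ?_ (Set.subset_univ _)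
        have hclosed : IsClosed {x : B.left | IsClosed ({x} : Set B.left)} := by
          rw [← Set.biUnion_of_singleton {x : B.left | IsClosed ({x} : Set B.left)}]
          exact hfc.isClosed_biUnion fun y hy => hy
        rw [← (JacobsonSpace.closure_inter_closedPoints_eq_closure
          (isClosed_univ (X := B.left)).isLocallyClosed).trans isClosed_univ.closure_eq]
        exact closure_minimal (fun v hv => hv.2) hclosed
      have : (Set.univ : Set B.left).Finite := huniv ▸ hfc
      rw [← hrange, ← Set.image_univ]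
      exact this.image _
    · obtain ⟨t, ht⟩ := exists_factor_closedPoint (j.left ≫ r) hb hfib
      have htriv : IsTriv ((Scheme.Modules.pullback j.left).obj M) := by
        have h1 : IsTriv ((Scheme.Modules.pullback (j.left ≫ r)).obj (Twist.twistProjSpace n k 1)) := by
          rw [← ht]
          refine (isTriv_comp_iff t _ _).1 (IsTriv.pullback t ?_)
          exact nonempty_trivial_field (k := (CohB1.ProjSpace n k).residueField (r x)) _
            (PicLoc.isInvertible_pullback _ (M2.isInvertible_of_iso (Iso.refl _)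
              (Groth.Agent.Twist.isAmple_twist (CohB1.polyGrading n k) (fun i => MvPolynomial.X i)
                (fun i => Groth.Agent.ProjSpace.X_mem' n k i) (Groth.Agent.ProjSpace.irrelevant_le_span n k)
                (d := 1) (by omega)).1))
        obtain ⟨e'⟩ := (isTriv_comp_iff j.left r _).2 h1
        exact ⟨((Scheme.Modules.pullback j.left).mapIso τ).symm ≪≫ e'⟩
      rw [P]
      refine Subtype.ext ?_
      rw [PicGrp.cls_pow_val, PicGrp.one_val]
      obtain ⟨e'⟩ := htriv
      exact (PicGrp.cl_eq_cl_iff _ _).2 ⟨(M2.pullTensorPowIso j.left N 2).symm ≪≫ e'⟩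

end Groth.Agent.CubeField
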