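import Groth.Agent.Lib.SecDiv18.Factorial
import Groth.Agent.Lib.RedSep.Basic

/-!
Closed sets of pure codimension one in factorial schemes as effective Cartier divisors.
-/

universe u

open CategoryTheory Limits AlgebraicGeometry TopologicalSpace Opposite

set_option linter.style.haveILetI false
set_option backward.isDefEq.respectTransparency false

namespace Groth.Agent.CubeField

open Groth.Agent.SecDiv

theorem exists_effCartier_of_closed {X : Scheme.{u}} [IsNoetherian X] (Z : Closeds X)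
    (hgen : ∀ z ∈ (Z : Set X), (∀ y ∈ (Z : Set X), y ⤳ z → y = z) → ringKrullDim (X.presheaf.stalk z) = 1)
    (hufd : ∀ x ∈ (Z : Set X), IsDomain (X.presheaf.stalk x) ∧ UniqueFactorizationMonoid (X.presheaf.stalk x)) :
    ∃ 𝓘 : X.IdealSheafData, BlowUp.IsEffCartierIdeal 𝓘 ∧ (𝓘.support : Set X) = (Z : Set X) := by
  let I := Scheme.IdealSheafData.vanishingIdeal Z
  have hsupp : (I.support : Set X) = (Z : Set X) := by
    simp [I]
  haveI : IsReduced I.subscheme := RedSepLib.isReduced_vanishingIdeal_subscheme Z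
  have hmem : ∀ z : I.subscheme, I.subschemeι z ∈ (Z : Set X) := fun z => by
    have : I.subschemeι z ∈ (I.support : Set X) := I.range_subschemeι.le ⟨z, rfl⟩
    rw [hsupp] at this
    exact this
  refine ⟨I, (fun x => ?_), hsupp⟩
  have h1 : ∀ z : ↥I.subscheme, IsAssociatedPrime (IsLocalRing.maximalIdeal ↑(I.subscheme.presheaf.stalk z)) ↑(I.subscheme.presheaf.stalk z) →
      ∀ z' : ↥I.subscheme, z' ⤳ z → z' = z := by
    intro z hz z' hz'
    refine WA.eq_of_specializes_weakAss ?_ hz'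
    obtain ⟨-, m, hm⟩ := hz
    have hm0 : m ≠ 0 := by
      intro h0
      refine (IsLocalRing.maximalIdeal.isMaximal (I.subscheme.presheaf.stalk z)).ne_top (hm.trans ?_)
      rw [Ideal.radical_eq_top, eq_top_iff]
      exact fun c _ => by rw [Submodule.mem_colon_singleton, Submodule.mem_bot, h0, smul_zero]
    obtain ⟨V, hV, hzV, -⟩ := exists_isAffineOpen_mem_and_subset (U := (⊤ : I.subscheme.Opens)) (x := z) trivial
    let := TopCat.Presheaf.algebra_section_stalk I.subscheme.presheaf (⟨z, hzV⟩ : V)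
    have := hV.isLocalization_stalk ⟨z, hzV⟩
    obtain ⟨⟨t, c⟩, htc⟩ := IsLocalization.surj (hV.primeIdealOf ⟨z, hzV⟩).asIdeal.primeCompl m
    have hcu : IsUnit (I.subscheme.presheaf.germ V z hzV c) := (M1.isUnit_germ_iff hV hzV c).mpr c.2
    have htc : m * I.subscheme.presheaf.germ V z hzV c = I.subscheme.presheaf.germ V z hzV t := htc
    refine WA.isWeakAssPoint_of_section hV hzV (show Γ(Coh.structureModule I.subscheme, V) from t) (fun h0 => hm0 ?_) fun b hb => ?_
    · exact hcu.mul_left_eq_zero.mp (htc.trans ((WA.germ_O_eq_zero_iff hzV t).mp h0))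
    · have hbm : I.subscheme.presheaf.germ V z hzV b ∈ IsLocalRing.maximalIdeal _ := (IsLocalRing.mem_maximalIdeal _).mpr hb
      rw [hm] at hbm
      obtain ⟨k, hk⟩ := hbm
      rw [Submodule.mem_colon_singleton, Submodule.mem_bot, smul_eq_mul] at hk
      refine ⟨k, (WA.germ_O_eq_zero_iff hzV _).mpr ?_⟩
      change I.subscheme.presheaf.germ V z hzV (b ^ k * t) = 0
      rw [map_mul, map_pow, ← htc, ← mul_assoc, hk, zero_mul]
  have h2 : ∀ z : ↥I.subscheme, (∀ z' : ↥I.subscheme, z' ⤳ z → z' = z) →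
      ringKrullDim (X.presheaf.stalk (I.subschemeι z)) = 1 := by
    intro z hz
    refine hgen _ (hmem z) fun y hy hyz => ?_
    obtain ⟨w, rfl⟩ : y ∈ Set.range I.subschemeι := I.range_subschemeι.ge (hsupp.ge hy)
    rw [hz w ((I.subschemeι.isClosedEmbedding.isEmbedding.isInducing.specializes_iff).mp hyz)]
  by_cases hx : x ∈ I.support
  · obtain ⟨hdom, hufd⟩ := hufd x (hsupp.le hx)
    haveI := hdom
    haveI := hufd
    obtain ⟨V, hV, hxV, -⟩ := exists_isAffineOpen_mem_and_subset (U := (⊤ : X.Opens)) (x := x) trivial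
    obtain ⟨g, hg, hJ⟩ := principal_of_ass ((I.ideal ⟨V, hV⟩).map (X.presheaf.germ V x hxV).hom)
      (exists_prime_of_ass I h1 h2 ⟨V, hV⟩ hxV hdom hufd)
    exact exists_eqn_of_stalk I ⟨V, hV⟩ hxV g (mem_nonZeroDivisors_of_ne_zero hg) hJ
  · obtain ⟨V, hV, hxV, hVs⟩ := exists_isAffineOpen_mem_and_subset (U := I.support.compl) (x := x) hx
    refine ⟨⟨V, hV⟩, hxV, 1, one_mem _, ?_⟩
    rw [Ideal.span_singleton_one]
    by_contra hne
    obtain ⟨P, hP, hle⟩ := Ideal.exists_le_maximal _ hne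
    obtain ⟨y, hy, hyu⟩ := WA.exists_point hV P
    refine hVs hy ?_
    rw [SetLike.mem_coe, Scheme.IdealSheafData.mem_support_iff_of_mem (U := ⟨V, hV⟩) hy, Scheme.mem_zeroLocus_iff]
    exact fun a ha hya => (hyu a).mp ((X.mem_basicOpen a y hy).mp hya) (hle ha)


end Groth.Agent.CubeField
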