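import Groth.Agent.Lib.CubeField.Lift
import Mathlib.RingTheory.Ideal.KrullsHeightTheorem
import Mathlib.AlgebraicGeometry.Noetherian

/-!
# Triviality of a line bundle over a discrete valuation ring

From the special fibre to the whole family, using lifting, and from the generic fibre to the whole family,
using a slice on which the bundle is trivial and which meets every component of the special fibre.
-/

universe u

open CategoryTheory Limits AlgebraicGeometry TopologicalSpace Opposite TensorProduct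

set_option linter.style.haveILetI false
set_option backward.isDefEq.respectTransparency false

namespace Groth.Agent.CubeField

open RigidRel

variable {R : CommRingCat.{u}} {W : Scheme.{u}} (ξ : W ⟶ Spec R) {ι : Type}

theorem mem_basicOpen_ringMap {U : W.Opens} {z : W} (hz : z ∈ U) {b : R} (hb : b ∉ (ξ z).asIdeal) :
    z ∈ W.basicOpen (ringMap ξ U b) := by
  have h : ξ z ∈ (Spec R).basicOpen ((Scheme.ΓSpecIso R).inv b) := by
    rw [basicOpen_eq_of_affine]; exact hb
  have h1 : z ∈ ξ ⁻¹ᵁ (Spec R).basicOpen ((Scheme.ΓSpecIso R).inv b) := h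
  rw [← rs_ringMap (ξ := ξ) (le_top : U ≤ ⊤) b, rs, ringMap_top]
  erw [Scheme.basicOpen_res]
  refine ⟨hz, ?_⟩
  rw [Scheme.preimage_basicOpen] at h1
  exact h1

/-- A point without proper generalisations. -/
def IsMaxPt {X : Type*} [TopologicalSpace X] (x : X) : Prop := ∀ x', x' ⤳ x → x' = x

theorem exists_isMaxPt {X : Scheme.{u}} (z : X) : ∃ x : X, IsMaxPt x ∧ x ⤳ z := by
  have hC : IsIrreducible (irreducibleComponent z) := isIrreducible_irreducibleComponent
  have hx : IsGenericPoint hC.genericPoint (irreducibleComponent z) := by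
    have h := hC.isGenericPoint_genericPoint_closure
    rwa [isClosed_irreducibleComponent.closure_eq] at h
  refine ⟨hC.genericPoint, fun x' h => ?_, hx.specializes mem_irreducibleComponent⟩
  have hsub : irreducibleComponent z ⊆ closure {x'} :=
    hx.def ▸ closure_minimal (Set.singleton_subset_iff.2 h.mem_closure) isClosed_closure
  have heq : closure {x'} = irreducibleComponent z :=
    eq_irreducibleComponent isIrreducible_singleton.closure.isPreirreducible hsub
  exact (show IsGenericPoint x' (irreducibleComponent z) from heq).eq hx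

/-- Where a family of local functions does not vanish. -/
def Coc.NV (c : Coc W ι) (v : ∀ i, Γ(W, c.V i)) : W.Opens := ⨆ i, W.basicOpen (v i)

theorem Coc.mem_NV {c : Coc W ι} {v : ∀ i, Γ(W, c.V i)} (hv : c.Compat v) {z : W} {i : ι} (hi : z ∈ c.V i) :
    z ∈ c.NV v ↔ z ∈ W.basicOpen (v i) := by
  refine ⟨fun h => ?_, fun h => Opens.mem_iSup.2 ⟨i, h⟩⟩
  obtain ⟨j, hj⟩ := Opens.mem_iSup.1 h
  have hjV : z ∈ c.V j := W.basicOpen_le _ hj
  have e : W.basicOpen (rs (inf_le_left : c.V i ⊓ c.V j ≤ c.V i) (v i)) =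
      W.basicOpen (rs (inf_le_right : c.V i ⊓ c.V j ≤ c.V j) (v j)) := by
    rw [hv i j, Scheme.basicOpen_mul, Scheme.basicOpen_of_isUnit _ (c.isUnit_g i j),
      inf_eq_right.2 (W.basicOpen_le _)]
  erw [Scheme.basicOpen_res, Scheme.basicOpen_res] at e
  have hz : z ∈ (c.V i ⊓ c.V j) ⊓ W.basicOpen (v j) := ⟨⟨hi, hjV⟩, hj⟩
  rw [← e] at hz
  exact hz.2

theorem Coc.isUnit_of_NV {c : Coc W ι} {v : ∀ i, Γ(W, c.V i)} (hv : c.Compat v) (h : ∀ z, z ∈ c.NV v) (i : ι) :
    IsUnit (v i) :=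
  RingedSpace.isUnit_of_isUnit_germ W.toRingedSpace (c.V i) (v i) fun z hz =>
    (Scheme.mem_basicOpen W (v i) z hz).1 ((Coc.mem_NV hv hz).1 (h z))

/-- A family which is trivial on the special fibre is trivial. -/
theorem trivial_of_special [Flat ξ] [IsSeparated ξ] [UniversallyClosed ξ] [IsDomain R] [IsLocalRing R]
    [Finite ι] (c : Coc W ι)
    (hcov : ⨆ i, c.V i = ⊤) (hV : ∀ i, IsAffineOpen (c.V i)) (hI : ∀ i j, IsAffineOpen (c.V i ⊓ c.V j))
    (π : R) (hπ : π ≠ 0) (hm : IsLocalRing.maximalIdeal R = Ideal.span {π}) (hH : IsHausdorffH1 ξ c π)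
    {W₀ : Scheme.{u}} {η : W₀ ⟶ Spec (CommRingCat.of (R ⧸ Ideal.span {π}))} {f : W₀ ⟶ W}
    (hsq : IsPullback f η ξ (quotBase (Ideal.span {π})))
    {κ : Type} (T T₀ : κ → Scheme.{u}) (ρ : ∀ s, T s ⟶ Spec R) [∀ s, Flat (ρ s)] [∀ s, IsSeparated (ρ s)]
    [∀ s, QuasiCompact (ρ s)] [∀ s, LocallyOfFinitePresentation (ρ s)] [∀ s, Surjective (ρ s)]
    (hρ : ∀ s, ConstFibres (ρ s)) (j : ∀ s, T s ⟶ W) (j₀ : ∀ s, T₀ s ⟶ W₀) (q : ∀ s, T₀ s ⟶ T s)
    (hjq : ∀ s, q s ≫ j s = j₀ s ≫ f) (hj : ∀ s, j s ≫ ξ = ρ s)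
    (hjV : ∀ s i, IsAffineOpen (j s ⁻¹ᵁ c.V i)) (hjI : ∀ s i i', IsAffineOpen (j s ⁻¹ᵁ (c.V i ⊓ c.V i')))
    (hτ : ∀ s, (c.pull (j s)).Trivial)
    (hinj : ∀ e : ∀ i i', Γ(W₀, f ⁻¹ᵁ c.V i ⊓ f ⁻¹ᵁ c.V i'), IsCocycle (fun i => f ⁻¹ᵁ c.V i) e →
      (∀ s, IsCoboundary (fun i => j₀ s ⁻¹ᵁ (f ⁻¹ᵁ c.V i))
        fun i i' => (j₀ s).app (f ⁻¹ᵁ c.V i ⊓ f ⁻¹ᵁ c.V i') (e i i')) →
      IsCoboundary (fun i => f ⁻¹ᵁ c.V i) e)
    (h₀ : (c.pull f).Trivial) : c.Trivial := by
  obtain ⟨v, hv, hvu⟩ := exists_section_lift ξ c hcov hV hI π hπ hH hsq T T₀ ρ hρ j j₀ q hjq hj hjV hjI hτ hinj h₀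
  refine ⟨v, hv, Coc.isUnit_of_NV hv fun z => ?_⟩
  obtain ⟨w, hzw, hw⟩ : ∃ w, z ⤳ w ∧ ξ w = IsLocalRing.closedPoint R := by
    have h1 : IsClosed (ξ '' closure {z}) := ξ.isClosedMap _ isClosed_closure
    have h2 : ξ z ∈ ξ '' closure {z} := ⟨z, subset_closure rfl, rfl⟩
    obtain ⟨w, hw, hwe⟩ := (IsLocalRing.specializes_closedPoint (ξ z)).mem_closed h1 h2
    exact ⟨w, specializes_iff_mem_closure.2 hw, hwe⟩
  refine hzw.mem_open (c.NV v).isOpen ?_
  have hwr : w ∈ Set.range f := by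
    rw [← hsq.isoPullback_hom_fst, Scheme.Hom.comp_base, TopCat.coe_comp, Set.range_comp,
      Set.range_eq_univ.2 hsq.isoPullback.hom.surjective, Set.image_univ, Scheme.Pullback.range_fst]
    show ξ w ∈ Set.range (quotBase (Ideal.span {π}))
    rw [show Set.range (quotBase (Ideal.span {π})) = PrimeSpectrum.zeroLocus (Ideal.span {π} : Ideal R) from
        (range_comap_of_surjective _ _ Ideal.Quotient.mk_surjective).trans
          (congrArg (fun I : Ideal R => PrimeSpectrum.zeroLocus (I : Set R)) Ideal.mk_ker),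
      hw, PrimeSpectrum.mem_zeroLocus, ← hm]
    exact subset_rfl
  obtain ⟨y, rfl⟩ := hwr
  obtain ⟨i, hi⟩ := Opens.mem_iSup.1 (hcov.ge (Opens.mem_top (f y)))
  refine Opens.mem_iSup.2 ⟨i, ?_⟩
  show y ∈ f ⁻¹ᵁ W.basicOpen (v i)
  rw [Scheme.preimage_basicOpen, Scheme.basicOpen_of_isUnit _ (hvu i)]
  exact hi

theorem exists_section_clear [Finite ι] {K : CommRingCat.{u}} (g : R ⟶ K) (hg : Function.Injective g.hom)
    (hden : ∀ b : K, ∃ r s, s ∈ nonZeroDivisors R ∧ b * g s = g r) [Flat ξ]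
    {Y : Scheme.{u}} {η : Y ⟶ Spec K} {f : Y ⟶ W} (hsq : IsPullback f η ξ (Spec.map g)) (c : Coc W ι)
    (hV : ∀ i, IsAffineOpen (c.V i)) (hI : ∀ i j, IsAffineOpen (c.V i ⊓ c.V j))
    {v' : ∀ i, Γ(Y, f ⁻¹ᵁ c.V i)} (hv' : (c.pull f).Compat v') :
    ∃ a ∈ nonZeroDivisors R, ∃ v, c.Compat v ∧
      ∀ i, f.app (c.V i) (v i) = ringMap η (f ⁻¹ᵁ c.V i) (g a) * v' i := by
  classical
  haveI := Fintype.ofFinite ι
  choose a ha x hx using fun i => exists_clear_denom ξ g (nonZeroDivisors R) hden hsq (hV i) (v' i)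
  let b : ι → R := fun i => ∏ j ∈ Finset.univ.erase i, a j
  have hab : ∀ i, a i * b i = ∏ j, a j := fun i => Finset.mul_prod_erase _ _ (Finset.mem_univ i)
  have key : ∀ i, f.app (c.V i) (ringMap ξ (c.V i) (b i) * x i) =
      ringMap η (f ⁻¹ᵁ c.V i) (g (∏ j, a j)) * v' i := fun i => by
    rw [map_mul, app_ringMap g hsq.toCommSq, hx, ← mul_assoc, ← map_mul, ← map_mul, mul_comm (b i), hab]
  refine ⟨∏ j, a j, prod_mem fun j _ => ha j, fun i => ringMap ξ (c.V i) (b i) * x i, fun i j => ?_, key⟩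
  refine app_injective g hsq (hI i j) hg ?_
  dsimp only
  rw [map_mul (f.app (c.V i ⊓ c.V j)).hom (c.g i j), app_rs, app_rs, key, key, map_mul, map_mul, rs_ringMap, rs_ringMap]
  have h1 : rs (f.preimage_mono inf_le_left) (v' i) =
      f.app _ (c.g i j) * rs (f.preimage_mono inf_le_right) (v' j) := hv' i j
  linear_combination (ringMap η (f ⁻¹ᵁ (c.V i ⊓ c.V j)) (g (∏ j, a j))) * h1

/-- A family which is trivial on the generic fibre and on a slice through the components of the special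
fibre is trivial. -/
theorem trivial_of_generic [Flat ξ] [IsLocallyNoetherian W] [IsDomain R] [IsLocalRing R] [IsNoetherianRing R]
    [Finite ι] (c : Coc W ι) (hcov : ⨆ i, c.V i = ⊤) (hV : ∀ i, IsAffineOpen (c.V i))
    (hI : ∀ i j, IsAffineOpen (c.V i ⊓ c.V j))
    (π : R) (hπ : π ≠ 0) (hm : IsLocalRing.maximalIdeal R = Ideal.span {π})
    {W₀ : Scheme.{u}} [IsReduced W₀] {η₀ : W₀ ⟶ Spec (CommRingCat.of (R ⧸ Ideal.span {π}))} {f : W₀ ⟶ W}
    (hsq : IsPullback f η₀ ξ (quotBase (Ideal.span {π})))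
    {K : Type u} [Field K] (g : R ⟶ CommRingCat.of K) (hg : Function.Injective g.hom)
    (hden : ∀ b : K, ∃ r s, s ∈ nonZeroDivisors R ∧ b * g s = g r)
    {Y : Scheme.{u}} {η : Y ⟶ Spec (CommRingCat.of K)} {fK : Y ⟶ W} (hsqK : IsPullback fK η ξ (Spec.map g))
    {T : Scheme.{u}} (ρ : T ⟶ Spec R) (hT : Function.Surjective (ringMap ρ ⊤).hom)
    (σ : Spec R ⟶ T) (hσ : σ ≫ ρ = 𝟙 _) (j : T ⟶ W) (hj : j ≫ ξ = ρ) (hτ : (c.pull j).Trivial)
    (hpt : ∀ x : W₀, IsMaxPt x → ∃ (p : W₀) (t : T), j t = f p ∧ x ⤳ p ∧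
      ∀ x', x' ⤳ p → IsMaxPt x' → x' = x)
    (hK : (c.pull fK).Trivial) : c.Trivial := by
  haveI : IsClosedImmersion (quotBase (Ideal.span {π})) := IsClosedImmersion.spec_of_surjective _ Ideal.Quotient.mk_surjective
  haveI : IsClosedImmersion f := MorphismProperty.of_isPullback hsq.flip inferInstance
  obtain ⟨v', hv', hv'u⟩ := hK
  change ∀ i, Γ(Y, fK ⁻¹ᵁ c.V i) at v'
  obtain ⟨a, ha, v, hv, hva⟩ := exists_section_clear ξ g hg hden hsqK c hV hI hv'
  obtain ⟨τ', hτ', hτ'u⟩ := Coc.Trivial.inv hτ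
  change ∀ i, Γ(T, j ⁻¹ᵁ c.V i) at τ'
  have hcovT : ⨆ i, (c.pull j).V i = ⊤ := by
    show ⨆ i, j ⁻¹ᵁ c.V i = ⊤
    rw [← Scheme.Hom.preimage_iSup, hcov]; rfl
  have hga : IsUnit (g a) :=
    isUnit_iff_ne_zero.2 fun h => nonZeroDivisors.ne_zero ha (hg (h.trans (map_zero g.hom).symm))
  have hgen : ∀ i, IsUnit (fK.app (c.V i) (v i)) := fun i => by
    rw [hva]; exact (hga.map (ringMap η _).hom).mul (hv'u i)
  clear hva hv' hv'u v'
  -- the value on the slice
  have hval : ∀ w : ∀ i, Γ(W, c.V i), c.Compat w →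
      ∃ r, ∀ i, ringMap ρ (j ⁻¹ᵁ c.V i) r = j.app (c.V i) (w i) * τ' i := fun w hw => by
    obtain ⟨G, hG⟩ := (c.pull j).exists_glue_mul hcovT (hw.pull j) hτ'
    obtain ⟨r, rfl⟩ := hT G
    exact ⟨r, fun i => (rs_ringMap _ r).symm.trans (hG i)⟩
  have hinjT : Function.Injective (ringMap ρ ⊤).hom := fun a b h => by
    refine (bijective_ringMap_id R).1 ?_
    have h1 := congrArg (σ.app ⊤) h
    rwa [app_ringMap (𝟙 R) (η := 𝟙 (Spec R)) ⟨by rw [hσ, Spec.map_id, Category.comp_id]⟩,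
      app_ringMap (𝟙 R) (η := 𝟙 (Spec R)) ⟨by rw [hσ, Spec.map_id, Category.comp_id]⟩] at h1
  have hjξ : ∀ (U : W.Opens) (b : R), j.app U (ringMap ξ U b) = ringMap ρ (j ⁻¹ᵁ U) b := fun U b =>
    app_ringMap (𝟙 R) (η := ρ) ⟨by rw [hj, Spec.map_id, Category.comp_id]⟩ U b
  have hdvd : ∀ {U : W.Opens}, IsAffineOpen U → ∀ (z : Γ(W, U)), f.app U z = 0 → ∃ y, z = ringMap ξ U π * y :=
    fun {U} hU z hz => by
      have h := mem_map_ker_of_app_eq_zero _ hsq hU z hz
      rw [ker_mk_eq, map_span_ringMap, Ideal.mem_span_singleton] at h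
      exact h
  have hspec : ∀ (p : W₀) (U : W.Opens) (b : R), b ∈ IsLocalRing.maximalIdeal R →
      f p ∉ W.basicOpen (ringMap ξ U b) := fun p U b hb hp => by
    have h0 : f.app U (ringMap ξ U b) = 0 := by
      rw [hm] at hb
      rw [app_ringMap _ hsq.toCommSq, show (CommRingCat.ofHom (Ideal.Quotient.mk (Ideal.span {π}))) b = 0 from
        Ideal.Quotient.eq_zero_iff_mem.2 hb, map_zero]
    have hp' : p ∈ f ⁻¹ᵁ W.basicOpen (ringMap ξ U b) := hp
    rw [Scheme.preimage_basicOpen, h0, Scheme.basicOpen_zero] at hp'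
    exact hp'
  -- a section with generic unit divides a nonzero constant
  have hconst : ∀ w : ∀ i, Γ(W, c.V i), (∀ i, IsUnit (fK.app (c.V i) (w i))) → ∀ i,
      ∃ s, s ≠ 0 ∧ ∃ y, ringMap ξ (c.V i) s = w i * y := fun w hw i => by
    obtain ⟨y', hy'⟩ := (hw i).exists_right_inv
    obtain ⟨s, hs, y, hy⟩ := exists_clear_denom ξ g (nonZeroDivisors R) hden hsqK (hV i) y'
    refine ⟨s, nonZeroDivisors.ne_zero hs, y, app_injective g hsqK (hV i) hg ?_⟩
    rw [map_mul, app_ringMap g hsqK.toCommSq, hy, mul_left_comm, hy', mul_one]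
  -- a zero has a generalisation which is maximal in the special fibre
  have hzero : ∀ w : ∀ i, Γ(W, c.V i), c.Compat w → (∀ i, IsUnit (fK.app (c.V i) (w i))) → ∀ z, z ∉ c.NV w →
      ∃ x : W₀, IsMaxPt x ∧ f x ⤳ z ∧ f x ∉ c.NV w := fun w hw hgw z hz => by
    obtain ⟨i, hi⟩ := Opens.mem_iSup.1 (hcov.ge (Opens.mem_top z))
    haveI : IsNoetherianRing Γ(W, c.V i) := IsLocallyNoetherian.component_noetherian ⟨c.V i, hV i⟩
    obtain ⟨P, hP⟩ : ∃ P, (hV i).fromSpec P = z := ⟨_, (hV i).fromSpec_primeIdealOf ⟨z, hi⟩⟩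
    have hmem : ∀ (Q : PrimeSpectrum Γ(W, c.V i)) (b : Γ(W, c.V i)),
        (hV i).fromSpec Q ∈ W.basicOpen b ↔ b ∉ Q.asIdeal := fun Q b => by
      have e := (hV i).fromSpec_preimage_basicOpen b
      exact ⟨fun h => by
        have : Q ∈ (hV i).fromSpec ⁻¹ᵁ W.basicOpen b := h
        rwa [e] at this, fun h => by
        show Q ∈ (hV i).fromSpec ⁻¹ᵁ W.basicOpen b
        rw [e]; exact h⟩
    have hwP : w i ∈ P.asIdeal := by
      by_contra h
      exact hz ((Coc.mem_NV hw hi).2 (hP ▸ (hmem P _).2 h))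
    obtain ⟨q, hq, hqP⟩ := Ideal.exists_minimalPrimes_le (I := Ideal.span {w i}) (J := P.asIdeal)
      ((Ideal.span_singleton_le_iff_mem _).2 hwP)
    haveI : q.IsPrime := hq.1.1
    have hwq : w i ∈ q := hq.1.2 (Ideal.mem_span_singleton_self _)
    have hπq : ringMap ξ (c.V i) π ∈ q := by
      obtain ⟨s, hs0, y, hy⟩ := hconst w hgw i
      have hsq' : ringMap ξ (c.V i) s ∈ q := by rw [hy]; exact q.mul_mem_right _ hwq
      by_contra hπq
      have key : ∀ s : R, s ≠ 0 → ringMap ξ (c.V i) s ∉ q := fun s => by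
        induction s using (IsWellFounded.wf (r := (DvdNotUnit : R → R → Prop))).induction with
        | _ s IH =>
          intro hs h
          by_cases hu : IsUnit s
          · exact (Ideal.IsPrime.ne_top ‹_›) (Ideal.eq_top_of_isUnit_mem _ h (hu.map (ringMap ξ (c.V i)).hom))
          · obtain ⟨s', rfl⟩ := Ideal.mem_span_singleton.1 (hm ▸ (show s ∈ IsLocalRing.maximalIdeal R from hu))
            have hs' : s' ≠ 0 := right_ne_zero_of_mul hs
            rw [map_mul] at h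
            refine IH s' ⟨hs', π, ?_, mul_comm π s'⟩ hs' ((Ideal.IsPrime.mem_or_mem ‹_› h).resolve_left hπq)
            exact fun hπu => (IsLocalRing.maximalIdeal.isMaximal R).ne_top
              (hm ▸ Ideal.span_singleton_eq_top.2 hπu)
      exact key s hs0 hsq'
    let Q : PrimeSpectrum Γ(W, c.V i) := ⟨q, ‹_›⟩
    have hQz : (hV i).fromSpec Q ⤳ z := hP ▸
      ((PrimeSpectrum.le_iff_specializes Q P).1 hqP).map (hV i).fromSpec.continuous
    have hQV : (hV i).fromSpec Q ∈ c.V i := by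
      have : (hV i).fromSpec Q ∈ Set.range (hV i).fromSpec := ⟨Q, rfl⟩
      rwa [(hV i).range_fromSpec] at this
    have hQf : (hV i).fromSpec Q ∈ Set.range f := by
      have hrange : Set.range f = ξ ⁻¹' Set.range (quotBase (Ideal.span {π})) := by
        rw [← hsq.isoPullback_hom_fst, ← Scheme.Pullback.range_fst, Scheme.Hom.comp_base, TopCat.coe_comp,
          Set.range_comp, Set.range_eq_univ.2 hsq.isoPullback.hom.surjective, Set.image_univ]
      rw [hrange]
      show ξ ((hV i).fromSpec Q) ∈ Set.range (quotBase (Ideal.span {π}))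
      rw [show Set.range (quotBase (Ideal.span {π})) = PrimeSpectrum.zeroLocus (Ideal.span {π} : Ideal R) from
          (range_comap_of_surjective _ _ Ideal.Quotient.mk_surjective).trans
            (congrArg (fun I : Ideal R => PrimeSpectrum.zeroLocus (I : Set R)) Ideal.mk_ker),
        PrimeSpectrum.mem_zeroLocus, SetLike.coe_subset_coe, Ideal.span_singleton_le_iff_mem]
      by_contra hne
      exact (hmem Q _).1 (mem_basicOpen_ringMap ξ hQV hne) hπq
    obtain ⟨x, hx⟩ := hQf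
    refine ⟨x, fun x' hx' => ?_, hx ▸ hQz, fun h => ?_⟩
    · have h1 : f x' ⤳ (hV i).fromSpec Q := hx ▸ hx'.map f.continuous
      obtain ⟨Q', hQ'⟩ : f x' ∈ Set.range (hV i).fromSpec := by
        rw [(hV i).range_fromSpec]; exact h1.mem_open (c.V i).isOpen hQV
      have hle : Q'.asIdeal ≤ q := (PrimeSpectrum.le_iff_specializes Q' Q).2
        (((hV i).fromSpec.isOpenEmbedding.isInducing.specializes_iff).1 (hQ'.symm ▸ h1))
      have hπ' : ringMap ξ (c.V i) π ∈ Q'.asIdeal := by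
        by_contra h
        exact hspec x' _ π (hm ▸ Ideal.mem_span_singleton_self π) (hQ' ▸ (hmem Q' _).2 h)
      have heq : Q'.asIdeal = q := by
        by_contra hne
        haveI := Q'.isPrime
        have hh : q.height ≤ 1 := Ideal.height_le_one_of_isPrincipal_of_mem_minimalPrimes _ q hq
        have hmin : Q'.asIdeal ∈ minimalPrimes Γ(W, c.V i) :=
          Ideal.height_eq_zero_iff.1 ( Order.lt_one_iff.1 ((Ideal.height_strict_mono_of_isPrime
              (lt_of_le_of_ne hle hne)).trans_le hh))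
        refine Ideal.disjoint_nonZeroDivisors_of_mem_minimalPrimes hmin |>.le_bot ⟨hπ', ?_⟩
        exact mem_nonZeroDivisors_iff_right.2 fun y hy =>
          eq_zero_of_ringMap_mul ξ (hV i) hπ (by rw [mul_comm]; exact hy)
      have hQQ : Q' = Q := PrimeSpectrum.ext heq
      exact f.isEmbedding.injective (by rw [hx, ← hQQ, hQ'])
    · rw [hx] at h
      exact (hmem Q _).1 ((Coc.mem_NV hw hQV).1 h) hwq
  have hmain : ∀ r : R, ∀ w : ∀ i, Γ(W, c.V i), c.Compat w → (∀ i, IsUnit (fK.app (c.V i) (w i))) →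
      (∀ i, ringMap ρ (j ⁻¹ᵁ c.V i) r = j.app (c.V i) (w i) * τ' i) → r ≠ 0 → c.Trivial := fun r => by
    induction r using (IsWellFounded.wf (r := (DvdNotUnit : R → R → Prop))).induction with
    | _ r IH =>
      intro w hw hgw hr hr0
      have hslice : ∀ t : T, j t ∈ c.NV w ↔ ∃ i, t ∈ T.basicOpen (ringMap ρ (j ⁻¹ᵁ c.V i) r) := fun t => by
        rw [Coc.NV, Opens.mem_iSup]
        refine exists_congr fun i => ?_
        rw [hr i, Scheme.basicOpen_mul, Scheme.basicOpen_of_isUnit _ (hτ'u i), ← Scheme.preimage_basicOpen,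
          inf_eq_left.2 (j.preimage_mono (W.basicOpen_le _))]
        rfl
      by_cases hu : IsUnit r
      · refine ⟨w, hw, Coc.isUnit_of_NV hw fun z => ?_⟩
        by_contra hz
        obtain ⟨x, hx, -, hxn⟩ := hzero w hw hgw z hz
        obtain ⟨p, t, hpt', hxp, -⟩ := hpt x hx
        obtain ⟨i, hi⟩ := Opens.mem_iSup.1 (hcov.ge (Opens.mem_top (j t)))
        have ht : j t ∈ c.NV w := (hslice t).2 ⟨i, by
          rw [Scheme.basicOpen_of_isUnit _ (hu.map (ringMap ρ _).hom)]; exact hi⟩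
        rw [hpt'] at ht
        exact hxn ((hxp.map f.continuous).mem_open (c.NV w).isOpen ht)
      · obtain ⟨r', rfl⟩ := Ideal.mem_span_singleton.1 (hm ▸ (show r ∈ IsLocalRing.maximalIdeal R from hu))
        have hall : ∀ i, f.app (c.V i) (w i) = 0 := fun i => by
          rw [← basicOpen_eq_bot_iff, ← Scheme.preimage_basicOpen, eq_bot_iff]
          intro y hy
          obtain ⟨x, hx, hxy⟩ := exists_isMaxPt y
          have hfx : f x ∈ W.basicOpen (w i) := (hxy.map f.continuous).mem_open (W.basicOpen (w i)).isOpen hy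
          obtain ⟨p, t, hpt', -, huniq⟩ := hpt x hx
          have hp : f p ∉ c.NV w := by
            rw [← hpt', hslice]
            rintro ⟨l, hl⟩
            rw [← hjξ, ← Scheme.preimage_basicOpen] at hl
            have hl' : j t ∈ W.basicOpen (ringMap ξ (c.V l) (π * r')) := hl
            rw [hpt'] at hl'
            exact hspec p _ _ hu hl'
          obtain ⟨x', hx', hx'p, hx'n⟩ := hzero w hw hgw _ hp
          rw [huniq x' (f.isEmbedding.isInducing.specializes_iff.1 hx'p) hx'] at hx'n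
          exact (hx'n (Opens.mem_iSup.2 ⟨i, hfx⟩)).elim
        choose w' hw' using fun i => hdvd (hV i) (w i) (hall i)
        have hc' : c.Compat w' := fun i i' => sub_eq_zero.1 <| eq_zero_of_ringMap_mul ξ (hI i i') hπ (by
          have h1 := hw i i'
          rw [hw' i, hw' i', map_mul, map_mul, rs_ringMap, rs_ringMap] at h1
          linear_combination h1)
        obtain ⟨r'', hr''⟩ := hval w' hc'
        have hrr : π * r'' = π * r' := by
          refine hinjT ?_
          refine TopCat.Sheaf.eq_of_locally_eq' T.sheaf (fun i => j ⁻¹ᵁ c.V i) ⊤ (fun i => homOfLE le_top)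
            hcovT.ge _ _ fun i => ?_
          show rs le_top (ringMap ρ ⊤ (π * r'')) = rs le_top (ringMap ρ ⊤ (π * r'))
          rw [rs_ringMap, rs_ringMap, hr i, hw' i, map_mul, hr'' i, map_mul, hjξ, mul_assoc]
        have hπu : ¬ IsUnit π := fun hπu => (IsLocalRing.maximalIdeal.isMaximal R).ne_top
          (hm ▸ Ideal.span_singleton_eq_top.2 hπu)
        rw [mul_left_cancel₀ hπ hrr] at hr''
        have hr'0 : r' ≠ 0 := right_ne_zero_of_mul hr0
        refine IH r' ⟨hr'0, π, hπu, mul_comm π r'⟩ w' hc' (fun i => ?_) hr'' hr'0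
        have h1 := hgw i
        rw [hw' i, map_mul] at h1
        exact isUnit_of_mul_isUnit_right h1
  obtain ⟨r, hr⟩ := hval v hv
  refine hmain r v hv hgen hr fun hr0 => ?_
  obtain ⟨i, hi⟩ := Opens.mem_iSup.1 (hcovT.ge (Opens.mem_top (σ (IsLocalRing.closedPoint R))))
  obtain ⟨s, hs0, y, hy⟩ := hconst v hgen i
  have h0 : j.app (c.V i) (v i) = 0 :=
    ((hτ'u i).mul_left_eq_zero).1 (by rw [← hr i, hr0, map_zero])
  have h1 : ringMap ρ (j ⁻¹ᵁ c.V i) s = 0 := by rw [← hjξ, hy, map_mul, h0, zero_mul]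
  have htop : (⊤ : (Spec R).Opens) ≤ σ ⁻¹ᵁ (j ⁻¹ᵁ c.V i) := fun z _ =>
    (IsLocalRing.specializes_closedPoint z).mem_open (σ ⁻¹ᵁ (j ⁻¹ᵁ c.V i)).isOpen hi
  have h2 := congrArg (rs htop) (congrArg (σ.app _) h1)
  rw [app_ringMap (𝟙 R) (η := 𝟙 (Spec R)) ⟨by rw [hσ, Spec.map_id, Category.comp_id]⟩, map_zero, map_zero,
    rs_ringMap] at h2
  exact hs0 ((bijective_ringMap_id R).1 (h2.trans (map_zero _).symm))

end Groth.Agent.CubeField
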