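import Groth.Agent.Lib.CubeField.Dichotomy
import Groth.Agent.Lib.CubeField.DivSection
import Groth.Agent.Lib.SecDiv18.Peel

/-!
# Effective divisors on abelian varieties
-/

universe u

open CategoryTheory Limits MonoidalCategory CartesianMonoidalCategory AlgebraicGeometry
  TopologicalSpace

set_option linter.style.haveILetI false
set_option backward.isDefEq.respectTransparency false

open scoped MonObj GrpObj

namespace Groth.Agent.CubeField

noncomputable local instance instLawE (Y : Scheme.{u}) : PicGrp.Law Y := M2.law Y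

/-- The inverse of the ideal of an effective Cartier divisor on an irreducible scheme has a section with dense
locus, the complement of the divisor. -/
theorem exists_section_of_inverse {X : Scheme.{u}} [IrreducibleSpace X] {I : X.IdealSheafData}
    (hI : BlowUp.IsEffCartierIdeal I) {L : X.Modules} (hLI : ClSub.IsInverseOf L (ClSub.idealMod I)) :
    ∃ s : Coh.structureModule X ⟶ L, (CohB1.genLocus L s : Set X) = (I.support : Set X)ᶜ ∧
      (CohB1.genLocus L s : Set X).Nonempty := by
  obtain ⟨N, hN, ⟨e⟩, s, hs⟩ := exists_inverse_section_of_effCartier hI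
  obtain ⟨e'⟩ := hLI
  let i := M2.inverseUnique e (M2.tensorComm _ _ ≪≫ e')
  refine ⟨s ≫ i.hom, by rw [Amp.genLocus_comp_iso i s, hs], genericPoint X, ?_⟩
  rw [SetLike.mem_coe, Amp.genLocus_comp_iso i s, ← SetLike.mem_coe, hs]
  intro hg
  obtain ⟨y, hy, hne⟩ := SecDiv.exists_proper_generisation hI hg
  exact hne (hy.antisymm (genericPoint_specializes y)).eq

variable {k : Type u} [Field k] [IsAlgClosed k] {A : Over (Spec (CommRingCat.of k))} [GrpObj A]
  [IsProper A.hom] [GeometricallyIntegral A.hom] {N : A.left.Modules}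

omit [IsAlgClosed k] [GrpObj A] [IsProper A.hom] [GeometricallyIntegral A.hom] in
/-- A module is trivial on a scheme mapping into the locus of one of its sections. -/
theorem P_eq_one_of_range_subset (hN : PicF.IsInvertible N) (s : Coh.structureModule A.left ⟶ N)
    {B : Over (Spec (CommRingCat.of k))} (j : B ⟶ A)
    (h : ∀ y, j.left y ∈ CohB1.genLocus N s) : P N hN j ^ 1 = 1 := by
  rw [pow_one]
  refine Subtype.ext ((PicGrp.cl_eq_cl_iff _ _).2 ?_)
  obtain ⟨σ, hσ⟩ := (hasSec_one s).pullback j.left hN
  let e1 := M2.tensorPowOne ((Scheme.Modules.pullback j.left).obj N)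
  refine Twist.nonempty_iso_of_generator _ (Amp.gval (σ ≫ e1.hom))
    (fun V => (Twist.isGen_of_stalk fun y _ => ?_) V le_top)
  refine (Amp.mem_genLocus_iff (PicLoc.isInvertible_pullback _ hN) (σ ≫ e1.hom) (x := y)).1 ?_
  rw [Amp.genLocus_comp_iso e1 σ, hσ]
  exact h y

/-- If only finitely many translations fix every component of the complement of the locus, the module is ample. -/
theorem isAmple_of_finite_componentStabilizer (hfin : FinH1.{u}) (hN : PicF.IsInvertible N)
    (s : Coh.structureModule A.left ⟶ N) (hne : (CohB1.genLocus N s : Set A.left).Nonempty)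
    (hb : {a : 𝟙_ (Over (Spec (CommRingCat.of k))) ⟶ A |
      ∀ E : Set A.left, IsClosed E → IsIrreducible E → E ⊆ (CohB1.genLocus N s : Set A.left)ᶜ →
        (∀ T : Set A.left, IsClosed T → IsIrreducible T → T ⊆ (CohB1.genLocus N s : Set A.left)ᶜ → E ⊆ T → T = E) →
          (trans₁ a).left '' E = E}.Finite) :
    CohB1.IsAmple N := by
  refine (isAmple_or_exists_contracted hfin hN s hne).resolve_right ?_
  rintro ⟨B, hBp, hBi, j, hj, hinf, hP⟩
  haveI := hBp
  haveI := hBi
  haveI := hj
  obtain ⟨x₀, hx₀⟩ := hinf.nonempty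
  obtain ⟨x, rfl⟩ := exists_rpt hx₀
  refine hinf ((hb.image fun a => rpt (a * (x ≫ j))).preimage j.left.isClosedEmbedding.injective.injOn |>.subset ?_)
  intro w hw
  obtain ⟨y, rfl⟩ := exists_rpt hw
  refine ⟨(y ≫ j) * (x ≫ j)⁻¹, fun E hEc hEi hEs hEm =>
    image_trans₁_eq hfin s hne j two_pos hP hEc hEi hEs hEm x y, ?_⟩
  simp only [inv_mul_cancel_right, rpt_comp]

end Groth.Agent.CubeField
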