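import Groth.Agent.Lib.CubeField.BaseChange
import Groth.Agent.Lib.RigidRel.H0Geom
import Mathlib.LinearAlgebra.TensorProduct.Pi

/-!
# Functions on products of affine opens over a field
-/

universe u

open CategoryTheory Limits AlgebraicGeometry TopologicalSpace Opposite TensorProduct

set_option linter.style.haveILetI false
set_option backward.isDefEq.respectTransparency false

namespace Groth.Agent.CubeField

open RigidRel

variable {k : Type u} [Field k] {X Y W : Scheme.{u}} (pX : X ⟶ Spec (CommRingCat.of k))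
  (pY : Y ⟶ Spec (CommRingCat.of k)) (q₁ : W ⟶ X) (q₂ : W ⟶ Y)

/-- Functions on an open of a scheme over `k`, as a type. -/
def Fn (_ : X ⟶ Spec (CommRingCat.of k)) (U : X.Opens) : Type u := Γ(X, U)

noncomputable instance (U : X.Opens) : CommRing (Fn pX U) := inferInstanceAs (CommRing Γ(X, U))

noncomputable instance (U : X.Opens) : Algebra k (Fn pX U) := (ringMap pX U).hom.toAlgebra

/-- An element of `Fn pX U` as a function. -/
abbrev toΓ {pX : X ⟶ Spec (CommRingCat.of k)} {U : X.Opens} (z : Fn pX U) : Γ(X, U) := z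

theorem algebraMap_fn (U : X.Opens) (a : k) : algebraMap k (Fn pX U) a = ringMap pX U a := rfl

theorem smul_fn (U : X.Opens) (a : k) (z : Fn pX U) :
    a • z = (show Fn pX U from ringMap pX U a) * z := rfl

/-- Restriction, linearly. -/
noncomputable def resL {U V : X.Opens} (h : V ≤ U) : Fn pX U →ₗ[k] Fn pX V where
  toFun z := (rs h (toΓ z) : Γ(X, V))
  map_add' := map_add (rs h)
  map_smul' a z := by
    show rs h (ringMap pX U a * (toΓ z)) = ringMap pX V a * rs h (toΓ z)
    rw [map_mul, rs_ringMap]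

/-- The box `q₁⁻¹U ⊓ q₂⁻¹U'`. -/
abbrev box (U : X.Opens) (U' : Y.Opens) : W.Opens := q₁ ⁻¹ᵁ U ⊓ q₂ ⁻¹ᵁ U'

variable (hsq : IsPullback q₁ q₂ pX pY)

include hsq in
theorem isAffineOpen_box {U : X.Opens} {U' : Y.Opens} (hU : IsAffineOpen U) (hU' : IsAffineOpen U') :
    IsAffineOpen (box q₁ q₂ U U') := by
  have : IsAffine (U : Scheme.{u}) := hU
  have : IsAffine (U' : Scheme.{u}) := hU'
  haveI : IsAffine ((⊤ : (Spec (CommRingCat.of k)).Opens) : Scheme.{u}) := isAffineOpen_top _
  exact .of_isIso (Scheme.Hom.isPullback_resLE hsq (US := ⊤) (UT := U') (UX := U) le_top le_top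
    (UY := box q₁ q₂ U U') rfl).isoPullback.hom

/-- The product of a function on `U'` and a function on `U`. -/
noncomputable def mulBox {U : X.Opens} {U' : Y.Opens} (φ : Fn pY U') (z : Fn pX U) : Γ(W, box q₁ q₂ U U') :=
  rs inf_le_right (q₂.app U' (toΓ φ)) * rs inf_le_left (q₁.app U (toΓ z))

include hsq in
theorem mulBox_balanced {U : X.Opens} {U' : Y.Opens} (a : k) (φ : Fn pY U') (z : Fn pX U) :
    mulBox pX pY q₁ q₂ (a • φ) z = mulBox pX pY q₁ q₂ φ (a • z) := by
  show rs inf_le_right (q₂.app U' (ringMap pY U' a * (toΓ φ))) * _ =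
    _ * rs inf_le_left (q₁.app U (ringMap pX U a * (toΓ z)))
  have e : ∀ {T : Scheme.{u}} (pT : T ⟶ Spec (CommRingCat.of k)) (t : W ⟶ T) (V : T.Opens) (a : k),
      t.app V (ringMap pT V a) = ringMap (t ≫ pT) (t ⁻¹ᵁ V) a := fun pT t V a =>
    app_ringMap (𝟙 _) (ξ := pT) (η := t ≫ pT) (f := t) ⟨by rw [Spec.map_id, Category.comp_id]⟩ V a
  rw [map_mul, map_mul, map_mul, map_mul, e pY q₂, e pX q₁, rs_ringMap, rs_ringMap, hsq.w]
  ring

/-- `O(U') ⊗ O(U) → O(U × U')`. -/
noncomputable def tens (U : X.Opens) (U' : Y.Opens) : Fn pY U' ⊗[k] Fn pX U →+ Γ(W, box q₁ q₂ U U') :=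
  TensorProduct.liftAddHom
    (AddMonoidHom.mk' (fun φ => AddMonoidHom.mk' (fun z => mulBox pX pY q₁ q₂ φ z) fun z z' => by
        show _ * rs _ (q₁.app U ((toΓ z) + (toΓ z'))) = _
        rw [map_add, map_add, mul_add]; rfl)
      fun φ φ' => AddMonoidHom.ext fun z => by
        show rs _ (q₂.app U' ((toΓ φ) + (toΓ φ'))) * _ = _
        rw [map_add, map_add, add_mul]; rfl)
    fun a φ z => mulBox_balanced pX pY q₁ q₂ hsq a φ z

theorem tens_tmul (U : X.Opens) (U' : Y.Opens) (φ : Fn pY U') (z : Fn pX U) :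
    tens pX pY q₁ q₂ hsq U U' (φ ⊗ₜ z) = mulBox pX pY q₁ q₂ φ z := rfl

theorem bijective_tens {U : X.Opens} {U' : Y.Opens} (hU : IsAffineOpen U) (hU' : IsAffineOpen U') :
    Function.Bijective (tens pX pY q₁ q₂ hsq U U') := by
  have h := isIso_pushoutSection_of_isAffineOpen hsq (US := ⊤) (UT := U') (UX := U) (UY := box q₁ q₂ U U')
    le_top le_top rfl (isAffineOpen_top _) hU' hU
  replace h := (isIso_pushoutSection_iff _ _ _ _).mp h
  have hpo : IsPushout (ringMap pX U) (ringMap pY U') (q₁.appLE U (box q₁ q₂ U U') inf_le_left)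
      (q₂.appLE U' (box q₁ q₂ U U') inf_le_right) := by
    refine h.of_iso (Scheme.ΓSpecIso _) (Iso.refl _) (Iso.refl _) (Iso.refl _) ?_ ?_ ?_ ?_
    · simp only [Iso.refl_hom, Category.comp_id]
      rw [ringMap, Iso.hom_inv_id_assoc]
    · simp only [Iso.refl_hom, Category.comp_id]
      rw [ringMap, Iso.hom_inv_id_assoc]
    · simp only [Iso.refl_hom, Category.comp_id, Category.id_comp]
    · simp only [Iso.refl_hom, Category.comp_id, Category.id_comp]
  let G : Type u := Γ(W, box q₁ q₂ U U')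
  letI : Algebra (Fn pX U) G := (q₁.appLE U (box q₁ q₂ U U') inf_le_left).hom.toAlgebra
  letI : Algebra (Fn pY U') G := (q₂.appLE U' (box q₁ q₂ U U') inf_le_right).hom.toAlgebra
  letI : Algebra k G := ((q₂.appLE U' (box q₁ q₂ U U') inf_le_right).hom.comp (ringMap pY U').hom).toAlgebra
  haveI hT : IsScalarTower k (Fn pY U') G := .of_algebraMap_eq' rfl
  haveI : IsScalarTower k (Fn pX U) G := .of_algebraMap_eq fun a => (ConcreteCategory.congr_hom hpo.w a).symm
  have hpo' : IsPushout (CommRingCat.ofHom (algebraMap k (Fn pX U))) (CommRingCat.ofHom (algebraMap k (Fn pY U')))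
      (CommRingCat.ofHom (algebraMap (Fn pX U) G)) (CommRingCat.ofHom (algebraMap (Fn pY U') G)) := hpo
  haveI : Algebra.IsPushout k (Fn pX U) (Fn pY U') G := CommRingCat.isPushout_iff_isPushout.mp hpo'
  haveI hp : Algebra.IsPushout k (Fn pY U') (Fn pX U) G := Algebra.IsPushout.symm inferInstance
  have e : (tens pX pY q₁ q₂ hsq U U' : Fn pY U' ⊗[k] Fn pX U → Γ(W, box q₁ q₂ U U')) = hp.out.equiv := by
    funext t
    induction t using TensorProduct.induction_on with
    | zero => rw [map_zero]; exact (map_zero hp.out.equiv).symm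
    | add a b ha hb => rw [map_add, ha, hb]; exact (map_add hp.out.equiv a b).symm
    | tmul φ z =>
      rw [IsBaseChange.equiv_tmul, tens_tmul, Algebra.smul_def]
      show _ = q₂.appLE U' (box q₁ q₂ U U') inf_le_right φ * q₁.appLE U (box q₁ q₂ U U') inf_le_left z
      simp only [mulBox, Scheme.Hom.appLE]
      rfl
  rw [e]
  exact hp.out.equiv.bijective

theorem rs_mulBox {U V : X.Opens} {U' V' : Y.Opens} (h : V ≤ U) (h' : V' ≤ U') (φ : Fn pY U') (z : Fn pX U) :
    rs (inf_le_inf (q₁.preimage_mono h) (q₂.preimage_mono h')) (mulBox pX pY q₁ q₂ φ z) =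
      mulBox pX pY q₁ q₂ (resL pY h' φ) (resL pX h z) := by
  show rs _ (_ * _) = rs inf_le_right (q₂.app V' (rs h' (toΓ φ))) *
    rs inf_le_left (q₁.app V (rs h (toΓ z)))
  rw [map_mul, app_rs, app_rs, rs_rs, rs_rs, rs_rs, rs_rs]

theorem rs_tens {U V : X.Opens} {U' V' : Y.Opens} (h : V ≤ U) (h' : V' ≤ U')
    (t : Fn pY U' ⊗[k] Fn pX U) :
    rs (inf_le_inf (q₁.preimage_mono h) (q₂.preimage_mono h')) (tens pX pY q₁ q₂ hsq U U' t) =
      tens pX pY q₁ q₂ hsq V V' (TensorProduct.map (resL pY h') (resL pX h) t) := by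
  induction t using TensorProduct.induction_on with
  | zero => simp only [map_zero]
  | add a b ha hb => simp only [map_add, ha, hb]
  | tmul φ z => rw [TensorProduct.map_tmul, tens_tmul, tens_tmul, rs_mulBox]

/-- Components of a tensor with cochains. -/
noncomputable def tensFam {α : Type} (U : α → X.Opens) (U' : Y.Opens) :
    Fn pY U' ⊗[k] (∀ a, Fn pX (U a)) →+ ∀ a, Γ(W, box q₁ q₂ (U a) U') :=
  AddMonoidHom.mk' (fun t a => tens pX pY q₁ q₂ hsq (U a) U' ((LinearMap.proj a).lTensor (Fn pY U') t))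
    fun s t => funext fun a => by simp only [map_add, Pi.add_apply]

theorem bijective_tensFam {α : Type} [Finite α] (U : α → X.Opens) {U' : Y.Opens} (hU : ∀ a, IsAffineOpen (U a))
    (hU' : IsAffineOpen U') : Function.Bijective (tensFam pX pY q₁ q₂ hsq U U') := by
  haveI := Fintype.ofFinite α
  classical
  let e := TensorProduct.piRight k k (Fn pY U') (fun a => Fn pX (U a))
  have he : ∀ t a, e t a = (LinearMap.proj a).lTensor (Fn pY U') t := fun t a => by
    induction t using TensorProduct.induction_on with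
    | zero => simp only [map_zero, Pi.zero_apply]
    | add s t hs ht => simp only [map_add, Pi.add_apply, hs, ht]
    | tmul φ z => simp [e]
  have e' : (tensFam pX pY q₁ q₂ hsq U U' : _ → ∀ a, Γ(W, box q₁ q₂ (U a) U')) =
      (fun s a => tens pX pY q₁ q₂ hsq (U a) U' (s a)) ∘ e := funext fun t => funext fun a =>
    congrArg (tens pX pY q₁ q₂ hsq (U a) U') (he t a).symm
  rw [e']
  exact (Function.Bijective.piMap fun a => bijective_tens pX pY q₁ q₂ hsq (hU a) hU').comp e.bijective

end Groth.Agent.CubeField
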