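import Groth.Agent.Lib.CubeField.AffineVanish
import Groth.Agent.Lib.CubeField.ProdSections
import Mathlib.RingTheory.Flat.Basic
import Mathlib.LinearAlgebra.TensorProduct.RightExactness

/-!
# An additive cocycle on a product is a coboundary if it is one on both slices

For proper `X` and `Y` with only constant functions this is the injectivity of
`H¹(X × Y, O) → H¹(X, O) × H¹(Y, O)`.
-/

universe u

open CategoryTheory Limits AlgebraicGeometry TopologicalSpace Opposite TensorProduct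

set_option linter.style.haveILetI false
set_option backward.isDefEq.respectTransparency false

namespace Groth.Agent.CubeField

open RigidRel

section general

variable {X Y : Scheme.{u}} {ι κ : Type}

theorem IsCocycle.pull {V : ι → X.Opens} {f : ∀ i j, Γ(X, V i ⊓ V j)} (h : IsCocycle V f) (φ : Y ⟶ X) :
    IsCocycle (fun i => φ ⁻¹ᵁ V i) fun i j => φ.app (V i ⊓ V j) (f i j) := by
  intro i j k U hi hj hk
  have h1 := congrArg (φ.app (V i ⊓ V j ⊓ V k)) (h i j k (V i ⊓ V j ⊓ V k) (inf_le_left.trans inf_le_left)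
    (inf_le_left.trans inf_le_right) inf_le_right)
  rw [map_add, app_rs, app_rs, app_rs] at h1
  have h2 := congrArg (rs (show U ≤ φ ⁻¹ᵁ (V i ⊓ V j ⊓ V k) from le_inf (le_inf hi hj) hk)) h1
  rw [map_add] at h2
  erw [rs_rs, rs_rs, rs_rs] at h2
  exact h2

theorem IsCoboundary.pull {V : ι → X.Opens} {f : ∀ i j, Γ(X, V i ⊓ V j)} (h : IsCoboundary V f) (φ : Y ⟶ X) :
    IsCoboundary (fun i => φ ⁻¹ᵁ V i) fun i j => φ.app (V i ⊓ V j) (f i j) := by
  obtain ⟨u, hu⟩ := h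
  refine ⟨fun i => φ.app (V i) (u i), fun i j => ?_⟩
  have h1 := congrArg (φ.app (V i ⊓ V j)) (hu i j)
  rw [map_sub, app_rs, app_rs] at h1
  exact h1

/-- Functions with zero differences on a cover glue. -/
theorem exists_glue (V : ι → X.Opens) {U : X.Opens} (hU : U ≤ ⨆ i, V i) (hle : ∀ i, V i ≤ U)
    (u : ∀ i, Γ(X, V i)) (h : ∀ i j, rs inf_le_left (u i) = rs (inf_le_right : V i ⊓ V j ≤ V j) (u j)) :
    ∃ s : Γ(X, U), ∀ i, rs (hle i) s = u i := by
  obtain ⟨s, hs, -⟩ := X.sheaf.existsUnique_gluing' V U (fun i => homOfLE (hle i)) hU u h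
  exact ⟨s, hs⟩

/-- Comparing a cocycle on two covers. -/
theorem exists_refinement (V : ι → X.Opens) (f : ∀ i j, Γ(X, V i ⊓ V j)) (hf : IsCocycle V f)
    (hcov : ⨆ i, V i = ⊤) (P : κ → X.Opens) (hP : ∀ a, IsAffineOpen (P a)) (hPcov : ⨆ a, P a = ⊤) :
    ∃ e : ∀ a b, Γ(X, P a ⊓ P b), IsCocycle P e ∧ (IsCoboundary P e → IsCoboundary V f) ∧
      ∀ {Y : Scheme.{u}} (φ : Y ⟶ X), IsCoboundary (fun i => φ ⁻¹ᵁ V i) (fun i j => φ.app (V i ⊓ V j) (f i j)) →
        IsCoboundary (fun a => φ ⁻¹ᵁ P a) (fun a b => φ.app (P a ⊓ P b) (e a b)) := by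
  choose h hh using fun a => exists_boundary_of_isAffineOpen V f hf (hP a) (le_top.trans hcov.ge)
  let D : κ → κ → ι → X.Opens := fun a b i => P a ⊓ P b ⊓ V i
  have hDa : ∀ a b i, D a b i ≤ P a ⊓ V i := fun a b i =>
    le_inf (inf_le_left.trans inf_le_left) inf_le_right
  have hDb : ∀ a b i, D a b i ≤ P b ⊓ V i := fun a b i =>
    le_inf (inf_le_left.trans inf_le_right) inf_le_right
  have hex : ∀ a b, ∃ e : Γ(X, P a ⊓ P b), ∀ (i : ι) (U : X.Opens) (hU : U ≤ D a b i),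
      rs (hU.trans inf_le_left) e = rs (hU.trans (hDa a b i)) (h a i) - rs (hU.trans (hDb a b i)) (h b i) := by
    intro a b
    obtain ⟨e, he⟩ := exists_glue (D a b) (U := P a ⊓ P b) (fun x hx => by
        obtain ⟨i, hi⟩ := Opens.mem_iSup.1 (hcov.ge (Opens.mem_top x))
        exact Opens.mem_iSup.2 ⟨i, hx, hi⟩) (fun i => inf_le_left)
      (fun i => rs (hDa a b i) (h a i) - rs (hDb a b i) (h b i)) fun i j => by
        rw [map_sub, map_sub, rs_rs, rs_rs, rs_rs, rs_rs, sub_eq_sub_iff_sub_eq_sub,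
          hh a i j (D a b i ⊓ D a b j) (inf_le_left.trans (hDa a b i)) (inf_le_right.trans (hDa a b j)),
          hh b i j (D a b i ⊓ D a b j) (inf_le_left.trans (hDb a b i)) (inf_le_right.trans (hDb a b j))]
    refine ⟨e, fun i U hU => ?_⟩
    have h1 := congrArg (rs hU) (he i)
    rw [map_sub, rs_rs, rs_rs, rs_rs] at h1
    exact h1
  choose e he using hex
  have hsub : ∀ {U : X.Opens} (i : ι), U ⊓ V i ≤ U := fun _ => inf_le_left
  refine ⟨e, fun a b c U ha hb hc => ?_, fun ⟨u, hu⟩ => ?_, fun {Y} φ ⟨w, hw⟩ => ?_⟩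
  · refine X.sheaf.eq_of_locally_eq' (fun i => U ⊓ V i) U (fun i => homOfLE inf_le_left) (fun x hx => ?_) _ _
      fun i => ?_
    · obtain ⟨i, hi⟩ := Opens.mem_iSup.1 (hcov.ge (Opens.mem_top x))
      exact Opens.mem_iSup.2 ⟨i, hx, hi⟩
    · show rs inf_le_left (_ + _) = rs inf_le_left _
      rw [map_add, rs_rs, rs_rs, rs_rs,
        he a b i (U ⊓ V i) (le_inf (le_inf ((hsub i).trans ha) ((hsub i).trans hb)) inf_le_right),
        he b c i (U ⊓ V i) (le_inf (le_inf ((hsub i).trans hb) ((hsub i).trans hc)) inf_le_right),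
        he a c i (U ⊓ V i) (le_inf (le_inf ((hsub i).trans ha) ((hsub i).trans hc)) inf_le_right)]
      exact sub_add_sub_cancel _ _ _
  · have hg : ∀ i, ∃ s : Γ(X, V i), ∀ a, rs (inf_le_right : P a ⊓ V i ≤ V i) s =
        h a i - rs inf_le_left (u a) := fun i => by
      refine exists_glue (fun a => P a ⊓ V i) (fun x hx => ?_) (fun a => inf_le_right) _ fun a b => ?_
      · obtain ⟨a, ha⟩ := Opens.mem_iSup.1 (hPcov.ge (Opens.mem_top x))
        exact Opens.mem_iSup.2 ⟨a, ha, hx⟩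
      · have hU : (P a ⊓ V i) ⊓ (P b ⊓ V i) ≤ D a b i :=
          le_inf (le_inf (inf_le_left.trans inf_le_left) (inf_le_right.trans inf_le_left))
            (inf_le_left.trans inf_le_right)
        have h1 := he a b i _ hU
        rw [← hu a b, map_sub, rs_rs, rs_rs] at h1
        rw [map_sub, map_sub, rs_rs, rs_rs, sub_eq_sub_iff_sub_eq_sub]
        exact h1.symm
    choose s hs using hg
    refine ⟨s, fun i j => ?_⟩
    refine X.sheaf.eq_of_locally_eq' (fun a => P a ⊓ (V i ⊓ V j)) (V i ⊓ V j) (fun a => homOfLE inf_le_right)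
      (fun x hx => ?_) _ _ fun a => ?_
    · obtain ⟨a, ha⟩ := Opens.mem_iSup.1 (hPcov.ge (Opens.mem_top x))
      exact Opens.mem_iSup.2 ⟨a, ha, hx⟩
    · show rs inf_le_right (_ - _) = rs inf_le_right _
      have hi : P a ⊓ (V i ⊓ V j) ≤ P a ⊓ V i := inf_le_inf_left _ inf_le_left
      have hj : P a ⊓ (V i ⊓ V j) ≤ P a ⊓ V j := inf_le_inf_left _ inf_le_right
      have h1 := congrArg (rs hi) (hs i a)
      have h2 := congrArg (rs hj) (hs j a)
      rw [map_sub, rs_rs, rs_rs] at h1 h2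
      rw [map_sub, rs_rs, rs_rs, h1, h2, sub_sub_sub_cancel_right]
      exact hh a i j _ hi hj
  · have hw' : ∀ i j, rs (φ.preimage_mono inf_le_left) (w i) - rs (φ.preimage_mono inf_le_right) (w j) =
        φ.app (V i ⊓ V j) (f i j) := hw
    have hg : ∀ a, ∃ s : Γ(Y, φ ⁻¹ᵁ P a), ∀ i, rs (φ.preimage_mono (inf_le_left : P a ⊓ V i ≤ P a)) s =
        φ.app (P a ⊓ V i) (h a i) - rs (φ.preimage_mono inf_le_right) (w i) := fun a => by
      refine exists_glue (fun i => φ ⁻¹ᵁ (P a ⊓ V i)) (fun y hy => ?_) (fun i => φ.preimage_mono inf_le_left) _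
        fun i j => ?_
      · obtain ⟨i, hi⟩ := Opens.mem_iSup.1 (hcov.ge (Opens.mem_top (φ y)))
        exact Opens.mem_iSup.2 ⟨i, hy, hi⟩
      · have h1 := congrArg (φ.app ((P a ⊓ V i) ⊓ (P a ⊓ V j)))
          (hh a i j _ inf_le_left inf_le_right)
        rw [map_sub, app_rs, app_rs, app_rs, ← hw' i j, map_sub] at h1
        erw [rs_rs, rs_rs] at h1
        rw [map_sub, map_sub, rs_rs, rs_rs, sub_eq_sub_iff_sub_eq_sub]
        exact h1
    choose s hs using hg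
    refine ⟨s, fun a b => ?_⟩
    refine Y.sheaf.eq_of_locally_eq' (fun i => φ ⁻¹ᵁ D a b i) (φ ⁻¹ᵁ P a ⊓ φ ⁻¹ᵁ P b)
      (fun i => homOfLE (φ.preimage_mono inf_le_left)) (fun y hy => ?_) _ _ fun i => ?_
    · obtain ⟨i, hi⟩ := Opens.mem_iSup.1 (hcov.ge (Opens.mem_top (φ y)))
      exact Opens.mem_iSup.2 ⟨i, hy, hi⟩
    · show rs _ (_ - _) = rs _ _
      have h1 := congrArg (rs (φ.preimage_mono (hDa a b i))) (hs a i)
      have h2 := congrArg (rs (φ.preimage_mono (hDb a b i))) (hs b i)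
      rw [map_sub, rs_rs, rs_rs] at h1 h2
      have h3 := congrArg (φ.app (D a b i)) (he a b i _ le_rfl)
      rw [map_sub, app_rs, app_rs, app_rs] at h3
      rw [map_sub]
      erw [rs_rs, rs_rs]
      rw [h1, h2, sub_sub_sub_cancel_right]
      exact h3.symm

end general

variable {k : Type u} [Field k] {X Y W : Scheme.{u}} (pX : X ⟶ Spec (CommRingCat.of k))
  (pY : Y ⟶ Spec (CommRingCat.of k)) (q₁ : W ⟶ X) (q₂ : W ⟶ Y) (hsq : IsPullback q₁ q₂ pX pY)

/-- The Čech differential of a finite cover, linearly. -/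
noncomputable def cechD {α : Type} (U : α → X.Opens) :
    (∀ a, Fn pX (U a)) →ₗ[k] ∀ p : α × α, Fn pX (U p.1 ⊓ U p.2) :=
  LinearMap.pi fun p => (resL pX inf_le_left).comp (LinearMap.proj p.1) -
    (resL pX inf_le_right).comp (LinearMap.proj p.2)

theorem box_inf {α : Type} (U : α → X.Opens) (a c : α) {U' : Y.Opens} :
    box q₁ q₂ (U a ⊓ U c) U' ≤ box q₁ q₂ (U a) U' ⊓ box q₁ q₂ (U c) U' :=
  le_inf (inf_le_inf_right _ (q₁.preimage_mono inf_le_left)) (inf_le_inf_right _ (q₁.preimage_mono inf_le_right))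

theorem rs_tensFam {α : Type} (U : α → X.Opens) {U' V' : Y.Opens} (h : V' ≤ U')
    (t : Fn pY U' ⊗[k] (∀ a, Fn pX (U a))) (a : α) :
    rs (inf_le_inf_left _ (q₂.preimage_mono h)) (tensFam pX pY q₁ q₂ hsq U U' t a) =
      tensFam pX pY q₁ q₂ hsq U V' ((resL pY h).rTensor _ t) a := by
  show rs (inf_le_inf (q₁.preimage_mono le_rfl) (q₂.preimage_mono h)) (tens pX pY q₁ q₂ hsq (U a) U' _) =
    tens pX pY q₁ q₂ hsq (U a) V' _
  rw [rs_tens pX pY q₁ q₂ hsq le_rfl h]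
  congr 1
  induction t using TensorProduct.induction_on with
  | zero => simp only [map_zero]
  | add s t hs ht => simp only [map_add, hs, ht]
  | tmul φ z =>
    simp only [LinearMap.lTensor_tmul, LinearMap.rTensor_tmul, TensorProduct.map_tmul]
    congr 1
    exact rs_self _ _

theorem tensFam_cechD {α : Type} (U : α → X.Opens) (U' : Y.Opens) (t : Fn pY U' ⊗[k] (∀ a, Fn pX (U a)))
    (p : α × α) :
    tensFam pX pY q₁ q₂ hsq (fun p : α × α => U p.1 ⊓ U p.2) U' ((cechD pX U).lTensor _ t) p =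
      rs ((box_inf q₁ q₂ U p.1 p.2).trans inf_le_left) (tensFam pX pY q₁ q₂ hsq U U' t p.1) -
      rs ((box_inf q₁ q₂ U p.1 p.2).trans inf_le_right) (tensFam pX pY q₁ q₂ hsq U U' t p.2) := by
  induction t using TensorProduct.induction_on with
  | zero => simp only [map_zero, Pi.zero_apply, sub_zero]
  | add s t hs ht => simp only [map_add, Pi.add_apply, hs, ht]; abel
  | tmul φ z =>
    show tens pX pY q₁ q₂ hsq _ U' (φ ⊗ₜ[k] (cechD pX U z p)) =
      rs (inf_le_inf (q₁.preimage_mono inf_le_left) (q₂.preimage_mono le_rfl)) (tens pX pY q₁ q₂ hsq _ U' (φ ⊗ₜ[k] z p.1)) -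
      rs (inf_le_inf (q₁.preimage_mono inf_le_right) (q₂.preimage_mono le_rfl)) (tens pX pY q₁ q₂ hsq _ U' (φ ⊗ₜ[k] z p.2))
    rw [rs_tens pX pY q₁ q₂ hsq inf_le_left le_rfl, rs_tens pX pY q₁ q₂ hsq inf_le_right le_rfl,
      TensorProduct.map_tmul, TensorProduct.map_tmul, ← map_sub]
    congr 1
    rw [show resL pY (le_refl U') φ = φ from rs_self _ _, ← TensorProduct.tmul_sub]
    rfl

theorem exists_finite_affine_cover (Z : Scheme.{u}) [CompactSpace Z] :
    ∃ (n : ℕ) (U : Fin n → Z.Opens), (∀ i, IsAffineOpen (U i)) ∧ ⨆ i, U i = ⊤ := by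
  choose U hU hxU _ using fun z : Z =>
    exists_isAffineOpen_mem_and_subset (X := Z) (x := z) (U := ⊤) trivial
  obtain ⟨t, ht⟩ := isCompact_univ.elim_finite_subcover (fun z => (U z : Set Z)) (fun z => (U z).isOpen)
    fun z _ => Set.mem_iUnion.2 ⟨z, hxU z⟩
  refine ⟨t.card, fun i => U (t.equivFin.symm i).1, fun i => hU _, top_le_iff.1 fun z _ => ?_⟩
  obtain ⟨w, hw, hzw⟩ := Set.mem_iUnion₂.1 (ht (Set.mem_univ z))
  exact Opens.mem_iSup.2 ⟨t.equivFin ⟨w, hw⟩, by simpa using hzw⟩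

theorem rs_app_of_eq {S T : Scheme.{u}} {φ ψ : S ⟶ T} (h : φ = ψ) {V : T.Opens} {U : S.Opens}
    (h₁ : U ≤ φ ⁻¹ᵁ V) (z : Γ(T, V)) : rs h₁ (φ.app V z) = rs (h ▸ h₁) (ψ.app V z) := by
  subst h; rfl

theorem rs_app_app_of_eq {S T Z : Scheme.{u}} (φ : S ⟶ T) (ψ : T ⟶ Z) {χ : S ⟶ Z} (h : φ ≫ ψ = χ)
    {V : Z.Opens} {U : S.Opens} (h₁ : U ≤ φ ⁻¹ᵁ (ψ ⁻¹ᵁ V)) (h₂ : U ≤ χ ⁻¹ᵁ V) (z : Γ(Z, V)) :
    rs h₁ (φ.app (ψ ⁻¹ᵁ V) (ψ.app V z)) = rs h₂ (χ.app V z) := by
  subst h; rfl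

set_option maxHeartbeats 800000 in
include hsq in
/-- The slice lemma. -/
theorem isCoboundary_of_slices [IsSeparated pX] [IsSeparated pY] [CompactSpace X] [CompactSpace Y]
    (hY : Function.Surjective (ringMap pY ⊤).hom)
    (hq : ∀ U : Y.Opens, IsAffineOpen U → Function.Bijective (q₂.app U).hom)
    (x₀ : Y ⟶ W) (hx₀ : x₀ ≫ q₂ = 𝟙 Y) (x : Spec (CommRingCat.of k) ⟶ X) (hx : x₀ ≫ q₁ = pY ≫ x)
    (y₀ : X ⟶ W) (hy₀ : y₀ ≫ q₁ = 𝟙 X) (y : Spec (CommRingCat.of k) ⟶ Y) (hy : y₀ ≫ q₂ = pX ≫ y)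
    (hyk : y ≫ pY = 𝟙 _)
    {ι : Type} (V : ι → W.Opens) (f : ∀ i j, Γ(W, V i ⊓ V j)) (hf : IsCocycle V f) (hcov : ⨆ i, V i = ⊤)
    (h₁ : IsCoboundary (fun i => x₀ ⁻¹ᵁ V i) fun i j => x₀.app (V i ⊓ V j) (f i j))
    (h₂ : IsCoboundary (fun i => y₀ ⁻¹ᵁ V i) fun i j => y₀.app (V i ⊓ V j) (f i j)) :
    IsCoboundary V f := by
  classical
  obtain ⟨m, U, hU, hUcov⟩ := exists_finite_affine_cover X
  obtain ⟨n, U', hU', hU'cov⟩ := exists_finite_affine_cover Y
  haveI : X.IsSeparated := ⟨by rw [← Limits.terminal.comp_from pX]; infer_instance⟩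
  haveI : Y.IsSeparated := ⟨by rw [← Limits.terminal.comp_from pY]; infer_instance⟩
  have hU2 : ∀ p : Fin m × Fin m, IsAffineOpen (U p.1 ⊓ U p.2) := fun p => (hU p.1).inf (hU p.2)
  let P : Fin m × Fin n → W.Opens := fun p => box q₁ q₂ (U p.1) (U' p.2)
  have hPcov : ⨆ p, P p = ⊤ := top_le_iff.1 fun w _ => by
    obtain ⟨a, ha⟩ := Opens.mem_iSup.1 (hUcov.ge (Opens.mem_top (q₁ w)))
    obtain ⟨b, hb⟩ := Opens.mem_iSup.1 (hU'cov.ge (Opens.mem_top (q₂ w)))
    exact Opens.mem_iSup.2 ⟨(a, b), ha, hb⟩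
  obtain ⟨e, he, hback, hslice⟩ := exists_refinement V f hf hcov P
    (fun p => isAffineOpen_box pX pY q₁ q₂ hsq (hU _) (hU' _)) hPcov
  apply hback
  obtain ⟨wy, hwy⟩ := hslice y₀ h₂
  -- the components along `X`
  let U2 : Fin m × Fin m → X.Opens := fun p => U p.1 ⊓ U p.2
  let R := LinearMap.range (cechD pX U)
  have hPP : ∀ a c b, box q₁ q₂ (U a ⊓ U c) (U' b) ≤ P (a, b) ⊓ P (c, b) := fun a c b => box_inf q₁ q₂ U a c
  choose t ht using fun b => (bijective_tensFam pX pY q₁ q₂ hsq U2 hU2 (hU' b)).2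
    fun p => rs (hPP p.1 p.2 b) (e (p.1, b) (p.2, b))
  let q : ∀ b, Fn pY (U' b) ⊗[k] _ := fun b => R.mkQ.lTensor (Fn pY (U' b)) (t b)
  have hker : R.mkQ.comp (cechD pX U) = 0 :=
    LinearMap.ext fun z => (Submodule.Quotient.mk_eq_zero R).2 ⟨z, rfl⟩
  have hagree : ∀ b b', (resL pY (inf_le_left : U' b ⊓ U' b' ≤ U' b)).rTensor _ (q b) =
      (resL pY (inf_le_right : U' b ⊓ U' b' ≤ U' b')).rTensor _ (q b') := fun b b' => by
    have hB : IsAffineOpen (U' b ⊓ U' b') := (hU' b).inf (hU' b')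
    obtain ⟨v, hv⟩ := (bijective_tensFam pX pY q₁ q₂ hsq U hU hB).2 fun a =>
      rs (le_inf (inf_le_inf_left _ (q₂.preimage_mono inf_le_left))
        (inf_le_inf_left _ (q₂.preimage_mono inf_le_right))) (e (a, b) (a, b'))
    have h0 : (resL pY (inf_le_left : U' b ⊓ U' b' ≤ U' b)).rTensor _ (t b) -
        (resL pY (inf_le_right : U' b ⊓ U' b' ≤ U' b')).rTensor _ (t b') = (cechD pX U).lTensor _ v := by
      refine (bijective_tensFam pX pY q₁ q₂ hsq U2 hU2 hB).1 (funext fun p => ?_)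
      rw [map_sub, Pi.sub_apply, ← rs_tensFam, ← rs_tensFam, ht, ht, tensFam_cechD, hv, rs_rs, rs_rs, rs_rs,
        rs_rs, sub_eq_sub_iff_add_eq_add]
      let T := box q₁ q₂ (U p.1 ⊓ U p.2) (U' b ⊓ U' b')
      have l1 : T ≤ P (p.1, b) := inf_le_inf (q₁.preimage_mono inf_le_left) (q₂.preimage_mono inf_le_left)
      have l1' : T ≤ P (p.1, b') := inf_le_inf (q₁.preimage_mono inf_le_left) (q₂.preimage_mono inf_le_right)
      have l2 : T ≤ P (p.2, b) := inf_le_inf (q₁.preimage_mono inf_le_right) (q₂.preimage_mono inf_le_left)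
      have l2' : T ≤ P (p.2, b') := inf_le_inf (q₁.preimage_mono inf_le_right) (q₂.preimage_mono inf_le_right)
      exact (he _ _ _ T l1 l2 l2').trans (he _ _ _ T l1 l1' l2').symm
    have h1 := congrArg (R.mkQ.lTensor (Fn pY (U' b ⊓ U' b'))) h0
    rw [map_sub, ← LinearMap.comp_apply (f := LinearMap.lTensor _ R.mkQ) (g := LinearMap.lTensor _ (cechD pX U)),
      ← LinearMap.lTensor_comp, hker, LinearMap.lTensor_zero, LinearMap.zero_apply, sub_eq_zero] at h1
    simp only [q]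
    rw [← LinearMap.comp_apply, ← LinearMap.comp_apply, LinearMap.rTensor_comp_lTensor,
      LinearMap.rTensor_comp_lTensor, ← LinearMap.lTensor_comp_rTensor, ← LinearMap.lTensor_comp_rTensor]
    exact h1
  -- coordinates of the classes are constants
  let Q := (∀ p, Fn pX (U2 p)) ⧸ R
  obtain ⟨⟨β, B⟩⟩ := Module.Free.exists_basis (R := k) (M := Q)
  let coord : ∀ (T : Y.Opens), β → (Fn pY T ⊗[k] Q →ₗ[k] Fn pY T) := fun T l =>
    (TensorProduct.rid k (Fn pY T)).toLinearMap ∘ₗ (B.coord l).lTensor (Fn pY T)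
  have hcoordnat : ∀ {T T' : Y.Opens} (h : T' ≤ T) (l : β) (z : Fn pY T ⊗[k] Q),
      coord T' l ((resL pY h).rTensor _ z) = resL pY h (coord T l z) := fun {T T'} h l z => by
    induction z using TensorProduct.induction_on with
    | zero => simp only [map_zero]
    | add s t hs ht => simp only [map_add, hs, ht]
    | tmul φ z => simp [coord]
  obtain ⟨b₀, hb₀⟩ := Opens.mem_iSup.1 (hU'cov.ge (Opens.mem_top (y (IsLocalRing.closedPoint k))))
  have htop : ∀ z : Spec (CommRingCat.of k), z = IsLocalRing.closedPoint k := fun z =>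
    Subsingleton.elim (α := Spec (CommRingCat.of k)) _ _
  have hyb : (⊤ : (Spec (CommRingCat.of k)).Opens) ≤ y ⁻¹ᵁ U' b₀ := fun z _ => by rw [htop z]; exact hb₀
  let ev : Fn pY (U' b₀) →ₗ[k] k :=
  { toFun := fun φ => (Scheme.ΓSpecIso (CommRingCat.of k)).hom (rs hyb (y.app (U' b₀) (toΓ φ)))
    map_add' := fun φ φ' => by
      show (Scheme.ΓSpecIso (CommRingCat.of k)).hom (rs hyb (y.app (U' b₀) (toΓ φ + toΓ φ'))) = _
      rw [map_add, map_add, map_add]
    map_smul' := fun a φ => by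
      show (Scheme.ΓSpecIso (CommRingCat.of k)).hom (rs hyb (y.app (U' b₀) (ringMap pY (U' b₀) a * toΓ φ))) = a * _
      rw [map_mul, map_mul, map_mul, app_ringMap (𝟙 _) (η := 𝟙 _) ⟨by rw [hyk, Spec.map_id, Category.comp_id]⟩,
        rs_ringMap]
      congr 1
      show ((Scheme.ΓSpecIso (CommRingCat.of k)).inv ≫ (𝟙 (Spec (CommRingCat.of k)) : _).appLE ⊤ ⊤ le_top ≫
        (Scheme.ΓSpecIso (CommRingCat.of k)).hom) a = a
      rw [appLE_top_top, Scheme.Hom.id_appTop, Category.id_comp, Iso.inv_hom_id]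
      rfl }
  have hev_alg : ∀ a : k, ev (algebraMap k (Fn pY (U' b₀)) a) = a := fun a => by
    rw [Algebra.algebraMap_eq_smul_one, map_smul]
    have h1 : ev 1 = 1 := by
      show (Scheme.ΓSpecIso (CommRingCat.of k)).hom (rs hyb (y.app (U' b₀) (1 : Γ(Y, U' b₀)))) = 1
      rw [map_one, map_one, map_one]
    rw [h1, smul_eq_mul, mul_one]
  have hy0U : ∀ T : X.Opens, T ≤ y₀ ⁻¹ᵁ box q₁ q₂ T (U' b₀) := fun T z hz => ⟨by
    show q₁ (y₀ z) ∈ T
    rw [← Scheme.Hom.comp_apply, hy₀]; exact hz, by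
    show q₂ (y₀ z) ∈ U' b₀
    rw [← Scheme.Hom.comp_apply, hy, Scheme.Hom.comp_apply, htop (pX z)]; exact hb₀⟩
  have hρ : ∀ (T : X.Opens) (φ : Fn pY (U' b₀)) (z : Fn pX T),
      rs (hy0U T) (y₀.app _ (mulBox pX pY q₁ q₂ φ z)) = toΓ (ev φ • z) := fun T φ z => by
    show rs _ (y₀.app _ (_ * _)) = ringMap pX T (ev φ) * toΓ z
    rw [map_mul, map_mul, app_rs, app_rs, rs_rs, rs_rs]
    congr 1
    · rw [rs_app_app_of_eq y₀ q₂ hy (h₂ := fun z' hz' => by
        show (pX ≫ y) z' ∈ U' b₀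
        rw [Scheme.Hom.comp_apply, htop (pX z')]; exact hb₀)]
      show rs _ ((pX ≫ y).app (U' b₀) (toΓ φ)) = ringMap pX T
        ((Scheme.ΓSpecIso (CommRingCat.of k)).hom (rs hyb (y.app (U' b₀) (toΓ φ))))
      rw [ringMap, Scheme.Hom.appLE, ConcreteCategory.comp_apply, ConcreteCategory.comp_apply,
        ← ConcreteCategory.comp_apply (Scheme.ΓSpecIso _).hom, Iso.hom_inv_id, ConcreteCategory.id_apply,
        app_rs, rs_rs]
      rfl
    · rw [rs_app_app_of_eq y₀ q₁ hy₀ (h₂ := (le_rfl : T ≤ (𝟙 X) ⁻¹ᵁ T))]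
      exact rs_self _ _
  have hclass : (LinearMap.rTensor Q ev) (q b₀) = 0 := by
    have hEq : ∀ s : Fn pY (U' b₀) ⊗[k] (∀ p, Fn pX (U2 p)), ∀ p, toΓ
        (((TensorProduct.lid k (∀ p, Fn pX (U2 p))).toLinearMap ∘ₗ ev.rTensor _) s p) =
        rs (hy0U (U2 p)) (y₀.app _ (tensFam pX pY q₁ q₂ hsq U2 (U' b₀) s p)) := fun s p => by
      induction s using TensorProduct.induction_on with
      | zero => simp only [map_zero, Pi.zero_apply]
      | add s t hs ht =>
        simp only [map_add, Pi.add_apply]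
        exact congrArg₂ (· + ·) hs ht
      | tmul φ z => exact (hρ (U2 p) φ (z p)).symm
    have hUa : ∀ a, U a ≤ y₀ ⁻¹ᵁ P (a, b₀) := fun a => hy0U (U a)
    have hmem : ((TensorProduct.lid k (∀ p, Fn pX (U2 p))).toLinearMap ∘ₗ ev.rTensor _) (t b₀) ∈ R := by
      refine ⟨fun a => rs (hUa a) (wy (a, b₀)), funext fun p => ?_⟩
      refine Eq.trans ?_ (hEq (t b₀) p).symm
      rw [ht, app_rs, rs_rs]
      have h3 := congrArg (rs (le_inf (inf_le_left.trans (hUa p.1)) (inf_le_right.trans (hUa p.2)) :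
        U2 p ≤ y₀ ⁻¹ᵁ P (p.1, b₀) ⊓ y₀ ⁻¹ᵁ P (p.2, b₀))) (hwy (p.1, b₀) (p.2, b₀))
      rw [map_sub] at h3
      erw [rs_rs, rs_rs] at h3
      show rs inf_le_left (rs (hUa p.1) (wy (p.1, b₀))) - rs inf_le_right (rs (hUa p.2) (wy (p.2, b₀))) = _
      rw [rs_rs, rs_rs]
      exact h3
    have h4 : ∀ s, (TensorProduct.lid k Q) (ev.rTensor Q (R.mkQ.lTensor _ s)) =
        R.mkQ (((TensorProduct.lid k (∀ p, Fn pX (U2 p))).toLinearMap ∘ₗ ev.rTensor _) s) := fun s => by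
      induction s using TensorProduct.induction_on with
      | zero => simp only [map_zero]
      | add s t hs ht => simp only [map_add, hs, ht]
      | tmul φ z => simp
    apply (TensorProduct.lid k Q).injective
    rw [map_zero, h4]
    exact (Submodule.Quotient.mk_eq_zero R).2 hmem
  have hzero : ∀ b l, coord (U' b) l (q b) = 0 := fun b l => by
    obtain ⟨c, hc⟩ := exists_glue U' (U := ⊤) hU'cov.ge (fun _ => le_top)
      (fun b => toΓ (coord (U' b) l (q b))) fun b b' => by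
        have h1 := congrArg (coord _ l) (hagree b b')
        rw [hcoordnat, hcoordnat] at h1
        exact h1
    obtain ⟨a, rfl⟩ := hY c
    have ha : coord (U' b₀) l (q b₀) = algebraMap k _ a := by
      show toΓ (coord (U' b₀) l (q b₀)) = _
      rw [← hc b₀, rs_ringMap]; rfl
    have h1 : ev (coord (U' b₀) l (q b₀)) = 0 := by
      have h2 : ∀ z : Fn pY (U' b₀) ⊗[k] Q, ev (coord _ l z) = B.coord l (TensorProduct.lid k Q (ev.rTensor Q z)) :=
        fun z => by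
        induction z using TensorProduct.induction_on with
        | zero => simp only [map_zero]
        | add s t hs ht => simp only [map_add, hs, ht]
        | tmul φ z =>
          simp only [coord, LinearMap.comp_apply, LinearMap.lTensor_tmul, LinearMap.rTensor_tmul,
            LinearEquiv.coe_coe, TensorProduct.rid_tmul, TensorProduct.lid_tmul, map_smul, smul_eq_mul]
          ring
      rw [h2, hclass, map_zero, map_zero]
    rw [ha, hev_alg] at h1
    subst h1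
    show toΓ (coord (U' b) l (q b)) = 0
    rw [← hc b, map_zero, map_zero]
  have hq0 : ∀ b, q b = 0 := fun b => by
    apply (TensorProduct.equivFinsuppOfBasisRight B).injective
    rw [map_zero]
    refine Finsupp.ext fun l => ?_
    have h1 : ∀ z : Fn pY (U' b) ⊗[k] Q, TensorProduct.equivFinsuppOfBasisRight B z l = coord (U' b) l z :=
      fun z => by
      induction z using TensorProduct.induction_on with
      | zero => simp only [map_zero, Finsupp.coe_zero, Pi.zero_apply]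
      | add s t hs ht => simp only [map_add, Finsupp.coe_add, Pi.add_apply, hs, ht]
      | tmul φ z => simp [coord]
    rw [h1, hzero, Finsupp.coe_zero, Pi.zero_apply]
  have hs : ∀ b, ∃ s, (cechD pX U).lTensor (Fn pY (U' b)) s = t b := fun b =>
    ((lTensor_exact (Fn pY (U' b)) (LinearMap.exact_map_mkQ_range (cechD pX U)) (Submodule.mkQ_surjective R))
      (t b)).1 (hq0 b)
  choose s hs using hs
  let u : ∀ p, Γ(W, P p) := fun p => tensFam pX pY q₁ q₂ hsq U (U' p.2) (s p.2) p.1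
  -- the corrected cocycle only depends on the `Y`-components
  let e' : ∀ p p', Γ(W, P p ⊓ P p') := fun p p' => e p p' - (rs inf_le_left (u p) - rs inf_le_right (u p'))
  have he' : IsCocycle P e' := fun i j l T hi hj hl => by
    simp only [e', map_sub, rs_rs]
    linear_combination he i j l T hi hj hl
  have hdiag : ∀ a c b, e' (a, b) (c, b) = 0 := fun a c b => by
    have hle : P (a, b) ⊓ P (c, b) ≤ box q₁ q₂ (U a ⊓ U c) (U' b) :=
      le_inf (le_inf (inf_le_left.trans inf_le_left) (inf_le_right.trans inf_le_left)) (inf_le_left.trans inf_le_right)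
    have h1 := congrArg (rs hle) (congrFun (ht b) (a, c))
    rw [← hs b, tensFam_cechD, map_sub, rs_rs, rs_rs, rs_rs, rs_self] at h1
    exact sub_eq_zero.2 h1.symm
  have hG : ∀ b b', ∃ η : Γ(Y, U' b ⊓ U' b'), ∀ (a : Fin m) (T : W.Opens) (h₁ : T ≤ P (a, b)) (h₂ : T ≤ P (a, b')),
      rs (le_inf h₁ h₂) (e' (a, b) (a, b')) =
        rs (le_inf (h₁.trans inf_le_right) (h₂.trans inf_le_right)) (q₂.app (U' b ⊓ U' b') η) := fun b b' => by
    obtain ⟨G, hG⟩ := exists_glue (fun a => P (a, b) ⊓ P (a, b')) (U := q₂ ⁻¹ᵁ (U' b ⊓ U' b')) (fun w hw => by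
        obtain ⟨a, ha⟩ := Opens.mem_iSup.1 (hUcov.ge (Opens.mem_top (q₁ w)))
        exact Opens.mem_iSup.2 ⟨a, ⟨ha, hw.1⟩, ⟨ha, hw.2⟩⟩)
      (fun a => le_inf (inf_le_left.trans inf_le_right) (inf_le_right.trans inf_le_right))
      (fun a => e' (a, b) (a, b')) fun a c => by
        have l1 : (P (a, b) ⊓ P (a, b')) ⊓ (P (c, b) ⊓ P (c, b')) ≤ P (a, b) := inf_le_left.trans inf_le_left
        have l1' : (P (a, b) ⊓ P (a, b')) ⊓ (P (c, b) ⊓ P (c, b')) ≤ P (a, b') := inf_le_left.trans inf_le_right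
        have l2 : (P (a, b) ⊓ P (a, b')) ⊓ (P (c, b) ⊓ P (c, b')) ≤ P (c, b) := inf_le_right.trans inf_le_left
        have l2' : (P (a, b) ⊓ P (a, b')) ⊓ (P (c, b) ⊓ P (c, b')) ≤ P (c, b') := inf_le_right.trans inf_le_right
        have h1 := he' (a, b) (c, b) (c, b') _ l1 l2 l2'
        have h2 := he' (a, b) (a, b') (c, b') _ l1 l1' l2'
        rw [hdiag, map_zero, zero_add] at h1
        rw [hdiag, map_zero, add_zero] at h2
        exact h2.trans h1.symm
    obtain ⟨η, hη⟩ := (hq _ ((hU' b).inf (hU' b'))).2 G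
    subst hη
    refine ⟨η, fun a T l1 l2 => ?_⟩
    have h1 := congrArg (rs (le_inf l1 l2)) (hG a)
    rw [rs_rs] at h1
    exact h1.symm
  choose η hη using hG
  obtain ⟨a₀, ha₀⟩ := Opens.mem_iSup.1 (hUcov.ge (Opens.mem_top (x (IsLocalRing.closedPoint k))))
  have hx0U : ∀ b, U' b ≤ x₀ ⁻¹ᵁ P (a₀, b) := fun b z hz => ⟨by
    show q₁ (x₀ z) ∈ U a₀
    rw [← Scheme.Hom.comp_apply, hx, Scheme.Hom.comp_apply, htop (pY z)]; exact ha₀, by
    show q₂ (x₀ z) ∈ U' b
    rw [← Scheme.Hom.comp_apply, hx₀]; exact hz⟩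
  obtain ⟨wx, hwx⟩ := hslice x₀ h₁
  let ω : ∀ b, Γ(Y, U' b) := fun b => rs (hx0U b) (wx (a₀, b) - x₀.app (P (a₀, b)) (u (a₀, b)))
  have hω : ∀ b b', rs inf_le_left (ω b) - rs inf_le_right (ω b') = η b b' := fun b b' => by
    let T := P (a₀, b) ⊓ P (a₀, b')
    have hT : U' b ⊓ U' b' ≤ x₀ ⁻¹ᵁ T := le_inf (inf_le_left.trans (hx0U b)) (inf_le_right.trans (hx0U b'))
    have h1 := congrArg (x₀.app T) (hη b b' a₀ T inf_le_left inf_le_right)
    rw [rs_self] at h1
    have h2 := congrArg (rs hT) h1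
    rw [app_rs, rs_rs] at h2
    have hle : U' b ⊓ U' b' ≤ x₀ ⁻¹ᵁ (q₂ ⁻¹ᵁ (U' b ⊓ U' b')) := fun z hz =>
      show q₂ (x₀ z) ∈ U' b ⊓ U' b' by rw [← Scheme.Hom.comp_apply, hx₀]; exact hz
    have h4 : rs hle (x₀.app _ (q₂.app (U' b ⊓ U' b') (η b b'))) = η b b' :=
      (rs_app_app_of_eq x₀ q₂ hx₀ hle (le_rfl : U' b ⊓ U' b' ≤ (𝟙 Y) ⁻¹ᵁ (U' b ⊓ U' b')) (η b b')).trans
        (rs_self _ _)
    replace h2 := h2.trans h4
    refine Eq.trans ?_ h2
    simp only [e', ω, map_sub, app_rs, rs_rs]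
    have h3 := congrArg (rs hT) (hwx (a₀, b) (a₀, b'))
    rw [map_sub] at h3
    erw [rs_rs, rs_rs] at h3
    have a1 : ∀ (p : Fin m × Fin n) (h : T ≤ P p) (z : Γ(W, P p)), rs hT (x₀.app T (rs h z)) =
        rs (hT.trans (x₀.preimage_mono h)) (x₀.app (P p) z) := fun p h z => by rw [app_rs, rs_rs]
    erw [a1, a1]
    linear_combination h3
  clear_value ω
  refine ⟨fun p => u p + rs inf_le_right (q₂.app (U' p.2) (ω p.2)), fun p p' => ?_⟩
  obtain ⟨a, b⟩ := p
  obtain ⟨c, b'⟩ := p'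
  let T := P (a, b) ⊓ P (c, b')
  have l1 : T ≤ P (a, b) := inf_le_left
  have l2' : T ≤ P (c, b') := inf_le_right
  have l2 : T ≤ P (c, b) := le_inf (inf_le_right.trans inf_le_left) (inf_le_left.trans inf_le_right)
  have h1 := he' (a, b) (c, b) (c, b') T l1 l2 l2'
  rw [hdiag, map_zero, zero_add, rs_self] at h1
  have h5 := hη b b' c T l2 l2'
  have hT2 : T ≤ q₂ ⁻¹ᵁ (U' b ⊓ U' b') := le_inf (l1.trans inf_le_right) (l2'.trans inf_le_right)
  have h6 : rs hT2 (q₂.app (U' b ⊓ U' b') (η b b')) = rs (l1.trans inf_le_right) (q₂.app (U' b) (ω b)) -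
      rs (l2'.trans inf_le_right) (q₂.app (U' b') (ω b')) := by
    rw [← hω b b', map_sub, app_rs, app_rs, map_sub]
    exact congrArg₂ (· - ·) (rs_rs _ _ _) (rs_rs _ _ _)
  have h8 : e (a, b) (c, b') - (rs l1 (u (a, b)) - rs l2' (u (c, b'))) =
      rs (l1.trans inf_le_right) (q₂.app (U' b) (ω b)) - rs (l2'.trans inf_le_right) (q₂.app (U' b') (ω b')) :=
    h1.symm.trans (h5.trans h6)
  show rs inf_le_left (_ + _) - rs inf_le_right (_ + _) = e (a, b) (c, b')
  rw [map_add, map_add]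
  erw [rs_rs, rs_rs]
  linear_combination -h8

end Groth.Agent.CubeField
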