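import Groth.Agent.Lib.CubeField.Seesaw
import Groth.Agent.Lib.CubeField.Slice
import Groth.Agent.Lib.RigidRel.H0
import Mathlib.RingTheory.DiscreteValuationRing.Basic

/-!
# Lifting a trivialisation from the special fibre over a discrete valuation ring
-/

universe u

open CategoryTheory Limits AlgebraicGeometry TopologicalSpace Opposite TensorProduct

set_option linter.style.haveILetI false
set_option backward.isDefEq.respectTransparency false

namespace Groth.Agent.CubeField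

open RigidRel

theorem rs_app_app_of_eq' {S T T' Z : Scheme.{u}} (φ : S ⟶ T) (ψ : T ⟶ Z) (φ' : S ⟶ T') (ψ' : T' ⟶ Z)
    (h : φ ≫ ψ = φ' ≫ ψ') {V : Z.Opens} {U : S.Opens} (h₁ : U ≤ φ ⁻¹ᵁ (ψ ⁻¹ᵁ V)) (h₂ : U ≤ φ' ⁻¹ᵁ (ψ' ⁻¹ᵁ V))
    (z : Γ(Z, V)) : rs h₁ (φ.app _ (ψ.app V z)) = rs h₂ (φ'.app _ (ψ'.app V z)) := by
  have e := Scheme.Hom.congr_app h V
  have e2 := congrArg (rs h₁) (ConcreteCategory.congr_hom e z)
  simp only [Scheme.Hom.comp_app, ConcreteCategory.comp_apply] at e2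
  exact e2.trans (rs_rs _ _ _)

variable {R : CommRingCat.{u}} {W : Scheme.{u}} (ξ : W ⟶ Spec R) {ι : Type}

/-- The differential of a family of local functions, twisted by the transition functions. -/
def Coc.dd (c : Coc W ι) (v : ∀ i, Γ(W, c.V i)) (i j : ι) : Γ(W, c.V i ⊓ c.V j) :=
  rs inf_le_left (v i) - c.g i j * rs inf_le_right (v j)

/-- The twisted cocycle condition. -/
def Coc.IsTwisted (c : Coc W ι) (w : ∀ i j, Γ(W, c.V i ⊓ c.V j)) : Prop :=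
  ∀ (i j k : ι) (U : W.Opens) (hi : U ≤ c.V i) (hj : U ≤ c.V j) (hk : U ≤ c.V k),
    rs (le_inf hi hj) (w i j) + rs (le_inf hi hj) (c.g i j) * rs (le_inf hj hk) (w j k) = rs (le_inf hi hk) (w i k)

theorem Coc.isTwisted_dd (c : Coc W ι) (v : ∀ i, Γ(W, c.V i)) : c.IsTwisted (c.dd v) := by
  intro i j k U hi hj hk
  simp only [Coc.dd, map_sub, map_mul, rs_rs]
  have h := c.comp i j k U hi hj hk
  linear_combination (-rs hk (v k)) * h

theorem Coc.isTwisted_of_dd_eq [Flat ξ] [IsDomain R] (c : Coc W ι) (v : ∀ i, Γ(W, c.V i)) {r : R} (hr : r ≠ 0)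
    (w : ∀ i j, Γ(W, c.V i ⊓ c.V j)) (h : ∀ i j, c.dd v i j = ringMap ξ (c.V i ⊓ c.V j) r * w i j) :
    c.IsTwisted w := fun i j l U hi hj hl => by
  refine TopCat.Presheaf.section_ext W.sheaf U _ _ fun x hx => ?_
  obtain ⟨U', hU', hxU', hU'le⟩ := exists_isAffineOpen_mem_and_subset (X := W) (x := x) (U := U) hx
  have hle : U' ≤ U := hU'le
  have h0 : rs hle (rs (le_inf hi hj) (w i j) + rs (le_inf hi hj) (c.g i j) * rs (le_inf hj hl) (w j l)) =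
      rs hle (rs (le_inf hi hl) (w i l)) := by
    refine sub_eq_zero.1 (eq_zero_of_ringMap_mul ξ hU' hr ?_)
    have h2 := congrArg (rs hle) (c.isTwisted_dd v i j l U hi hj hl)
    simp only [h, map_add, map_mul, rs_ringMap, rs_rs] at h2
    simp only [map_add, map_mul, rs_rs]
    linear_combination h2
  have e : ∀ z : Γ(W, U), W.presheaf.germ U x hx z = W.presheaf.germ U' x hxU' (rs hle z) := fun z =>
    (TopCat.Presheaf.germ_res_apply W.presheaf (homOfLE hle) x hxU' z).symm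
  exact (e _).trans ((congrArg _ h0).trans (e _).symm)

/-- Classes divisible by every power of `π` vanish. -/
def IsHausdorffH1 (c : Coc W ι) (π : R) : Prop :=
  ∀ w, c.IsTwisted w →
    (∀ m : ℕ, ∃ (w' : ∀ i j, Γ(W, c.V i ⊓ c.V j)) (u : ∀ i, Γ(W, c.V i)), c.IsTwisted w' ∧
      ∀ i j, w i j = ringMap ξ _ (π ^ m) * w' i j + c.dd u i j) →
    ∃ u, ∀ i j, w i j = c.dd u i j

theorem map_span_ringMap (U : W.Opens) (r : R) :
    (Ideal.span {r}).map (ringMap ξ U).hom = Ideal.span {ringMap ξ U r} := by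
  rw [Ideal.map_span, Set.image_singleton]

theorem ker_mk_eq (r : R) : RingHom.ker (CommRingCat.ofHom (Ideal.Quotient.mk (Ideal.span {r}))).hom =
    Ideal.span {r} := Ideal.mk_ker

/-- Dividing a twisted cocycle by a nowhere vanishing section. -/
theorem isCocycle_div {W₀ : Scheme.{u}} (f : W₀ ⟶ W) (c : Coc W ι) (e : ∀ i i', Γ(W, c.V i ⊓ c.V i'))
    (htw : c.IsTwisted e) (v' : ∀ i, Γ(W₀, f ⁻¹ᵁ c.V i))
    (hv' : ∀ (i i' : ι) (U : W₀.Opens) (hi : U ≤ f ⁻¹ᵁ c.V i) (hi' : U ≤ f ⁻¹ᵁ c.V i'),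
      rs hi (v' i) * rs (show U ≤ f ⁻¹ᵁ (c.V i ⊓ c.V i') from le_inf hi hi') (f.app _ (c.g i i')) =
        rs hi' (v' i')) :
    IsCocycle (fun i => f ⁻¹ᵁ c.V i) fun i i' =>
      rs (f.preimage_mono (inf_le_left : c.V i ⊓ c.V i' ≤ c.V i)) (v' i) * f.app (c.V i ⊓ c.V i') (e i i') := by
  intro i i' l U hi hi' hl

  have hU3 : U ≤ f ⁻¹ᵁ (c.V i ⊓ c.V i' ⊓ c.V l) := le_inf (le_inf hi hi') hl
  have h1 := congrArg (f.app (c.V i ⊓ c.V i' ⊓ c.V l))
    (htw i i' l (c.V i ⊓ c.V i' ⊓ c.V l) (inf_le_left.trans inf_le_left) (inf_le_left.trans inf_le_right)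
      inf_le_right)
  rw [map_add, map_mul, app_rs, app_rs, app_rs, app_rs] at h1
  have h2 := congrArg (rs hU3) h1
  rw [map_add, map_mul, rs_rs, rs_rs, rs_rs, rs_rs] at h2
  have h3 := hv' i i' U hi hi'
  show rs _ (_ * _) + rs _ (_ * _) = rs _ (_ * _)
  rw [map_mul, map_mul, map_mul]
  erw [rs_rs, rs_rs, rs_rs]
  linear_combination (rs hi (v' i)) * h2 +
    (-rs (show U ≤ f ⁻¹ᵁ (c.V i' ⊓ c.V l) from le_inf hi' hl) (f.app _ (e i' l))) * h3

theorem isCoboundary_div_slice [IsDomain R] (c : Coc W ι) (hcov : ⨆ i, c.V i = ⊤) {W₀ : Scheme.{u}}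
    (f : W₀ ⟶ W) {T T₀ : Scheme.{u}} (ρ : T ⟶ Spec R) [Flat ρ] [IsSeparated ρ] [QuasiCompact ρ]
    [LocallyOfFinitePresentation ρ] [Surjective ρ] (hρ : ConstFibres ρ) (j : T ⟶ W) (j₀ : T₀ ⟶ W₀) (q : T₀ ⟶ T)
    (hjq : q ≫ j = j₀ ≫ f) (hj : j ≫ ξ = ρ) (hjV : ∀ i, IsAffineOpen (j ⁻¹ᵁ c.V i))
    (hjI : ∀ i i', IsAffineOpen (j ⁻¹ᵁ (c.V i ⊓ c.V i'))) (hτ : (c.pull j).Trivial)
    (v : ∀ i, Γ(W, c.V i)) {π : R} {n : ℕ} (hN : π ^ (n + 1) ≠ 0) (e : ∀ i i', Γ(W, c.V i ⊓ c.V i'))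
    (he : ∀ i i', c.dd v i i' = ringMap ξ (c.V i ⊓ c.V i') (π ^ (n + 1)) * e i i')
    (v' : ∀ i, Γ(W₀, f ⁻¹ᵁ c.V i))
    (hv' : ∀ (i i' : ι) (U : W₀.Opens) (hi : U ≤ f ⁻¹ᵁ c.V i) (hi' : U ≤ f ⁻¹ᵁ c.V i'),
      rs hi (v' i) * rs (show U ≤ f ⁻¹ᵁ (c.V i ⊓ c.V i') from le_inf hi hi') (f.app _ (c.g i i')) =
        rs hi' (v' i')) :
    IsCoboundary (fun i => j₀ ⁻¹ᵁ (f ⁻¹ᵁ c.V i)) fun i i' => j₀.app (f ⁻¹ᵁ c.V i ⊓ f ⁻¹ᵁ c.V i')
      (rs (f.preimage_mono (inf_le_left : c.V i ⊓ c.V i' ≤ c.V i)) (v' i) * f.app (c.V i ⊓ c.V i') (e i i')) := by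

  obtain ⟨τ, hτc, hτu⟩ := hτ
  change ∀ i, Γ(T, j ⁻¹ᵁ c.V i) at τ
  let J : Ideal R := Ideal.span {π ^ (n + 1)}
  let gJ := CommRingCat.ofHom (Ideal.Quotient.mk J)
  let TJ := pullback ρ (quotBase J)
  let π₁ : TJ ⟶ T := pullback.fst _ _
  have hsqJ : IsPullback π₁ (pullback.snd _ _) ρ (quotBase J) := IsPullback.of_hasPullback _ _
  let τ' : ∀ i, Γ(T, j ⁻¹ᵁ c.V i) := fun i => ((hτu i).unit⁻¹ : (Γ(T, j ⁻¹ᵁ c.V i))ˣ).val
  have hττ' : ∀ i, τ i * τ' i = 1 := fun i => (hτu i).mul_val_inv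
  have hτ'c := Coc.compat_inv_of_mul_eq_one (c := c.pull j) hτc hττ'
  let a : ∀ i, Γ(T, j ⁻¹ᵁ c.V i) := fun i => j.app (c.V i) (v i)
  have hda : ∀ i i', rs (j.preimage_mono inf_le_left) (a i) -
      j.app _ (c.g i i') * rs (j.preimage_mono inf_le_right) (a i') =
        ringMap ρ _ (π ^ (n + 1)) * j.app _ (e i i') := fun i i' => by
    have h1 := congrArg (j.app (c.V i ⊓ c.V i')) (he i i')
    rw [Coc.dd, map_sub, map_mul, map_mul, app_rs, app_rs] at h1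
    rw [app_ringMap (𝟙 R) (η := ρ) ⟨by rw [hj, Spec.map_id, Category.comp_id]⟩] at h1
    exact h1
  have hz : ∀ i i', π₁.app (j ⁻¹ᵁ (c.V i ⊓ c.V i')) (rs (j.preimage_mono inf_le_left) (a i * τ' i) -
      rs (j.preimage_mono inf_le_right) (a i' * τ' i')) = 0 := fun i i' => by
    rw [app_eq_zero_iff gJ hsqJ (hjI i i')]
    show _ ∈ (RingHom.ker (CommRingCat.ofHom (Ideal.Quotient.mk (Ideal.span {π ^ (n + 1)}))).hom).map _
    rw [ker_mk_eq, map_span_ringMap, Ideal.mem_span_singleton]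
    refine ⟨j.app _ (e i i') * rs (j.preimage_mono inf_le_left) (τ' i), ?_⟩
    have t1 : rs (j.preimage_mono (inf_le_left : c.V i ⊓ c.V i' ≤ c.V i)) (τ' i) *
        j.app _ (c.g i i') = rs (j.preimage_mono inf_le_right) (τ' i') := by
      have b1 : rs (j.preimage_mono (inf_le_left : c.V i ⊓ c.V i' ≤ c.V i)) (τ i) =
          j.app _ (c.g i i') * rs (j.preimage_mono inf_le_right) (τ i') := hτc i i'
      have a1 : rs (j.preimage_mono (inf_le_left : c.V i ⊓ c.V i' ≤ c.V i)) (τ i) *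
          rs (j.preimage_mono inf_le_left) (τ' i) = 1 := by rw [← map_mul, hττ', map_one]
      have a2 : rs (j.preimage_mono (inf_le_right : c.V i ⊓ c.V i' ≤ c.V i')) (τ i') *
          rs (j.preimage_mono inf_le_right) (τ' i') = 1 := by rw [← map_mul, hττ', map_one]
      linear_combination (-rs (j.preimage_mono inf_le_right) (τ' i') *
        rs (j.preimage_mono inf_le_left) (τ' i)) * b1 + rs (j.preimage_mono inf_le_right) (τ' i') * a1 +
        (-j.app _ (c.g i i') * rs (j.preimage_mono inf_le_left) (τ' i)) * a2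
    rw [map_mul, map_mul]
    linear_combination (rs (j.preimage_mono inf_le_left) (τ' i)) * hda i i' +
      rs (j.preimage_mono inf_le_right) (a i') * t1
  obtain ⟨G, hG⟩ := exists_glue (fun i => π₁ ⁻¹ᵁ (j ⁻¹ᵁ c.V i)) (U := ⊤) (fun x _ => by
      obtain ⟨i, hi⟩ := Opens.mem_iSup.1 (hcov.ge (Opens.mem_top (j (π₁ x))))
      exact Opens.mem_iSup.2 ⟨i, hi⟩) (fun _ => le_top)
    (fun i => π₁.app _ (a i * τ' i)) fun i i' => by
      have h1 := hz i i'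
      rw [map_sub, app_rs, app_rs, sub_eq_zero] at h1
      exact h1
  obtain ⟨r, rfl⟩ := (bijective_ringMap (pullback.snd ρ (quotBase J)) (hρ.baseChange _)).2 G
  obtain ⟨r, rfl⟩ := Ideal.Quotient.mk_surjective r
  have hH' : ∀ i, ∃ h : Γ(T, j ⁻¹ᵁ c.V i),
      a i * τ' i - ringMap ρ (j ⁻¹ᵁ c.V i) r = ringMap ρ (j ⁻¹ᵁ c.V i) (π ^ (n + 1)) * h := fun i => by
    have h1 := (app_eq_zero_iff gJ hsqJ (hjV i) (a i * τ' i - ringMap ρ _ r)).1 (by
      rw [map_sub, app_ringMap gJ hsqJ.toCommSq, ← hG i, rs_ringMap]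
      exact sub_self _)
    rw [ker_mk_eq, map_span_ringMap, Ideal.mem_span_singleton] at h1
    exact h1
  choose h hh using hH'
  let H : ∀ i, Γ(T, j ⁻¹ᵁ c.V i) := fun i => τ i * h i
  have hd : ∀ i i', j.app _ (e i i') = rs (j.preimage_mono inf_le_left) (H i) -
      j.app _ (c.g i i') * rs (j.preimage_mono inf_le_right) (H i') := fun i i' => by
    refine sub_eq_zero.1 (eq_zero_of_ringMap_mul ρ (hjI i i') hN ?_)
    have b1 : rs (j.preimage_mono (inf_le_left : c.V i ⊓ c.V i' ≤ c.V i)) (τ i) =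
        j.app _ (c.g i i') * rs (j.preimage_mono inf_le_right) (τ i') := hτc i i'
    have a1 : rs (j.preimage_mono (inf_le_left : c.V i ⊓ c.V i' ≤ c.V i)) (τ i) *
        rs (j.preimage_mono inf_le_left) (τ' i) = 1 := by rw [← map_mul, hττ', map_one]
    have a2 : rs (j.preimage_mono (inf_le_right : c.V i ⊓ c.V i' ≤ c.V i')) (τ i') *
        rs (j.preimage_mono inf_le_right) (τ' i') = 1 := by rw [← map_mul, hττ', map_one]
    have h1 := congrArg (rs (j.preimage_mono (inf_le_left : c.V i ⊓ c.V i' ≤ c.V i))) (hh i)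
    have h2 := congrArg (rs (j.preimage_mono (inf_le_right : c.V i ⊓ c.V i' ≤ c.V i'))) (hh i')
    simp only [map_sub, map_mul, rs_ringMap] at h1 h2
    simp only [H, map_mul]
    linear_combination -(hda i i') + rs (j.preimage_mono inf_le_left) (τ i) * h1 -
      j.app _ (c.g i i') * rs (j.preimage_mono inf_le_right) (τ i') * h2 -
      rs (j.preimage_mono inf_le_left) (a i) * a1 +
      j.app _ (c.g i i') * rs (j.preimage_mono inf_le_right) (a i') * a2 +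
      ringMap ρ _ r * b1
  clear_value H
  have hopen : ∀ V : W.Opens, j₀ ⁻¹ᵁ (f ⁻¹ᵁ V) ≤ q ⁻¹ᵁ (j ⁻¹ᵁ V) := fun V =>
    le_of_eq (congrArg (fun φ : T₀ ⟶ W => φ ⁻¹ᵁ V) hjq.symm)
  have htr : ∀ (V : W.Opens) (z : Γ(W, V)), j₀.app _ (f.app V z) =
      rs (hopen V) (q.app _ (j.app V z)) := fun V z =>
    ((rs_app_app_of_eq' q j j₀ f hjq (hopen V) le_rfl z).trans (rs_self _ _)).symm
  refine ⟨fun i => j₀.app _ (v' i) * rs (hopen _) (q.app _ (H i)), fun i i' => ?_⟩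
  have h1 := congrArg (fun z => rs (hopen (c.V i ⊓ c.V i')) (q.app _ z)) (hd i i')
  simp only [map_sub, map_mul, app_rs] at h1
  rw [← htr, ← htr] at h1
  erw [rs_rs, rs_rs] at h1
  show rs (j₀.preimage_mono (f.preimage_mono (inf_le_left : c.V i ⊓ c.V i' ≤ c.V i)))
      (j₀.app _ (v' i) * rs (hopen _) (q.app _ (H i))) -
    rs (j₀.preimage_mono (f.preimage_mono (inf_le_right : c.V i ⊓ c.V i' ≤ c.V i')))
      (j₀.app _ (v' i') * rs (hopen _) (q.app _ (H i'))) =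
    j₀.app (f ⁻¹ᵁ (c.V i ⊓ c.V i'))
      (rs (f.preimage_mono (inf_le_left : c.V i ⊓ c.V i' ≤ c.V i)) (v' i) * f.app (c.V i ⊓ c.V i') (e i i'))
  rw [map_mul, map_mul, map_mul, app_rs]
  erw [rs_rs, rs_rs]
  have h3 := congrArg (j₀.app (f ⁻¹ᵁ c.V i ⊓ f ⁻¹ᵁ c.V i')) (hv' i i' _ inf_le_left inf_le_right)
  rw [map_mul, app_rs, app_rs, app_rs] at h3
  erw [rs_self] at h3
  linear_combination
    (-rs (j₀.preimage_mono (f.preimage_mono (inf_le_left : c.V i ⊓ c.V i' ≤ c.V i))) (j₀.app _ (v' i))) * h1 +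
    (rs ((hopen _).trans (q.preimage_mono (j.preimage_mono inf_le_right))) (q.app _ (H i'))) * h3

/-- Lifting a nowhere vanishing section from the special fibre. -/
theorem exists_section_lift [Flat ξ] [IsSeparated ξ] [IsDomain R] [Finite ι] (c : Coc W ι)
    (hcov : ⨆ i, c.V i = ⊤) (hV : ∀ i, IsAffineOpen (c.V i)) (hI : ∀ i j, IsAffineOpen (c.V i ⊓ c.V j))
    (π : R) (hπ : π ≠ 0) (hH : IsHausdorffH1 ξ c π)
    {W₀ : Scheme.{u}} {η : W₀ ⟶ Spec (CommRingCat.of (R ⧸ Ideal.span {π}))} {f : W₀ ⟶ W}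
    (hsq : IsPullback f η ξ (quotBase (Ideal.span {π})))
    {κ : Type} (T T₀ : κ → Scheme.{u}) (ρ : ∀ s, T s ⟶ Spec R) [∀ s, Flat (ρ s)] [∀ s, IsSeparated (ρ s)]
    [∀ s, QuasiCompact (ρ s)] [∀ s, LocallyOfFinitePresentation (ρ s)] [∀ s, Surjective (ρ s)]
    (hρ : ∀ s, ConstFibres (ρ s)) (j : ∀ s, T s ⟶ W) (j₀ : ∀ s, T₀ s ⟶ W₀) (q : ∀ s, T₀ s ⟶ T s)
    (hjq : ∀ s, q s ≫ j s = j₀ s ≫ f) (hj : ∀ s, j s ≫ ξ = ρ s)
    (hjV : ∀ s i, IsAffineOpen (j s ⁻¹ᵁ c.V i)) (hjI : ∀ s i i', IsAffineOpen (j s ⁻¹ᵁ (c.V i ⊓ c.V i')))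
    (hτ : ∀ s, (c.pull (j s)).Trivial)
    (hinj : ∀ e : ∀ i i', Γ(W₀, f ⁻¹ᵁ c.V i ⊓ f ⁻¹ᵁ c.V i'), IsCocycle (fun i => f ⁻¹ᵁ c.V i) e →
      (∀ s, IsCoboundary (fun i => j₀ s ⁻¹ᵁ (f ⁻¹ᵁ c.V i))
        fun i i' => (j₀ s).app (f ⁻¹ᵁ c.V i ⊓ f ⁻¹ᵁ c.V i') (e i i')) →
      IsCoboundary (fun i => f ⁻¹ᵁ c.V i) e)
    (h₀ : (c.pull f).Trivial) :
    ∃ v, c.Compat v ∧ ∀ i, IsUnit (f.app (c.V i) (v i)) := by
  classical
  obtain ⟨v₀, hv₀, hv₀u⟩ := h₀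
  change ∀ i, Γ(W₀, f ⁻¹ᵁ c.V i) at v₀
  let g := CommRingCat.ofHom (Ideal.Quotient.mk (Ideal.span {π}))
  have hg : Function.Surjective g.hom := Ideal.Quotient.mk_surjective
  have hdvd : ∀ {U : W.Opens}, IsAffineOpen U → ∀ (z : Γ(W, U)), f.app U z = 0 → ∃ y, z = ringMap ξ U π * y :=
    fun {U} hU z hz => by
      have h := mem_map_ker_of_app_eq_zero g hsq hU z hz
      rw [ker_mk_eq, map_span_ringMap, Ideal.mem_span_singleton] at h
      exact h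
  have hkill : ∀ (U : W.Opens) (m : ℕ), f.app U (ringMap ξ U (π ^ (m + 1))) = 0 := fun U m => by
    rw [app_ringMap g hsq.toCommSq, show g (π ^ (m + 1)) = 0 from Ideal.Quotient.eq_zero_iff_mem.2
      (Ideal.mem_span_singleton.2 (dvd_pow_self π m.succ_ne_zero)), map_zero]
  choose V₁ hV₁ using fun i => app_surjective g hsq (hV i) hg (v₀ i)
  have hstep : ∀ n, ∃ v : ∀ i, Γ(W, c.V i), (∀ i, f.app (c.V i) (v i) = v₀ i) ∧
      ∀ i i', ∃ y : Γ(W, c.V i ⊓ c.V i'), c.dd v i i' = ringMap ξ (c.V i ⊓ c.V i') (π ^ (n + 1)) * y := by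
    intro n
    induction n with
    | zero =>
      refine ⟨V₁, hV₁, fun i i' => ?_⟩
      rw [pow_one]
      refine hdvd (hI i i') _ ?_
      have h1 := hv₀ i i'
      rw [Coc.dd, map_sub, map_mul, app_rs, app_rs, hV₁, hV₁, sub_eq_zero]
      exact h1
    | succ n IH =>
      obtain ⟨v, hv, hdv⟩ := IH
      choose e he using hdv
      have hN : π ^ (n + 1) ≠ 0 := pow_ne_zero _ hπ
      have htw : c.IsTwisted e := Coc.isTwisted_of_dd_eq ξ c v hN e he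
      let v' : ∀ i, Γ(W₀, f ⁻¹ᵁ c.V i) := fun i => ((hv₀u i).unit⁻¹ : (Γ(W₀, f ⁻¹ᵁ c.V i))ˣ).val
      have hvv' : ∀ i, v₀ i * v' i = 1 := fun i => (hv₀u i).mul_val_inv
      have hv' : ∀ (i i' : ι) (U : W₀.Opens) (hi : U ≤ f ⁻¹ᵁ c.V i) (hi' : U ≤ f ⁻¹ᵁ c.V i'),
          rs hi (v' i) * rs (show U ≤ f ⁻¹ᵁ (c.V i ⊓ c.V i') from le_inf hi hi') (f.app _ (c.g i i')) =
            rs hi' (v' i') := fun i i' U hi hi' => by
        have h1 : rs hi (v₀ i) = rs (show U ≤ f ⁻¹ᵁ (c.V i ⊓ c.V i') from le_inf hi hi') (f.app _ (c.g i i')) *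
          rs hi' (v₀ i') := (show (c.pull f).Compat v₀ from hv₀).res i i' U hi hi'
        have a1 : rs hi (v₀ i) * rs hi (v' i) = 1 := by rw [← map_mul, hvv', map_one]
        have a2 : rs hi' (v₀ i') * rs hi' (v' i') = 1 := by rw [← map_mul, hvv', map_one]
        linear_combination (-rs hi' (v' i') * rs hi (v' i)) * h1 + rs hi' (v' i') * a1 +
          (-rs (show U ≤ f ⁻¹ᵁ (c.V i ⊓ c.V i') from le_inf hi hi') (f.app _ (c.g i i')) * rs hi (v' i)) * a2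
      let F : ∀ i i', Γ(W₀, f ⁻¹ᵁ c.V i ⊓ f ⁻¹ᵁ c.V i') := fun i i' =>
        rs (f.preimage_mono (inf_le_left : c.V i ⊓ c.V i' ≤ c.V i)) (v' i) * f.app (c.V i ⊓ c.V i') (e i i')
      have hF : IsCocycle (fun i => f ⁻¹ᵁ c.V i) F := isCocycle_div f c e htw v' hv'
      have hFs : ∀ s, IsCoboundary (fun i => j₀ s ⁻¹ᵁ (f ⁻¹ᵁ c.V i))
          fun i i' => (j₀ s).app (f ⁻¹ᵁ c.V i ⊓ f ⁻¹ᵁ c.V i') (F i i') := fun s =>
        isCoboundary_div_slice ξ c hcov f (ρ s) (hρ s) (j s) (j₀ s) (q s) (hjq s) (hj s) (hjV s) (hjI s) (hτ s)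
          v hN e he v' hv'
      obtain ⟨u, hu⟩ := hinj F hF hFs
      choose H hH using fun i => app_surjective g hsq (hV i) hg (u i * v₀ i)
      refine ⟨fun i => v i - ringMap ξ _ (π ^ (n + 1)) * H i, fun i => ?_, fun i i' => ?_⟩
      · rw [map_sub, map_mul, hkill, zero_mul, sub_zero, hv]
      · have h0 : f.app _ (e i i' - c.dd H i i') = 0 := by
          rw [Coc.dd, map_sub, map_sub, map_mul, app_rs, app_rs, hH, hH, map_mul, map_mul]
          have h1 : rs (inf_le_left : f ⁻¹ᵁ c.V i ⊓ f ⁻¹ᵁ c.V i' ≤ _) (u i) -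
              rs (inf_le_right : f ⁻¹ᵁ c.V i ⊓ f ⁻¹ᵁ c.V i' ≤ _) (u i') =
              rs (f.preimage_mono (inf_le_left : c.V i ⊓ c.V i' ≤ c.V i)) (v' i) * f.app (c.V i ⊓ c.V i') (e i i') := hu i i'
          have h2 : rs (f.preimage_mono inf_le_left) (v₀ i) =
              f.app _ (c.g i i') * rs (f.preimage_mono inf_le_right) (v₀ i') := hv₀ i i'
          have a1 : rs (f.preimage_mono (inf_le_left : c.V i ⊓ c.V i' ≤ c.V i)) (v₀ i) *
              rs (f.preimage_mono inf_le_left) (v' i) = 1 := by rw [← map_mul, hvv', map_one]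
          linear_combination (-rs (f.preimage_mono inf_le_left) (v₀ i)) * h1 -
            rs (f.preimage_mono inf_le_right) (u i') * h2 - f.app (c.V i ⊓ c.V i') (e i i') * a1
        obtain ⟨y, hy⟩ := hdvd (hI i i') _ h0
        refine ⟨y, ?_⟩
        have h3 : c.dd (fun i => v i - ringMap ξ _ (π ^ (n + 1)) * H i) i i' =
            c.dd v i i' - ringMap ξ _ (π ^ (n + 1)) * c.dd H i i' := by
          simp only [Coc.dd, map_sub, map_mul, rs_ringMap]; ring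
        rw [h3, he, ← mul_sub, hy, ← mul_assoc, ← map_mul, ← pow_succ]
  obtain ⟨v₁, hv₁, hdv₁⟩ := hstep 0
  choose w hw using hdv₁
  simp only [zero_add, pow_one] at hw
  have htw : c.IsTwisted w := Coc.isTwisted_of_dd_eq ξ c v₁ hπ w hw
  obtain ⟨u, hu⟩ := hH w htw fun m => by
    obtain ⟨v, hv, hdv⟩ := hstep m
    choose w' hw' using hdv
    choose z hz using fun i => hdvd (hV i) (v₁ i - v i) (by rw [map_sub, hv₁, hv, sub_self])
    have key : ∀ i i', w i i' = ringMap ξ _ (π ^ m) * w' i i' + c.dd z i i' := fun i i' => by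
      refine sub_eq_zero.1 (eq_zero_of_ringMap_mul ξ (hI i i') hπ ?_)
      have h1 := congrArg (rs (inf_le_left : c.V i ⊓ c.V i' ≤ c.V i)) (hz i)
      have h2 := congrArg (rs (inf_le_right : c.V i ⊓ c.V i' ≤ c.V i')) (hz i')
      have h3 := hw i i'
      have h4 := hw' i i'
      simp only [Coc.dd, map_sub, map_mul, rs_ringMap, map_pow, pow_succ] at h1 h2 h3 h4 ⊢
      linear_combination -h3 + h4 + h1 - c.g i i' * h2
    exact ⟨w', z, Coc.isTwisted_of_dd_eq ξ c v (pow_ne_zero (m + 1) hπ) w' hw', key⟩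
  refine ⟨fun i => v₁ i - ringMap ξ _ π * u i, fun i i' => ?_, fun i => ?_⟩
  · have h1 := hw i i'
    rw [hu i i'] at h1
    simp only [Coc.dd] at h1
    simp only [map_sub, map_mul, rs_ringMap]
    linear_combination h1
  · rw [map_sub, map_mul, ← pow_one π, hkill, zero_mul, sub_zero, hv₁]
    exact hv₀u i

end Groth.Agent.CubeField
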