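import Groth.Agent.Lib.CubeField.SameDivisor
import Groth.Agent.Lib.CubeField.Simple
import Groth.Agent.Lib.SmoothReg17.Basic
import Groth.Agent.Lib.RegLoc.UFD

/-!
# Effective non-degenerate modules are ample
-/

universe u

open CategoryTheory Limits MonoidalCategory CartesianMonoidalCategory AlgebraicGeometry
  TopologicalSpace TensorProduct

set_option linter.style.haveILetI false
set_option backward.isDefEq.respectTransparency false

namespace Groth.Agent.CubeField

open Amp

section Pull

open Groth.Agent.M2 (pullSec res IsGenerator)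

variable {X Y : Scheme.{u}} (f : Y ⟶ X) {M : X.Modules}

/-- The germ of a pulled back section. -/
theorem exists_gm_pullSec {U : X.Opens} {y : Y} (hy : f y ∈ U) (t : Γ(M, U)) {c : X.presheaf.stalk (f y)}
    {g : (M.presheaf.stalk (f y) : Type u)} (hg : Gen g) (hc : gm M (f y) hy t = c • g) :
    ∃ g' : (((Scheme.Modules.pullback f).obj M).presheaf.stalk y : Type u), Gen g' ∧
      gm ((Scheme.Modules.pullback f).obj M) y (U := f ⁻¹ᵁ U) hy (pullSec f M t) = f.stalkMap y c • g' := by
  let B := (Y.presheaf.stalk y : Type u)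
  refine ⟨M2.pullStalkEquiv f y M ((1 : B) ⊗ₜ g), ?_, ?_⟩
  · have e1 : (fun r : B => r • M2.pullStalkEquiv f y M ((1 : B) ⊗ₜ g)) = M2.pullStalkEquiv f y M ∘
        TensorProduct.congr (LinearEquiv.refl (X.presheaf.stalk (f y)) B)
          (LinearEquiv.ofBijective (LinearMap.toSpanSingleton (X.presheaf.stalk (f y)) _ g) hg) ∘
        (TensorProduct.rid (X.presheaf.stalk (f y)) B).symm := funext fun r => by
      simp only [Function.comp_apply, TensorProduct.rid_symm_apply, TensorProduct.congr_tmul,
        LinearEquiv.refl_apply, LinearEquiv.ofBijective_apply, LinearMap.toSpanSingleton_apply, one_smul,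
        ← map_smul, TensorProduct.smul_tmul', smul_eq_mul, mul_one]
    change Function.Bijective fun r : B => r • _
    rw [e1]
    exact (M2.pullStalkEquiv f y M).bijective.comp ((LinearEquiv.bijective _).comp (LinearEquiv.bijective _))
  · refine (M2.pullStalkEquiv_tmul f y M hy t).symm.trans ?_
    rw [show M.presheaf.germ U (f y) hy t = c • g from hc, TensorProduct.tmul_smul, ← map_smul]
    congr 1

/-- A pulled back section. -/
noncomputable abbrev pullSection (s : Coh.structureModule X ⟶ M) :
    Coh.structureModule Y ⟶ (Scheme.Modules.pullback f).obj M :=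
  M1.secHom (pullSec f M (U := ⊤) (gval s))

theorem mem_genLocus_pullSection (hM : PicF.IsInvertible M) (s : Coh.structureModule X ⟶ M) (y : Y) :
    y ∈ CohB1.genLocus _ (pullSection f s) ↔ f y ∈ CohB1.genLocus M s := by
  rw [mem_genLocus_iff (PicLoc.isInvertible_pullback f hM), mem_genLocus_iff hM, gval_secHom]
  exact gen_pullSec_iff f hM (U := ⊤) (y := y) trivial _

end Pull

/-- Coefficients at equal points. -/
theorem exists_stalk_equiv {X : Scheme.{u}} (M : X.Modules) {x z : X} (h : x = z) :
    ∃ τ : X.presheaf.stalk z ≃+* X.presheaf.stalk x, ∀ (t : Γ(M, ⊤)) (c : X.presheaf.stalk x)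
      (g : (M.presheaf.stalk x : Type u)) (c' : X.presheaf.stalk z) (g' : (M.presheaf.stalk z : Type u)),
      Gen g → Gen g' → gm M x (U := ⊤) trivial t = c • g → gm M z (U := ⊤) trivial t = c' • g' →
        Associated (τ c') c := by
  subst h
  refine ⟨RingEquiv.refl _, fun t c g c' g' hg hg' hc hc' => ?_⟩
  obtain ⟨w, hw⟩ := hg.2 g'
  obtain ⟨u, hu⟩ := (hg.ne_zero_smul w).1 ((congrArg Gen hw).mpr hg')
  refine ⟨u, hg.1 ?_⟩
  show (c' * _) • g = c • g
  rw [mul_smul, hu, ← hc, hc']
  exact congrArg (c' • ·) hw

variable {k : Type u} [Field k] [IsAlgClosed k] {A : Over (Spec (CommRingCat.of k))} [GrpObj A]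
  [IsProper A.hom] [GeometricallyIntegral A.hom] {N : A.left.Modules}

open scoped MonObj GrpObj

noncomputable local instance instLawN (Y : Scheme.{u}) : PicGrp.Law Y := M2.law Y

/-- An effective module moved only by finitely many translations is ample. -/
theorem isAmple_of_finite_fixing (hfin : FinH1.{u}) (hN : PicF.IsInvertible N) (s : Coh.structureModule A.left ⟶ N)
    (hne : (CohB1.genLocus N s : Set A.left).Nonempty)
    (hnd : {a : 𝟙_ (Over (Spec (CommRingCat.of k))) ⟶ A |
      Nonempty ((Scheme.Modules.pullback (trans₁ a).left).obj N ≅ N)}.Finite) :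
    CohB1.IsAmple N := by
  haveI := isCommMonObj_of_isProper_of_geometricallyIntegral A
  haveI : IsIntegral A.left := GeometricallyIntegral.isIntegral_of_subsingleton A.hom
  haveI : JacobsonSpace A.left := LocallyOfFiniteType.jacobsonSpace A.hom
  haveI : GrpObj (Over.mk A.hom) := ‹GrpObj A›
  haveI : Smooth A.hom := smooth_of_grpObj A.hom
  refine isAmple_of_finite_componentStabilizer hfin hN s hne (hnd.subset fun a ha => ?_)
  set t := (trans₁ a).left with ht
  have hpre : ∀ (E : Set A.left), IsClosed E → IsIrreducible E →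
      E ⊆ (CohB1.genLocus N s : Set A.left)ᶜ →
      (∀ T : Set A.left, IsClosed T → IsIrreducible T → T ⊆ (CohB1.genLocus N s : Set A.left)ᶜ → E ⊆ T → T = E) →
      t '' E = E := ha
  have hfix : ∀ z : A.left, z ∉ CohB1.genLocus N s → (∀ y, y ⤳ z → y = z ∨ y = genericPoint A.left) → t z = z := by
    intro z hz hcod
    have hclU : closure {z} ⊆ (CohB1.genLocus N s : Set A.left)ᶜ :=
      closure_minimal (Set.singleton_subset_iff.2 hz) (CohB1.genLocus N s).isOpen.isClosed_compl
    have hE := hpre (closure {z}) isClosed_closure isIrreducible_singleton.closure hclU fun T hTc hTi hTs hzT => by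
      have hg := hTi.closure_genericPoint hTc
      rcases hcod hTi.genericPoint (specializes_iff_mem_closure.2 (hg.ge (hzT (subset_closure rfl)))) with h | h
      · rw [← hg, h]
      · exfalso
        obtain ⟨w, hw⟩ := hne
        exact hTs (hg.le (by rw [h]; exact specializes_iff_mem_closure.1 (genericPoint_specializes w))) hw
    have h1 : IsGenericPoint (t z) (closure {z}) := by
      have h2 := (isGenericPoint_closure (x := z)).image t.continuous
      rwa [hE, closure_closure] at h2
    exact (h1.eq (isGenericPoint_closure (x := z)))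
  have hopen : ∀ z : A.left, (∀ y, y ⤳ z → y = z ∨ y = genericPoint A.left) →
      z ∈ CohB1.genLocus N s → t z ∈ CohB1.genLocus N s := by
    intro z hcod hz
    by_contra hcon
    have hcod' : ∀ y, y ⤳ t z → y = t z ∨ y = genericPoint A.left := by
      intro y hy
      obtain ⟨w, rfl⟩ := t.homeomorph.surjective y
      rcases hcod w (t.homeomorph.isInducing.specializes_iff.1 hy) with rfl | rfl
      · exact Or.inl rfl
      · refine Or.inr (((genericPoint_specializes _).antisymm ?_).eq).symm
        obtain ⟨v, hv⟩ := t.homeomorph.surjective (genericPoint A.left)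
        exact hv ▸ (genericPoint_specializes v).map t.continuous
    exact hcon ((show t z = z from t.homeomorph.injective (hfix _ hcon hcod')).symm ▸ hz)
  have hN' := PicLoc.isInvertible_pullback t hN
  have hne' : (CohB1.genLocus _ (pullSection t s) : Set A.left).Nonempty := by
    obtain ⟨w, hw⟩ := hne
    obtain ⟨v, rfl⟩ := t.homeomorph.surjective w
    exact ⟨v, (mem_genLocus_pullSection t hN s v).2 hw⟩
  refine nonempty_iso_of_codim_one hN' hN (fun x => ?_) (pullSection t s) s hne' hne
    fun z hz c c' g g' hg hg' hc hc' => ?_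
  · haveI := SmoothReg17.isRegularLocalRing_stalk A.hom x
    haveI := RegLoc.isDomain (A.left.presheaf.stalk x)
    exact RegLoc.ufd_of_isRegularLocalRing _
  by_cases hzU : z ∈ CohB1.genLocus N s
  · have h1 : IsUnit c := (hg.ne_zero_smul c).1
      (hc ▸ (mem_genLocus_iff hN' _).1 ((mem_genLocus_pullSection t hN s z).2 (hopen z hz hzU)))
    have h2 : IsUnit c' := (hg'.ne_zero_smul c').1 (hc' ▸ (mem_genLocus_iff hN s).1 hzU)
    exact (associated_one_iff_isUnit.2 h1).trans (associated_one_iff_isUnit.2 h2).symm
  · have hfz := hfix z hzU hz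
    obtain ⟨τ, hτ⟩ := exists_stalk_equiv N hfz
    obtain ⟨γ, hγ⟩ := exists_stalk_gen hN (t z)
    obtain ⟨d, hd⟩ := hγ.2 (gm N (t z) (U := ⊤) trivial (gval s))
    obtain ⟨γ', hγ', hd'⟩ := exists_gm_pullSec t (U := ⊤) (y := z) trivial (gval s) hγ hd.symm
    haveI := SmoothReg17.isRegularLocalRing_stalk A.hom z
    haveI := RegLoc.isDomain (A.left.presheaf.stalk z)
    haveI := RegLoc.ufd_of_isRegularLocalRing (A.left.presheaf.stalk z)
    let σ : A.left.presheaf.stalk z ≃+* A.left.presheaf.stalk z :=
      τ.trans (asIso (t.stalkMap z)).commRingCatIsoToRingEquiv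
    obtain ⟨w, hw⟩ := hγ'.2 g
    obtain ⟨u, hu⟩ := (hγ'.ne_zero_smul w).1 ((congrArg Gen hw).mpr hg)
    have h1 : Associated c (t.stalkMap z d) := ⟨u, hγ'.1 (by
      show (c * _) • γ' = _ • γ'
      rw [mul_smul, hu, ← hd', ← gval_secHom (M2.pullSec t N (U := ⊤) (gval s))]
      exact (congrArg (c • ·) hw).trans hc.symm)⟩
    have h2 : Associated (σ c') (t.stalkMap z d) :=
      (hτ (gval s) d γ c' g' hγ hg' hd.symm hc').map (asIso (t.stalkMap z)).commRingCatIsoToRingEquiv
    exact h1.trans (h2.symm.trans (associated_equiv (fun p q hp hq => associated_primes_of_codim_one hz hp hq) σ c'))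

end Groth.Agent.CubeField
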