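import Groth.Agent.Lib.Ample18.Avoid
import Groth.Agent.Lib.SecDiv18.Peel
import Mathlib.AlgebraicGeometry.FunctionField
import Mathlib.RingTheory.UniqueFactorizationDomain.Basic

/-!
# Invertible modules with sections having the same divisor

On an integral scheme with factorial local rings, an invertible module with a nonzero section is
determined by the orders of the section at the points of codimension one.
-/

universe u

open CategoryTheory Limits AlgebraicGeometry TopologicalSpace Opposite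

set_option linter.style.haveILetI false
set_option backward.isDefEq.respectTransparency false

namespace Groth.Agent.CubeField

open Amp

/-- Associatedness in a factorial ring is checked after localising at the primes of height one. -/
theorem associated_of_forall_prime {R : Type u} [CommRing R] [IsDomain R] [UniqueFactorizationMonoid R]
    {c c' : R} (hc : c ≠ 0) (hc' : c' ≠ 0)
    (h : ∀ π : R, Prime π → ∃ (S : Type u) (_ : CommRing S) (_ : IsDomain S) (f : R →+* S),
      Function.Injective f ∧ (∀ r, IsUnit (f r) ↔ ¬ π ∣ r) ∧ Associated (f c) (f c')) :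
    Associated c c' := by
  have key : ∀ c : R, c ≠ 0 → ∀ c' : R,
      (∀ π : R, Prime π → ∃ (S : Type u) (_ : CommRing S) (_ : IsDomain S) (f : R →+* S),
        Function.Injective f ∧ (∀ r, IsUnit (f r) ↔ ¬ π ∣ r) ∧ Associated (f c) (f c')) → c ∣ c' := by
    intro c
    induction c using UniqueFactorizationMonoid.induction_on_prime with
    | h₁ => exact fun h => absurd rfl h
    | h₂ a ha => exact fun _ c' _ => ha.dvd
    | h₃ a p ha hp ih =>
      intro _ c' h
      obtain ⟨S, _, _, f, -, hf, hass⟩ := h p hp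
      have hpc : p ∣ c' := by
        by_contra hn
        exact (hf (p * a)).1 (hass.symm.isUnit ((hf c').2 hn)) (dvd_mul_right p a)
      obtain ⟨b, rfl⟩ := hpc
      refine mul_dvd_mul_left p (ih ha b fun π hπ => ?_)
      obtain ⟨S, hS, hS', f, hinj, hf, hass⟩ := h π hπ
      rw [map_mul, map_mul] at hass
      exact ⟨S, hS, hS', f, hinj, hf,
        Associated.of_mul_left hass (Associated.refl _) ((map_ne_zero_iff f hinj).2 hp.ne_zero)⟩
  exact associated_of_dvd_dvd (key c hc c' h) (key c' hc' c fun π hπ => by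
    obtain ⟨S, hS, hS', f, hinj, hf, hass⟩ := h π hπ
    exact ⟨S, hS, hS', f, hinj, hf, hass.symm⟩)

/-- A ring isomorphism preserves associatedness classes when all primes are associated. -/
theorem associated_equiv {R : Type u} [CommRing R] [IsDomain R] [UniqueFactorizationMonoid R]
    (h : ∀ p q : R, Prime p → Prime q → Associated p q) (σ : R ≃+* R) (c : R) : Associated (σ c) c := by
  induction c using UniqueFactorizationMonoid.induction_on_prime with
  | h₁ => rw [map_zero]
  | h₂ a ha => exact associated_one_iff_isUnit.2 (ha.map σ) |>.trans (associated_one_iff_isUnit.2 ha).symm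
  | h₃ a p ha hp ih =>
    rw [map_mul]
    exact (h _ _ ((MulEquiv.prime_iff σ.toMulEquiv).2 hp) hp).mul_mul ih

variable {X : Scheme.{u}}

theorem stalkSpecializes_injective [IsIntegral X] {x z : X} (h : z ⤳ x) :
    Function.Injective (X.presheaf.stalkSpecializes h) := by
  rw [injective_iff_map_eq_zero]
  intro r hr
  obtain ⟨W, hxW, a, rfl⟩ := X.presheaf.germ_exist r
  rw [TopCat.Presheaf.germ_stalkSpecializes_apply] at hr
  rw [germ_injective_of_isIntegral X z (h.mem_open W.isOpen hxW) (hr.trans (map_zero _).symm), map_zero]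

/-- The points generalising `x` correspond to primes of the local ring. -/
theorem exists_point_of_prime {x : X} (P : Ideal (X.presheaf.stalk x)) [P.IsPrime] :
    ∃ (z : X) (h : z ⤳ x), ∀ r, IsUnit (X.presheaf.stalkSpecializes h r) ↔ r ∉ P := by
  obtain ⟨V, hV, hxV, -⟩ := exists_isAffineOpen_mem_and_subset (X := X) (x := x) (U := ⊤) trivial
  let g := (X.presheaf.germ V x hxV).hom
  let q : PrimeSpectrum Γ(X, V) := ⟨P.comap g, inferInstance⟩
  let z := hV.fromSpec q
  have hzV : z ∈ V := hV.range_fromSpec.le ⟨q, rfl⟩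
  have hq : hV.primeIdealOf ⟨z, hzV⟩ = q :=
    hV.fromSpec.isOpenEmbedding.injective (hV.fromSpec_primeIdealOf ⟨z, hzV⟩)
  have hle : q.asIdeal ≤ (hV.primeIdealOf ⟨x, hxV⟩).asIdeal := fun b hb => by
    by_contra hn
    exact ‹P.IsPrime›.ne_top
      (P.eq_top_of_isUnit_mem hb ((M1.isUnit_germ_iff hV hxV b).2 hn))
  have h : z ⤳ x := by
    have h := ((PrimeSpectrum.le_iff_specializes q _).1 hle).map hV.fromSpec.continuous
    rwa [hV.fromSpec_primeIdealOf ⟨x, hxV⟩] at h
  refine ⟨z, h, fun r => ?_⟩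
  letI := TopCat.Presheaf.algebra_section_stalk X.presheaf (⟨x, hxV⟩ : V)
  haveI := hV.isLocalization_stalk ⟨x, hxV⟩
  obtain ⟨⟨b, d⟩, hbd⟩ := IsLocalization.surj (hV.primeIdealOf ⟨x, hxV⟩).asIdeal.primeCompl r
  replace hbd : r * g d = g b := hbd
  have hd : IsUnit (g d) := (M1.isUnit_germ_iff hV hxV d).2 d.2
  have h1 : IsUnit (X.presheaf.stalkSpecializes h r) ↔ IsUnit (X.presheaf.stalkSpecializes h (g b)) := by
    rw [← hbd, map_mul, IsUnit.mul_iff, and_iff_left (hd.map (X.presheaf.stalkSpecializes h).hom)]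
  rw [h1]
  show IsUnit (X.presheaf.stalkSpecializes h (X.presheaf.germ V x hxV b)) ↔ _
  rw [TopCat.Presheaf.germ_stalkSpecializes_apply, M1.isUnit_germ_iff hV hzV b, hq]
  show ¬ (g b ∈ P) ↔ _
  rw [← hbd, not_iff_not]
  exact ⟨fun hb => (‹P.IsPrime›.mem_or_mem hb).resolve_right fun hdP =>
    ‹P.IsPrime›.ne_top (P.eq_top_of_isUnit_mem hdP hd), fun hr => P.mul_mem_right _ hr⟩

/-- A generalisation is determined by the elements of the local ring invertible there. -/
theorem eq_of_isUnit_iff {x y z : X} (hy : y ⤳ x) (hz : z ⤳ x)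
    (h : ∀ r, IsUnit (X.presheaf.stalkSpecializes hy r) ↔ IsUnit (X.presheaf.stalkSpecializes hz r)) : y = z := by
  obtain ⟨V, hV, hxV, -⟩ := exists_isAffineOpen_mem_and_subset (X := X) (x := x) (U := ⊤) trivial
  have hyV : y ∈ V := hy.mem_open V.isOpen hxV
  have hzV : z ∈ V := hz.mem_open V.isOpen hxV
  refine SecDiv.eq_of_prime_eq hV hzV hyV (Ideal.ext fun b => not_iff_not.1 ?_)
  have := h (X.presheaf.germ V x hxV b)
  rwa [TopCat.Presheaf.germ_stalkSpecializes_apply, TopCat.Presheaf.germ_stalkSpecializes_apply,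
    M1.isUnit_germ_iff hV hyV, M1.isUnit_germ_iff hV hzV] at this

/-- Nothing nonzero is invertible at the generic point only. -/
theorem isUnit_stalkSpecializes_genericPoint [IsIntegral X] {x : X} (h : genericPoint X ⤳ x)
    {r : X.presheaf.stalk x} (hr : r ≠ 0) : IsUnit (X.presheaf.stalkSpecializes h r) :=
  isUnit_iff_ne_zero.2 (show (X.presheaf.stalkSpecializes h r : X.functionField) ≠ 0 from
    (map_ne_zero_iff _ (stalkSpecializes_injective h)).2 hr)

/-- The primes of the local ring at a point of codimension one are associated. -/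
theorem associated_primes_of_codim_one [IsIntegral X] {z : X}
    (hz : ∀ y, y ⤳ z → y = z ∨ y = genericPoint X) {p q : X.presheaf.stalk z} (hp : Prime p) (hq : Prime q) :
    Associated p q := by
  have key : ∀ p : X.presheaf.stalk z, Prime p → Ideal.span {p} = IsLocalRing.maximalIdeal _ := by
    intro p hp
    haveI : (Ideal.span {p}).IsPrime := (Ideal.span_singleton_prime hp.ne_zero).2 hp
    obtain ⟨y, hy, hcrit⟩ := exists_point_of_prime (X := X) (Ideal.span {p})
    rcases hz y hy with rfl | rfl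
    · ext r
      have := hcrit r
      rw [show X.presheaf.stalkSpecializes hy = 𝟙 _ from X.presheaf.stalkSpecializes_refl _] at this
      change IsUnit r ↔ _ at this
      rw [IsLocalRing.mem_maximalIdeal, mem_nonunits_iff, this, not_not]
    · exact absurd (Ideal.mem_span_singleton_self p)
        ((hcrit p).1 (isUnit_stalkSpecializes_genericPoint hy hp.ne_zero))
  exact Ideal.span_singleton_eq_span_singleton.1 ((key p hp).trans (key q hq).symm)

/-- The point of a prime element is of codimension one. -/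
theorem exists_codim_one_point [IsIntegral X] {x : X} [UniqueFactorizationMonoid (X.presheaf.stalk x)]
    {π : X.presheaf.stalk x} (hπ : Prime π) :
    ∃ (z : X) (h : z ⤳ x), (∀ r, IsUnit (X.presheaf.stalkSpecializes h r) ↔ ¬ π ∣ r) ∧
      ∀ y, y ⤳ z → y = z ∨ y = genericPoint X := by
  haveI : (Ideal.span {π}).IsPrime := (Ideal.span_singleton_prime hπ.ne_zero).2 hπ
  obtain ⟨z, h, hcrit⟩ := exists_point_of_prime (X := X) (Ideal.span {π})
  refine ⟨z, h, fun r => by rw [hcrit, Ideal.mem_span_singleton], fun y hy => ?_⟩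
  let gy := (X.presheaf.stalkSpecializes (hy.trans h)).hom
  let Q := (IsLocalRing.maximalIdeal (X.presheaf.stalk y)).comap gy
  have hQP : Q ≤ Ideal.span {π} := fun r hr => by
    by_contra hn
    refine hr ?_
    have := ((hcrit r).2 hn).map (X.presheaf.stalkSpecializes hy).hom
    rwa [← ConcreteCategory.comp_apply, TopCat.Presheaf.stalkSpecializes_comp] at this
  by_cases hQ : Q = ⊥
  · right
    have hη := genericPoint_specializes x
    refine eq_of_isUnit_iff (hy.trans h) hη fun r => ?_
    rcases eq_or_ne r 0 with rfl | hr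
    · simp
    · refine iff_of_true ?_ (isUnit_stalkSpecializes_genericPoint hη hr)
      by_contra hn
      exact hr ((Submodule.eq_bot_iff _).1 hQ r hn)
  · left
    obtain ⟨ρ, hρQ, hρ⟩ := Ideal.IsPrime.exists_mem_prime_of_ne_bot (inferInstanceAs Q.IsPrime) hQ
    have hPQ : Ideal.span {π} ≤ Q := by
      obtain ⟨w, hw⟩ := Ideal.mem_span_singleton.1 (hQP hρQ)
      rw [Ideal.span_le, Set.singleton_subset_iff]
      have : Associated π ρ := hπ.associated_of_dvd hρ ⟨w, hw⟩
      exact Ideal.mem_of_dvd _ this.symm.dvd hρQ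
    refine eq_of_isUnit_iff (hy.trans h) h fun r => ?_
    rw [hcrit, ← hQP.antisymm hPQ]
    exact not_iff_not.1 (by simp [Q, gy])

variable [IsIntegral X] {M M' D D' : X.Modules}

/-- A section with nonempty locus vanishes nowhere identically. -/
theorem gm_ne_zero (hM : PicF.IsInvertible M) (s : Coh.structureModule X ⟶ M)
    (hne : (CohB1.genLocus M s : Set X).Nonempty) (x : X) : gm M x (U := ⊤) trivial (gval s) ≠ 0 := by
  intro h0
  obtain ⟨W, hxW, i, i', hW⟩ := M.presheaf.germ_eq x (U := ⊤) (V := ⊤) trivial trivial (gval s) (0 : Γ(M, ⊤))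
    (h0.trans (map_zero _).symm)
  obtain ⟨w, hwW, hwU⟩ := nonempty_preirreducible_inter W.isOpen (CohB1.genLocus M s).isOpen ⟨x, hxW⟩ hne
  refine not_gen_zero hM w ?_
  have h1 := (mem_genLocus_iff hM s).1 hwU
  rw [← gm_res (le_top : W ≤ ⊤) hwW] at h1
  rwa [show M2.res M (le_top : W ≤ ⊤) (gval s) = M2.res M (le_top : W ≤ ⊤) (0 : Γ(M, ⊤)) from hW,
    gm_res, show gm M w (U := ⊤) trivial (0 : Γ(M, ⊤)) = 0 from map_zero _] at h1

open Groth.Agent.M2 (tsec IsGenerator res)

/-- Multiplication by a section, as a map of an inverse module into the structure sheaf, and its image. -/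
theorem exists_mul_section (hM : PicF.IsInvertible M) (hD : PicF.IsInvertible D)
    (e : CohB1.tensorMod M D ≅ Coh.structureModule X) (s : Coh.structureModule X ⟶ M)
    (hne : (CohB1.genLocus M s : Set X).Nonempty) :
    ∃ φ : D ⟶ Coh.structureModule X, Mono φ ∧ ∀ (x : X) (c : X.presheaf.stalk x)
      (g : (M.presheaf.stalk x : Type u)), Gen g → gm M x (U := ⊤) trivial (gval s) = c • g →
        ∀ v : ((Coh.structureModule X).presheaf.stalk x : Type u),
          (∃ p, M2.stMap ((M2.pmF X).map φ) x p = v) ↔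
            ∃ r : X.presheaf.stalk x, (r * c) • gm (Coh.structureModule X) x (U := ⊤) trivial (M1.one ⊤) = v := by
  let τ := M2.tensorMap s (𝟙 D)
  refine ⟨(M2.tensorLUnit D).inv ≫ τ ≫ e.hom, ?_, ?_⟩
  rotate_left
  · intro x c g hg hc v
    obtain ⟨V, g', hxV, -, -, hg'⟩ := exists_isGenerator hD (V := ⊤) (x := x) trivial
    obtain ⟨U, e₀, hxU, hUV, -, he₀⟩ := exists_isGenerator hM (V := V) (x := x) hxV
    have hb₀ := gen_of_isGenerator he₀ hxU
    obtain ⟨w, hw⟩ := hb₀.2 g
    have hwu : IsUnit w := (hb₀.ne_zero_smul w).1 ((congrArg Gen hw).mpr hg)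
    let d := gm D x hxU (res D hUV g')
    have hd : Gen d := gen_of_isGenerator (isGenerator_res hUV hg') hxU
    let ψ := (M2.tensorLUnit D).inv ≫ τ ≫ e.hom
    obtain ⟨a, ha⟩ := exists_coeff he₀ (res M (le_top : U ≤ ⊤) (gval s))
    let z := gm (CohB1.tensorMod M D) x hxU (tsec M D e₀ (res D hUV g'))
    have hz : Gen z := (gen_tsec_iff hM hD hxU _ _).2 ⟨hb₀, hd⟩
    have hac : X.presheaf.germ U x hxU a = c * w := hb₀.1 (by
      show X.presheaf.germ U x hxU a • _ = (c * w) • _
      rw [mul_smul, ← gm_smul, ha, gm_res, hc]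
      exact congrArg (c • ·) hw.symm)
    obtain ⟨p₀, hp₀, hp₀g⟩ : ∃ p₀, (M2.stMap ((M2.pmF X).map (τ ≫ e.hom)) x) p₀ =
        X.presheaf.germ U x hxU a • M2.stMap ((M2.pmF X).map e.hom) x z ∧ Gen p₀ := by
      refine ⟨gm (CohB1.tensorMod (Coh.structureModule X) D) x hxU (tsec _ D (M1.one U) (res D hUV g')), ?_,
        (gen_tsec_iff (PicLoc.isInvertible_structureModule X) hD hxU _ _).2 ⟨gen_one x hxU, hd⟩⟩
      refine (M2.stMap_sg ((M2.pmF X).map (τ ≫ e.hom)) hxU _).trans ?_
      show gm (Coh.structureModule X) x hxU (e.hom.app U (τ.app U (tsec _ D (M1.one U) (res D hUV g')))) = _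
      rw [M2.tensorMap_tsec, ← res_gval, ← ha]
      erw [M2.tsec_smul_left, Scheme.Modules.Hom.app_smul, gm_smul]
      exact congrArg (_ • ·) (M2.stMap_sg ((M2.pmF X).map e.hom) hxU _).symm
    have hone : Gen (gm (Coh.structureModule X) x (U := ⊤) trivial (M1.one ⊤)) := gen_one x (U := ⊤) trivial
    have hu : Gen (M2.stMap ((M2.pmF X).map e.hom) x z) := by
      rw [show M2.stMap ((M2.pmF X).map e.hom) x z = _ from M2.stMap_sg ((M2.pmF X).map e.hom) hxU _]
      exact (gen_map_iso e hxU _).2 hz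
    obtain ⟨v₀, hv₀⟩ := hone.2 (M2.stMap ((M2.pmF X).map e.hom) x z)
    have hv₀u : IsUnit v₀ := (hone.ne_zero_smul v₀).1 ((congrArg Gen hv₀).mpr hu)
    have hL : Function.Bijective (M2.stMap ((M2.pmF X).map (M2.tensorLUnit D).inv) x) :=
      (M1.isIso_iff_stalk (M2.tensorLUnit D).inv).mp inferInstance x
    have hcomp : ∀ p, M2.stMap ((M2.pmF X).map ((M2.tensorLUnit D).inv ≫ τ ≫ e.hom)) x p =
        M2.stMap ((M2.pmF X).map (τ ≫ e.hom)) x (M2.stMap ((M2.pmF X).map (M2.tensorLUnit D).inv) x p) := fun p =>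
      (congrArg (fun f => f p) ((M1.stalkAb x).map_comp (M2.tensorLUnit D).inv (τ ≫ e.hom))).trans rfl
    have himage : (∃ p, M2.stMap ((M2.pmF X).map ((M2.tensorLUnit D).inv ≫ τ ≫ e.hom)) x p = v) ↔
        ∃ r : X.presheaf.stalk x, r • (M2.stMap ((M2.pmF X).map (τ ≫ e.hom)) x p₀) = v := by
      constructor
      · rintro ⟨p, rfl⟩
        obtain ⟨r, hr⟩ := hp₀g.2 (M2.stMap ((M2.pmF X).map (M2.tensorLUnit D).inv) x p)
        refine ⟨r, ?_⟩
        rw [hcomp, ← map_smul]
        exact congrArg _ hr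
      · rintro ⟨r, rfl⟩
        obtain ⟨p, hp⟩ := hL.2 (r • p₀)
        exact ⟨p, by rw [hcomp, hp, map_smul]⟩
    rw [himage, hp₀, hac]
    simp only [← hv₀, ← mul_smul]
    constructor
    · rintro ⟨r, rfl⟩; exact ⟨r * w * v₀, by congr 1; ring⟩
    · rintro ⟨r, rfl⟩
      obtain ⟨u, hu'⟩ := hwu.mul hv₀u
      refine ⟨r * (u⁻¹ : (X.presheaf.stalk x)ˣ), ?_⟩
      congr 1
      calc r * (u⁻¹ : (X.presheaf.stalk x)ˣ) * (c * w * v₀)
          = r * c * ((u⁻¹ : (X.presheaf.stalk x)ˣ) * (w * v₀)) := by ring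
        _ = r * c := by rw [← hu', Units.inv_mul, mul_one]
  · haveI : Mono τ := by
      refine (M1.mono_iff_stalk τ).2 fun x => ?_
      obtain ⟨U, e₀, hxU, -, -, he₀⟩ := exists_isGenerator hM (V := ⊤) (x := x) trivial
      obtain ⟨V, g', hxV, hVU, -, hg'⟩ := exists_isGenerator hD (V := U) (x := x) hxU
      obtain ⟨a, ha⟩ := exists_coeff (isGenerator_res hVU he₀) (res M le_top (gval s))
      have hna : X.presheaf.germ V x hxV a ≠ 0 := fun h0 => gm_ne_zero hM s hne x (by
        rw [← gm_res (le_top : V ≤ ⊤) hxV, ← ha, gm_smul, h0, zero_smul])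
      let z := gm (CohB1.tensorMod (Coh.structureModule X) D) x hxV (tsec _ D (M1.one V) g')
      have hz : Gen z := (gen_tsec_iff (PicLoc.isInvertible_structureModule X) hD hxV _ _).mpr
        ⟨gen_one x hxV, gen_of_isGenerator hg' hxV⟩
      let φ := M2.stMap ((M2.pmF X).map τ) x
      let z' := gm (CohB1.tensorMod M D) x hxV (tsec M D (res M hVU e₀) g')
      have hz' : Gen z' := (gen_tsec_iff hM hD hxV _ _).mpr
        ⟨gen_of_isGenerator (isGenerator_res hVU he₀) hxV, gen_of_isGenerator hg' hxV⟩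
      have hφ : φ z = X.presheaf.germ V x hxV a • z' := by
        refine (M2.stMap_sg ((M2.pmF X).map τ) hxV _).trans ?_
        change gm (CohB1.tensorMod M D) x hxV (τ.app V (tsec _ D (M1.one V) g')) = _
        rw [M2.tensorMap_tsec, ← gm_smul, ← M2.tsec_smul_left, ha, res_gval]
        rfl
      intro p q hpq
      obtain ⟨r, rfl⟩ := hz.2 p
      obtain ⟨r', rfl⟩ := hz.2 q
      have hpq' : φ (r • z) = φ (r' • z) := hpq
      rw [map_smul, map_smul, hφ, ← mul_smul, ← mul_smul] at hpq'
      simp only [mul_right_cancel₀ hna (hz'.1 hpq')]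
    infer_instance

/-- Invertible modules with sections having associated germs everywhere are isomorphic. -/
theorem nonempty_iso_of_associated (hM : PicF.IsInvertible M) (hM' : PicF.IsInvertible M')
    (s : Coh.structureModule X ⟶ M) (s' : Coh.structureModule X ⟶ M')
    (hne : (CohB1.genLocus M s : Set X).Nonempty) (hne' : (CohB1.genLocus M' s' : Set X).Nonempty)
    (h : ∀ (x : X) (c c' : X.presheaf.stalk x) (g : (M.presheaf.stalk x : Type u))
      (g' : (M'.presheaf.stalk x : Type u)), Gen g → Gen g' → gm M x (U := ⊤) trivial (gval s) = c • g →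
      gm M' x (U := ⊤) trivial (gval s') = c' • g' → Associated c c') :
    Nonempty (M ≅ M') := by
  obtain ⟨D, hD, ⟨e⟩⟩ := M2.exists_inverse hM
  obtain ⟨D', hD', ⟨e'⟩⟩ := M2.exists_inverse hM'
  obtain ⟨φ, hφ, him⟩ := exists_mul_section hM hD e s hne
  obtain ⟨φ', hφ', him'⟩ := exists_mul_section hM' hD' e' s' hne'
  haveI := hφ
  haveI := hφ'
  have hsame : ∀ (x : X) v, (∃ p, M2.stMap ((M2.pmF X).map φ) x p = v) ↔
      ∃ p, M2.stMap ((M2.pmF X).map φ') x p = v := by
    intro x v
    obtain ⟨g, hg⟩ := exists_stalk_gen hM x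
    obtain ⟨g', hg'⟩ := exists_stalk_gen hM' x
    obtain ⟨c, hc⟩ := hg.2 (gm M x (U := ⊤) trivial (gval s))
    obtain ⟨c', hc'⟩ := hg'.2 (gm M' x (U := ⊤) trivial (gval s'))
    obtain ⟨u, hu⟩ := h x c c' g g' hg hg' hc.symm hc'.symm
    rw [him x c g hg hc.symm, him' x c' g' hg' hc'.symm]
    constructor
    · rintro ⟨r, rfl⟩
      exact ⟨r * (u⁻¹ : (X.presheaf.stalk x)ˣ), by rw [← hu]; congr 1; rw [mul_assoc, ← mul_assoc _ c, mul_comm _ c, mul_assoc c, Units.inv_mul, mul_one]⟩
    · rintro ⟨r, rfl⟩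
      exact ⟨r * u, by rw [← hu, mul_assoc, mul_comm (u : X.presheaf.stalk x) c]⟩
  have hzero : ∀ {P Q : X.Modules} (a : P ⟶ Coh.structureModule X) (b : Q ⟶ Coh.structureModule X),
      (∀ (x : X) p, ∃ q, M2.stMap ((M2.pmF X).map b) x q = M2.stMap ((M2.pmF X).map a) x p) →
        a ≫ cokernel.π b = 0 := by
    intro P Q a b hab
    refine Scheme.Modules.hom_ext _ _ fun U => ?_
    ext t
    refine eq_of_gm fun x hx => ?_
    obtain ⟨q, hq⟩ := hab x (gm P x hx t)
    replace hq : (M1.stalkAb x).map b q = (M1.stalkAb x).map a (gm P x hx t) := hq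
    have h1 : gm (cokernel b) x hx ((a ≫ cokernel.π b).app U t) =
        (M1.stalkAb x).map (cokernel.π b) ((M1.stalkAb x).map a (gm P x hx t)) := by
      refine (TopCat.Presheaf.stalkFunctor_map_germ_apply U x hx ((Scheme.Modules.toPresheaf X).map
        (a ≫ cokernel.π b)) t).symm.trans ?_
      rw [← ConcreteCategory.comp_apply, ← Functor.map_comp]
      rfl
    rw [show gm (cokernel b) x hx _ = _ from h1, ← hq, ← ConcreteCategory.comp_apply, ← Functor.map_comp,
      cokernel.condition, Functor.map_zero]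
    exact (map_zero _).symm
  let l := Abelian.monoLift φ φ' (hzero φ' φ fun x p => (hsame x _).2 ⟨p, rfl⟩)
  let l' := Abelian.monoLift φ' φ (hzero φ φ' fun x p => (hsame x _).1 ⟨p, rfl⟩)
  let i : D ≅ D' := ⟨l', l,
    by rw [← cancel_mono φ, Category.assoc, Abelian.monoLift_comp, Abelian.monoLift_comp, Category.id_comp],
    by rw [← cancel_mono φ', Category.assoc, Abelian.monoLift_comp, Abelian.monoLift_comp, Category.id_comp]⟩
  exact ⟨M2.inverseUnique (M2.tensorComm D M ≪≫ e)
    (M2.tensorIso i (Iso.refl M') ≪≫ M2.tensorComm D' M' ≪≫ e')⟩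

/-- An invertible module is determined by a section's orders at the points of codimension one. -/
theorem nonempty_iso_of_codim_one (hM : PicF.IsInvertible M) (hM' : PicF.IsInvertible M')
    (hufd : ∀ x : X, UniqueFactorizationMonoid (X.presheaf.stalk x))
    (s : Coh.structureModule X ⟶ M) (s' : Coh.structureModule X ⟶ M')
    (hne : (CohB1.genLocus M s : Set X).Nonempty) (hne' : (CohB1.genLocus M' s' : Set X).Nonempty)
    (h : ∀ z : X, (∀ y, y ⤳ z → y = z ∨ y = genericPoint X) → ∀ (c c' : X.presheaf.stalk z)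
      (g : (M.presheaf.stalk z : Type u)) (g' : (M'.presheaf.stalk z : Type u)), Gen g → Gen g' →
      gm M z (U := ⊤) trivial (gval s) = c • g → gm M' z (U := ⊤) trivial (gval s') = c' • g' → Associated c c') :
    Nonempty (M ≅ M') := by
  refine nonempty_iso_of_associated hM hM' s s' hne hne' fun x c c' g g' hg hg' hc hc' => ?_
  haveI := hufd x
  have hc0 : c ≠ 0 := fun h0 => gm_ne_zero hM s hne x (by rw [hc, h0, zero_smul])
  have hc0' : c' ≠ 0 := fun h0 => gm_ne_zero hM' s' hne' x (by rw [hc', h0, zero_smul])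
  obtain ⟨U, e, hxU, -, -, he⟩ := exists_isGenerator hM (V := ⊤) (x := x) trivial
  obtain ⟨U', e', hxU', -, -, he'⟩ := exists_isGenerator hM' (V := ⊤) (x := x) trivial
  obtain ⟨a, ha⟩ := exists_coeff he (res M (le_top : U ≤ ⊤) (gval s))
  obtain ⟨a', ha'⟩ := exists_coeff he' (res M' (le_top : U' ≤ ⊤) (gval s'))
  have key : ∀ {N : X.Modules} {W : X.Opens} (ε : Γ(N, W)) (_ : IsGenerator ε) (hxW : x ∈ W)
      (t : Γ(N, ⊤)) (b : Γ(X, W)) (_ : b • ε = res N le_top t) (d : X.presheaf.stalk x)
      (γ : (N.presheaf.stalk x : Type u)), Gen γ → gm N x (U := ⊤) trivial t = d • γ →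
      Associated (X.presheaf.germ W x hxW b) d := by
    intro N W ε hε hxW t b hb d γ hγ hd
    have hgε := gen_of_isGenerator hε hxW
    obtain ⟨w, hw⟩ := hgε.2 γ
    obtain ⟨u, hu⟩ := (hgε.ne_zero_smul w).1 ((congrArg Gen hw).mpr hγ)
    refine ⟨u⁻¹, ?_⟩
    have : X.presheaf.germ W x hxW b = d * w := hgε.1 (by
      show _ • _ = (d * w) • _
      rw [mul_smul, ← gm_smul, hb, gm_res, hd]
      exact congrArg (d • ·) hw.symm)
    rw [this, ← hu, Units.mul_inv_cancel_right]
  refine (key e he hxU (gval s) a ha c g hg hc).symm.trans (Associated.trans ?_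
    (key e' he' hxU' (gval s') a' ha' c' g' hg' hc'))
  refine associated_of_forall_prime ?_ ?_ fun π hπ => ?_
  · exact (key e he hxU (gval s) a ha c g hg hc).symm.ne_zero_iff.1 hc0
  · exact (key e' he' hxU' (gval s') a' ha' c' g' hg' hc').symm.ne_zero_iff.1 hc0'
  obtain ⟨z, hzx, hcrit, hz⟩ := exists_codim_one_point hπ
  refine ⟨_, inferInstance, inferInstance, (X.presheaf.stalkSpecializes hzx).hom,
    stalkSpecializes_injective hzx, hcrit, ?_⟩
  show Associated (X.presheaf.stalkSpecializes hzx (X.presheaf.germ U x hxU a))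
    (X.presheaf.stalkSpecializes hzx (X.presheaf.germ U' x hxU' a'))
  rw [TopCat.Presheaf.germ_stalkSpecializes_apply, TopCat.Presheaf.germ_stalkSpecializes_apply]
  have hzU := hzx.mem_open U.isOpen hxU
  have hzU' := hzx.mem_open U'.isOpen hxU'
  refine h z hz _ _ _ _ (gen_of_isGenerator he hzU) (gen_of_isGenerator he' hzU') ?_ ?_
  · rw [← gm_smul, ha, gm_res]
  · rw [← gm_smul, ha', gm_res]

end Groth.Agent.CubeField
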