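import Groth.Agent.Lib.CubeField.Vanish
import Mathlib.RingTheory.Localization.Integer

/-!
# The seesaw principle over a noetherian domain
-/

universe u

open CategoryTheory Limits AlgebraicGeometry TopologicalSpace Opposite TensorProduct

set_option linter.style.haveILetI false
set_option backward.isDefEq.respectTransparency false

namespace Groth.Agent.CubeField

open RigidRel

variable {A : CommRingCat.{u}} {W : Scheme.{u}} (ξ : W ⟶ Spec A) {ι : Type}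

theorem exists_clear_denom {K : CommRingCat.{u}} (g : A ⟶ K) (S : Submonoid A)
    (hden : ∀ b : K, ∃ r s, s ∈ S ∧ b * g s = g r) {Y : Scheme.{u}} {η : Y ⟶ Spec K} {f : Y ⟶ W}
    (hsq : IsPullback f η ξ (Spec.map g)) {V : W.Opens} (hV : IsAffineOpen V) (y : Γ(Y, f ⁻¹ᵁ V)) :
    ∃ a ∈ S, ∃ x : Γ(W, V), f.app V x = ringMap η (f ⁻¹ᵁ V) (g a) * y := by
  letI := g.hom.toAlgebra
  letI := (ringMap ξ V).hom.toAlgebra
  letI := (ringMap η (f ⁻¹ᵁ V)).hom.toAlgebra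
  letI : Algebra A Γ(Y, f ⁻¹ᵁ V) := ((ringMap η (f ⁻¹ᵁ V)).hom.comp g.hom).toAlgebra
  obtain ⟨_, e, he⟩ := isBaseChange_app g hsq hV
  obtain ⟨z, rfl⟩ := e.surjective y
  induction z using TensorProduct.induction_on with
  | zero => exact ⟨1, S.one_mem, 0, by simp⟩
  | add z z' hz hz' =>
    obtain ⟨a, ha, x, hx⟩ := hz
    obtain ⟨a', ha', x', hx'⟩ := hz'
    refine ⟨a * a', S.mul_mem ha ha', ringMap ξ V a' * x + ringMap ξ V a * x', ?_⟩
    rw [map_add, map_mul, map_mul, app_ringMap g hsq.toCommSq, app_ringMap g hsq.toCommSq, hx, hx', map_add,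
      map_mul, map_mul]
    ring
  | tmul b c =>
    obtain ⟨r, s, hs, hrs⟩ := hden b
    refine ⟨s, hs, ringMap ξ V r * c, ?_⟩
    rw [map_mul, app_ringMap g hsq.toCommSq, he, ← mul_assoc, ← map_mul]
    congr 2
    rw [mul_comm]
    exact hrs.symm

theorem isUnit_of_cover {Z : Scheme.{u}} {κ : Type} (U : κ → Z.Opens) (hU : ⨆ i, U i = ⊤) (F : Γ(Z, ⊤))
    (h : ∀ i, IsUnit (rs (le_top : U i ≤ ⊤) F)) : IsUnit F := by
  refine RingedSpace.isUnit_of_isUnit_germ Z.toRingedSpace ⊤ F fun x _ => ?_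
  obtain ⟨i, hi⟩ := Opens.mem_iSup.1 (hU.ge (Opens.mem_top x))
  have h1 := (h i).map (Z.presheaf.germ (U i) x hi).hom
  rwa [← TopCat.Presheaf.germ_res_apply Z.presheaf (homOfLE le_top) x hi F]

theorem bijective_ringMap_id (A : CommRingCat.{u}) : Function.Bijective (ringMap (𝟙 (Spec A)) ⊤).hom := by
  rw [ringMap, appLE_top_top, Scheme.Hom.id_appTop, Category.comp_id]
  exact (Scheme.ΓSpecIso A).symm.commRingCatIsoToRingEquiv.bijective

theorem eq_zero_of_ringMap_mul [Flat ξ] [IsDomain A] {V : W.Opens} (hV : IsAffineOpen V) {a : A} (ha : a ≠ 0)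
    {z : Γ(W, V)} (h : ringMap ξ V a * z = 0) : z = 0 := by
  have hc : Submodule.colon (⊥ : Ideal A) {a} = ⊥ := by
    refine (Submodule.eq_bot_iff _).2 fun r hr => ?_
    have h' := Submodule.mem_colon_singleton.1 hr
    exact ((mul_eq_zero.1 h').resolve_right ha)
  have h1 := mem_colon_map_ringMap ξ hV ⊥ a z (by rw [Ideal.map_bot]; exact h)
  rwa [hc, Ideal.map_bot, Ideal.mem_bot] at h1

/-- A section over the base with prescribed values along the section `σ`. -/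
theorem exists_section_value [Flat ξ] [IsDomain A] [Finite ι] {K : Type u} [Field K]
    (g : A ⟶ CommRingCat.of K) (hg : Function.Injective g.hom)
    (hden : ∀ b : K, ∃ r s, s ∈ nonZeroDivisors A ∧ b * g s = g r)
    {Y : Scheme.{u}} {η : Y ⟶ Spec (CommRingCat.of K)} {f : Y ⟶ W} (hsq : IsPullback f η ξ (Spec.map g))
    (c : Coc W ι) (hcov : ⨆ i, c.V i = ⊤) (hV : ∀ i, IsAffineOpen (c.V i))
    (hI : ∀ i j, IsAffineOpen (c.V i ⊓ c.V j)) (σ : Spec A ⟶ W) (hσ : σ ≫ ξ = 𝟙 _)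
    (hσV : ∀ i, IsAffineOpen (σ ⁻¹ᵁ c.V i)) (hvan : ∀ I, VanishMod ξ c σ I)
    (h : (c.pull f).Trivial) (τ : ∀ i, Γ(Spec A, σ ⁻¹ᵁ c.V i)) (hτ : (c.pull σ).Compat τ)
    (hτu : ∀ i, IsUnit (τ i)) :
    ∃ v, c.Compat v ∧ ∀ i, σ.app (c.V i) (v i) = τ i := by
  haveI := Fintype.ofFinite ι
  classical
  obtain ⟨v', hv', hv'u⟩ := h
  change ∀ i, Γ(Y, f ⁻¹ᵁ c.V i) at v'
  -- the point of the generic fibre
  let σK : Spec (CommRingCat.of K) ⟶ Y := hsq.lift (Spec.map g ≫ σ) (𝟙 _) (by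
    rw [Category.assoc, hσ, Category.id_comp]; exact Category.comp_id _)
  have hfst : σK ≫ f = Spec.map g ≫ σ := hsq.lift_fst _ _ _
  have hsnd : σK ≫ η = 𝟙 _ := hsq.lift_snd _ _ _
  have hcsσ : CommSq σK (𝟙 (Spec (CommRingCat.of K))) η (Spec.map (𝟙 (CommRingCat.of K))) :=
    ⟨by rw [hsnd, Spec.map_id, Category.comp_id]⟩
  have hsqσ : IsPullback (Spec.map g) (𝟙 (Spec (CommRingCat.of K))) (𝟙 (Spec A)) (Spec.map g) :=
    IsPullback.of_vert_isIso ⟨by rw [Category.comp_id, Category.id_comp]⟩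
  -- transport of values along `σK ≫ f = Spec g ≫ σ`
  let U : ι → (Spec (CommRingCat.of K)).Opens := fun i => σK ⁻¹ᵁ (f ⁻¹ᵁ c.V i)
  have hU : ∀ i, Spec.map g ⁻¹ᵁ (σ ⁻¹ᵁ c.V i) = U i := fun i =>
    congrArg (fun φ : Spec (CommRingCat.of K) ⟶ W => φ ⁻¹ᵁ c.V i) hfst.symm
  let tr : ∀ i, Γ(Spec A, σ ⁻¹ᵁ c.V i) →+* Γ(Spec (CommRingCat.of K), U i) := fun i =>
    (rs (hU i).ge).comp ((Spec.map g).app (σ ⁻¹ᵁ c.V i)).hom
  have hσf : ∀ i (z : Γ(W, c.V i)), σK.app (f ⁻¹ᵁ c.V i) (f.app (c.V i) z) = tr i (σ.app (c.V i) z) := by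
    intro i z
    have e := Scheme.Hom.congr_app hfst (c.V i)
    rw [Scheme.Hom.comp_app, Scheme.Hom.comp_app] at e
    exact ConcreteCategory.congr_hom e z
  have htr_inj : ∀ i, Function.Injective (tr i) := fun i a b hab => by
    refine app_injective g hsqσ (hσV i) hg ?_
    simp only [tr, RingHom.comp_apply] at hab
    have h2 := congrArg (rs (hU i).le) hab
    rw [rs_rs, rs_rs, rs_self, rs_self] at h2
    exact h2
  have htr_ring : ∀ i (a : A), tr i (ringMap (𝟙 (Spec A)) (σ ⁻¹ᵁ c.V i) a) = ringMap (𝟙 _) (U i) (g a) :=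
    fun i a => by
      show rs (hU i).ge ((Spec.map g).app _ (ringMap (𝟙 (Spec A)) _ a)) = _
      rw [app_ringMap g hsqσ.toCommSq]
      exact rs_ringMap _ _
  -- compare the generic trivialisation with `τ` at the point
  obtain ⟨τ', hτ', hτ'u⟩ : ∃ t : ∀ i, Γ(Spec A, σ ⁻¹ᵁ c.V i), (c.pull σ).inv.Compat t ∧ ∀ i, IsUnit (t i) :=
    Coc.Trivial.inv (c := c.pull σ) ⟨τ, hτ, hτu⟩
  have hcovK : ⨆ i, U i = ⊤ := by
    show ⨆ i, σK ⁻¹ᵁ (f ⁻¹ᵁ c.V i) = ⊤
    rw [← Scheme.Hom.preimage_iSup, ← Scheme.Hom.preimage_iSup, hcov]; rfl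
  have hcovA : ⨆ i, (c.pull σ).V i = ⊤ := by
    show ⨆ i, σ ⁻¹ᵁ c.V i = ⊤
    rw [← Scheme.Hom.preimage_iSup, hcov]; rfl
  obtain ⟨T, hT⟩ := (c.pull σ).exists_glue_mul hcovA hτ hτ'
  have hTu : IsUnit T := isUnit_of_cover _ hcovA T fun i => by
    rw [hT i]; exact (hτu i).mul (hτ'u i)
  have hc'' : ((c.pull f).pull σK).inv.Compat fun i => tr i (τ' i) :=
    Coc.compat_pull_inv c (σK ≫ f) (Coc.compat_of_eq c.inv hfst.symm
      ((Coc.compat_inv_pull c σ hτ').pull (Spec.map g)))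
  obtain ⟨F, hF⟩ := ((c.pull f).pull σK).exists_glue_mul hcovK ((show (c.pull f).Compat v' from hv').pull σK) hc''
  obtain ⟨ε, rfl⟩ := (bijective_ringMap_id (CommRingCat.of K)).2 F
  have hFu : IsUnit (ringMap (𝟙 (Spec (CommRingCat.of K))) ⊤ ε) := isUnit_of_cover U hcovK _ fun i =>
    (congrArg IsUnit (hF i)).mpr (((hv'u i).map (σK.app (f ⁻¹ᵁ c.V i)).hom).mul ((hτ'u i).map (tr i)))
  obtain ⟨T₀, rfl⟩ := (bijective_ringMap_id A).2 T
  have hT₀ : IsUnit T₀ := by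
    obtain ⟨b, hb⟩ := hTu.exists_right_inv
    obtain ⟨b, rfl⟩ := (bijective_ringMap_id A).2 b
    exact IsUnit.of_mul_eq_one b ((bijective_ringMap_id A).1 (by rw [map_mul, map_one]; exact hb))
  have hε : IsUnit ε := by
    obtain ⟨b, hb⟩ := hFu.exists_right_inv
    obtain ⟨b, rfl⟩ := (bijective_ringMap_id (CommRingCat.of K)).2 b
    exact IsUnit.of_mul_eq_one b ((bijective_ringMap_id _).1 (by rw [map_mul, map_one]; exact hb))
  obtain ⟨δ, hδ⟩ : ∃ δ : K, δ * ε = g T₀ := ⟨g T₀ * ε⁻¹, by rw [mul_assoc, inv_mul_cancel₀ hε.ne_zero, mul_one]⟩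
  let y : ∀ i, Γ(Y, f ⁻¹ᵁ c.V i) := fun i => ringMap η _ δ * v' i
  have hy : ∀ i j, rs (f.preimage_mono (inf_le_left : c.V i ⊓ c.V j ≤ c.V i)) (y i) =
      f.app _ (c.g i j) * rs (f.preimage_mono inf_le_right) (y j) := fun i j => by
    have h1 : rs (f.preimage_mono (inf_le_left : c.V i ⊓ c.V j ≤ c.V i)) (v' i) =
        f.app _ (c.g i j) * rs (f.preimage_mono inf_le_right) (v' j) := hv' i j
    show rs _ (ringMap η _ δ * v' i) = _ * rs _ (ringMap η _ δ * v' j)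
    rw [map_mul, map_mul, rs_ringMap, rs_ringMap, h1]
    exact mul_left_comm _ _ _
  have hyσ : ∀ i, σK.app (f ⁻¹ᵁ c.V i) (y i) = tr i (τ i) := fun i => by
    have h1 : tr i (τ i) * tr i (τ' i) = ringMap (𝟙 _) (U i) (g T₀) :=
      (map_mul (tr i) _ _).symm.trans
        ((congrArg (tr i) ((hT i).symm.trans (rs_ringMap _ _))).trans (htr_ring i T₀))
    have h2 : σK.app (f ⁻¹ᵁ c.V i) (v' i) * tr i (τ' i) = ringMap (𝟙 _) (U i) ε :=
      (hF i).symm.trans (rs_ringMap _ _)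
    refine ((hτ'u i).map (tr i)).mul_right_cancel ?_
    rw [h1, ← hδ, map_mul, app_ringMap (𝟙 _) hcsσ, mul_assoc, h2]
    exact (map_mul _ δ ε).symm
  clear_value y
  choose a ha x hx using fun i => exists_clear_denom ξ g (nonZeroDivisors A) hden hsq (hV i) (y i)
  let a₀ : A := ∏ i, a i
  have ha₀ : a₀ ≠ 0 := Finset.prod_ne_zero_iff.2 fun i _ => nonZeroDivisors.ne_zero (ha i)
  let x₀ : ∀ i, Γ(W, c.V i) := fun i => ringMap ξ _ (∏ j ∈ Finset.univ.erase i, a j) * x i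
  have hx₀ : ∀ i, f.app (c.V i) (x₀ i) = ringMap η (f ⁻¹ᵁ c.V i) (g a₀) * y i := fun i => by
    rw [map_mul, app_ringMap g hsq.toCommSq, hx i, ← mul_assoc, ← map_mul, ← map_mul,
      Finset.prod_erase_mul _ _ (Finset.mem_univ i)]
  clear_value x₀
  have hx₀c : c.Compat x₀ := fun i j => by
    refine app_injective g hsq (hI i j) hg ?_
    show f.app _ _ = f.app _ _
    rw [map_mul, app_rs, app_rs, hx₀, hx₀, map_mul, map_mul, rs_ringMap, rs_ringMap,
      show rs (f.preimage_mono inf_le_left) (y i) = _ from hy i j]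
    exact mul_left_comm _ _ _
  have hx₀σ : ∀ i, σ.app (c.V i) (x₀ i) = ringMap (𝟙 (Spec A)) _ a₀ * τ i := fun i => by
    refine htr_inj i ?_
    rw [← hσf, hx₀, map_mul, app_ringMap (𝟙 _) hcsσ, hyσ, map_mul, htr_ring]
    rfl
  have hmem := hvan (Ideal.span {a₀}) x₀ (fun i j => by rw [hx₀c i j, sub_self]; exact zero_mem _) fun i => by
    rw [hx₀σ i, Ideal.map_span, Set.image_singleton]
    exact Ideal.mul_mem_right _ _ (Ideal.mem_span_singleton_self _)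
  simp only [Ideal.map_span, Set.image_singleton, Ideal.mem_span_singleton'] at hmem
  choose v hv using hmem
  refine ⟨v, fun i j => ?_, fun i => ?_⟩
  · refine sub_eq_zero.1 (eq_zero_of_ringMap_mul ξ (hI i j) ha₀ ?_)
    have h1 := hx₀c i j
    rw [← hv i, ← hv j, map_mul, map_mul] at h1
    erw [rs_ringMap, rs_ringMap] at h1
    linear_combination h1
  · refine sub_eq_zero.1 (eq_zero_of_ringMap_mul (𝟙 (Spec A)) (hσV i) ha₀ ?_)
    have h1 := hx₀σ i
    rw [← hv i, map_mul] at h1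
    erw [app_sigma_ringMap ξ σ hσ] at h1
    linear_combination h1

/-- Seesaw: a line bundle trivial on all fibres over a noetherian domain and trivialised along a
section is trivial. -/
theorem trivial_of_fibres [Flat ξ] [IsNoetherianRing A] [IsDomain A] [Finite ι] (c : Coc W ι)
    (hcov : ⨆ i, c.V i = ⊤) (hV : ∀ i, IsAffineOpen (c.V i)) (hI : ∀ i j, IsAffineOpen (c.V i ⊓ c.V j))
    (σ : Spec A ⟶ W) (hσ : σ ≫ ξ = 𝟙 _) (hσV : ∀ i, IsAffineOpen (σ ⁻¹ᵁ c.V i))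
    (hσt : (c.pull σ).Trivial) (hW : Function.Surjective (ringMap ξ ⊤).hom)
    (hfib : ∀ (p : Ideal A) [p.IsPrime], ∃ (Y : Scheme.{u}) (η : Y ⟶ Spec (CommRingCat.of p.ResidueField))
      (f : Y ⟶ W), IsPullback f η ξ (Spec.map (CommRingCat.ofHom (algebraMap A p.ResidueField))) ∧
        Function.Surjective (ringMap η ⊤).hom ∧ (c.pull f).Trivial) :
    c.Trivial := by
  obtain ⟨Y, η, f, hsq, hY, htriv⟩ := hfib ⊥
  let g : A ⟶ CommRingCat.of (⊥ : Ideal A).ResidueField :=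
    CommRingCat.ofHom (algebraMap A (⊥ : Ideal A).ResidueField)
  have hg : Function.Injective g.hom := by
    rw [RingHom.injective_iff_ker_eq_bot]
    exact Ideal.ker_algebraMap_residueField ⊥
  have hden : ∀ b : (⊥ : Ideal A).ResidueField, ∃ r s, s ∈ nonZeroDivisors A ∧ b * g s = g r := fun b => by
    obtain ⟨⟨r, s⟩, hrs⟩ := IsLocalization.surj (nonZeroDivisors (A ⧸ (⊥ : Ideal A))) b
    obtain ⟨r, rfl⟩ := Ideal.Quotient.mk_surjective r
    obtain ⟨s₀, hs₀⟩ := Ideal.Quotient.mk_surjective s.1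
    refine ⟨r, s₀, mem_nonZeroDivisors_of_ne_zero fun h0 => nonZeroDivisors.ne_zero s.2 (by rw [← hs₀, h0, map_zero]), ?_⟩
    rw [← hs₀] at hrs
    exact hrs
  have hI' : ∀ i j, IsAffineOpen (c.inv.V i ⊓ c.inv.V j) := hI
  have hvan : ∀ I, VanishMod ξ c σ I := fun I =>
    vanishMod_step ξ c σ hσ hV hI hσV (fun p hp => by
      obtain ⟨Y', η', f', hsq', hY', ht'⟩ := hfib p
      exact vanishMod_prime ξ c σ hσ hV hcov p hsq' hY' ht') I
  have hvan' : ∀ I, VanishMod ξ c.inv σ I := fun I =>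
    vanishMod_step ξ c.inv σ hσ hV hI' hσV (fun p hp => by
      obtain ⟨Y', η', f', hsq', hY', ht'⟩ := hfib p
      exact vanishMod_prime ξ c.inv σ hσ hV hcov p hsq' hY' (by rw [← Coc.inv_pull]; exact ht'.inv)) I
  obtain ⟨τ, hτ, hτu⟩ := hσt
  obtain ⟨τ', hτ', hτ'u⟩ := Coc.Trivial.inv (c := c.pull σ) ⟨τ, hτ, hτu⟩
  obtain ⟨v, hv, hvσ⟩ := exists_section_value ξ g hg hden hsq c hcov hV hI σ hσ hσV hvan htriv τ hτ hτu
  obtain ⟨w, hw, hwσ⟩ := exists_section_value ξ g hg hden hsq c.inv hcov hV hI' σ hσ hσV hvan'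
    (by rw [← Coc.inv_pull]; exact htriv.inv) τ' (Coc.compat_inv_pull c σ hτ') hτ'u
  obtain ⟨F, hF⟩ := c.exists_glue_mul hcov hv hw
  obtain ⟨r, rfl⟩ := hW F
  have hr : IsUnit r := by
    have hu : IsUnit (ringMap (𝟙 (Spec A)) ⊤ r) := isUnit_of_cover (fun i => σ ⁻¹ᵁ c.V i)
      (by rw [← Scheme.Hom.preimage_iSup, hcov]; rfl) _ fun i => by
      have h1 := congrArg (σ.app (c.V i)) (hF i)
      rw [rs_ringMap] at h1
      erw [app_sigma_ringMap ξ σ hσ, map_mul, hvσ, hwσ] at h1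
      rw [rs_ringMap]
      exact h1 ▸ (hτu i).mul (hτ'u i)
    obtain ⟨b, hb⟩ := hu.exists_right_inv
    obtain ⟨b, rfl⟩ := (bijective_ringMap_id A).2 b
    exact IsUnit.of_mul_eq_one b ((bijective_ringMap_id A).1 (by rw [map_mul, map_one]; exact hb))
  exact ⟨v, hv, fun i => isUnit_of_mul_isUnit_left ((congrArg IsUnit (hF i)).mp
    ((hr.map (ringMap ξ ⊤).hom).map _))⟩

end Groth.Agent.CubeField
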