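import Groth.Agent.Lib.CubeField.SeesawPts
import Groth.Agent.Lib.CubeField.Contract
import Groth.Agent.Lib.CubeField.Simple
import Groth.Agent.Lib.AbRigid.Epi
import Mathlib.FieldTheory.IntermediateField.Adjoin.Algebra
import Mathlib.RingTheory.Algebraic.Integral
import Mathlib.RingTheory.Ideal.GoingUp

/-!
# Triviality at rational points gives triviality at every point
-/

universe u

open CategoryTheory Limits MonoidalCategory CartesianMonoidalCategory AlgebraicGeometry TopologicalSpace Opposite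

set_option linter.style.haveILetI false
set_option backward.isDefEq.respectTransparency false

namespace Groth.Agent.CubeField

open RigidRel GITQuot

/-- The section glued from a nonzero compatible family has nonempty locus. -/
theorem exists_hom_genLocus_nonempty {W : Scheme.{u}} [IsIntegral W] {ι : Type} {L : W.Modules}
    (hL : PicF.IsInvertible L) (c : Coc W ι) (T : Triv L c) (hcov : ⨆ i, c.V i = ⊤) {v : ∀ i, Γ(W, c.V i)}
    (hv : c.Compat v) {i : ι} (hi : v i ≠ 0) :
    ∃ s : Coh.structureModule W ⟶ L, (CohB1.genLocus L s : Set W).Nonempty := by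
  obtain ⟨s, hs, -⟩ := TopCat.Sheaf.existsUnique_gluing' (⟨L.presheaf, L.isSheaf⟩ : TopCat.Sheaf AddCommGrpCat W)
    c.V ⊤ (fun i => homOfLE le_top) hcov.ge (fun i => v i • T.e i) fun i j => by
      show M1.mres L inf_le_left (v i • T.e i) = M1.mres L inf_le_right (v j • T.e j)
      rw [M1.mres_smul, M1.mres_smul, T.trans i j, ← mul_smul, mul_comm]
      exact congrArg (· • M1.mres L inf_le_left (T.e i)) (hv i j)
  refine ⟨_, genLocus_nonempty_of_ne_zero hL (t := (show Γ(L, ⊤) from s)) fun h0 => hi ?_⟩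
  refine (T.gen i (c.V i) le_rfl).1 ?_
  show v i • M1.mres L le_rfl (T.e i) = (0 : Γ(W, c.V i)) • M1.mres L le_rfl (T.e i)
  rw [zero_smul, M1.mres_id, ← show M1.mres L le_top s = v i • T.e i from hs i,
    show (show Γ(L, ⊤) from s) = 0 from h0]
  exact map_zero _

/-- A nontrivial domain quotient of an affine curve is integral over the field. -/
theorem isIntegral_of_curve {K F : Type u} [Field K] [Field F] [Algebra K F] (x : F)
    (halg₀ : ∀ y : F, IsAlgebraic (Algebra.adjoin K ({x} : Set F)) y) (S₁ S₂ : Set F)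
    (h₁ : ∀ y ∈ S₁, ∃ a : Algebra.adjoin K ({x} : Set F), a ≠ 0 ∧ y = (a : F)⁻¹)
    (h₂ : ∀ y ∈ S₂, _root_.IsIntegral (Algebra.adjoin K ({x} : Set F)) y)
    {Q : Type u} [CommRing Q] [IsDomain Q] [Algebra K Q]
    (π : Algebra.adjoin K (insert x (S₁ ∪ S₂)) →ₐ[K] Q) (hπ : Function.Surjective π)
    (hne : RingHom.ker π ≠ ⊥) : Algebra.IsIntegral K Q := by
  let A₀ := Algebra.adjoin K ({x} : Set F)
  let R₀ := Algebra.adjoin K (insert x (S₁ ∪ S₂))
  have hxR : x ∈ R₀ := Algebra.subset_adjoin (Set.mem_insert _ _)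
  have hA₀R : A₀ ≤ R₀ := Algebra.adjoin_le (Set.singleton_subset_iff.2 hxR)
  let E := integralClosure K Q
  letI : Algebra A₀ R₀ := (Subalgebra.inclusion hA₀R).toRingHom.toAlgebra
  haveI : IsScalarTower A₀ R₀ F := .of_algebraMap_eq fun _ => rfl
  have hxint : _root_.IsIntegral K (π ⟨x, hxR⟩) := by
    obtain ⟨r, hrP, hr0⟩ := Submodule.exists_mem_ne_zero_of_ne_bot hne
    have hralg : IsAlgebraic A₀ r :=
      (isAlgebraic_algebraMap_iff (A := F) Subtype.val_injective).1 (halg₀ _)
    obtain ⟨c, hcP, hc0⟩ := Submodule.exists_mem_ne_zero_of_ne_bot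
      (Ideal.comap_ne_bot_of_algebraic_mem hr0 hrP hralg)
    obtain ⟨p, hp⟩ := (Algebra.adjoin_singleton_eq_range_aeval K x).le c.2
    refine IsAlgebraic.isIntegral ⟨p, ?_, ?_⟩
    · rintro rfl
      exact hc0 (Subtype.ext (hp.symm.trans (map_zero _)))
    · rw [Polynomial.aeval_algHom_apply]
      refine (congrArg π (Subtype.ext ?_)).trans (RingHom.mem_ker.1 hcP)
      rw [Polynomial.aeval_subalgebra_coe]
      exact hp
  let B₀ := E.comap π
  have hAE : ∀ a : A₀, π (Subalgebra.inclusion hA₀R a) ∈ E := by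
    intro a
    have hle : A₀ ≤ B₀.map R₀.val := Algebra.adjoin_le (Set.singleton_subset_iff.2 ⟨⟨x, hxR⟩, hxint, rfl⟩)
    obtain ⟨b, hb, hba⟩ := hle a.2
    rwa [show Subalgebra.inclusion hA₀R a = b from Subtype.ext hba.symm]
  have hE : IsField E := isField_of_isIntegral_of_isField' (R := K) (S := E) (Field.toIsField K)
  have htop : R₀ ≤ B₀.map R₀.val := by
    refine Algebra.adjoin_le ?_
    rintro y (hy | hy | hy)
    · exact ⟨⟨x, hxR⟩, hxint, hy.symm⟩
    · let u : R₀ := ⟨y, Algebra.subset_adjoin (Set.mem_insert_of_mem _ (Or.inl hy))⟩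
      refine ⟨u, ?_, rfl⟩
      obtain ⟨a, ha, hya⟩ := h₁ y hy
      show π u ∈ E
      have h0 : (a : F) ≠ 0 := fun h0 => ha (Subtype.ext h0)
      have h1 : Subalgebra.inclusion hA₀R a * u = 1 := Subtype.ext (by
        show (a : F) * y = 1
        rw [hya, mul_inv_cancel₀ h0])
      have h2 : π (Subalgebra.inclusion hA₀R a) * π u = 1 := by rw [← map_mul, h1, map_one]
      obtain ⟨w, hw⟩ := hE.mul_inv_cancel (a := ⟨_, hAE a⟩) fun h3 => by
        have h4 : π (Subalgebra.inclusion hA₀R a) = 0 := congrArg Subtype.val h3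
        rw [h4, zero_mul] at h2
        exact zero_ne_one h2
      have hw' : π (Subalgebra.inclusion hA₀R a) * w.1 = 1 := congrArg Subtype.val hw
      rw [show π u = w.1 from calc
        π u = π u * (π (Subalgebra.inclusion hA₀R a) * w.1) := by rw [hw', mul_one]
        _ = w.1 := by rw [← mul_assoc, mul_comm (π u), h2, one_mul]]
      exact w.2
    · let z : R₀ := ⟨y, Algebra.subset_adjoin (Set.mem_insert_of_mem _ (Or.inr hy))⟩
      refine ⟨z, ?_, rfl⟩
      show π z ∈ E
      let φ₀ : A₀ →+* E := ((π.comp (Subalgebra.inclusion hA₀R)).codRestrict E hAE).toRingHom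
      have hz : _root_.IsIntegral A₀ z := (isIntegral_algebraMap_iff (B := F) Subtype.val_injective).1 (h₂ y hy)
      obtain ⟨p, hp, hp0⟩ := hz
      have hzE : _root_.IsIntegral E (π z) := by
        refine ⟨p.map φ₀, hp.map φ₀, ?_⟩
        rw [Polynomial.eval₂_map]
        have h3 := congrArg π.toRingHom hp0
        rw [Polynomial.hom_eval₂, map_zero] at h3
        exact h3
      exact isIntegral_trans (π z) hzE
  refine ⟨fun q => ?_⟩
  obtain ⟨r, rfl⟩ := hπ q
  obtain ⟨b, hb, hbr⟩ := htop r.2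
  obtain rfl : b = r := Subtype.ext hbr
  exact hb

/-- Nonzero primes of an affine curve are maximal, with algebraic residue fields. -/
theorem isMaximal_and_isAlgebraic_quotient {K F : Type u} [Field K] [Field F] [Algebra K F] (x : F)
    (halg₀ : ∀ y : F, IsAlgebraic (Algebra.adjoin K ({x} : Set F)) y) (S₁ S₂ : Set F)
    (h₁ : ∀ y ∈ S₁, ∃ a : Algebra.adjoin K ({x} : Set F), a ≠ 0 ∧ y = (a : F)⁻¹)
    (h₂ : ∀ y ∈ S₂, _root_.IsIntegral (Algebra.adjoin K ({x} : Set F)) y)
    (P : Ideal (Algebra.adjoin K (insert x (S₁ ∪ S₂)))) (hP : P.IsPrime) (hne : P ≠ ⊥) :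
    P.IsMaximal ∧ Algebra.IsAlgebraic K (Algebra.adjoin K (insert x (S₁ ∪ S₂)) ⧸ P) := by
  haveI := hP
  haveI hint : Algebra.IsIntegral K (Algebra.adjoin K (insert x (S₁ ∪ S₂)) ⧸ P) :=
    isIntegral_of_curve x halg₀ S₁ S₂ h₁ h₂ (Ideal.Quotient.mkₐ K P) (Ideal.Quotient.mkₐ_surjective K P)
      (by rw [show RingHom.ker (Ideal.Quotient.mkₐ K P) = P from Ideal.mk_ker]; exact hne)
  exact ⟨Ideal.Quotient.maximal_of_isField _
    (isField_of_isIntegral_of_isField' (R := K) (Field.toIsField K)), @Algebra.IsIntegral.isAlgebraic _ _ _ _ _ _ hint⟩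

theorem exists_algebraMap_eq {k : Type u} [Field k] {T : CommRingCat.{u}} (s : Spec T ⟶ Spec (CommRingCat.of k)) :
    ∃ _ : Algebra k T, Spec.map (CommRingCat.ofHom (algebraMap k T)) = s :=
  ⟨(Spec.preimage s).hom.toAlgebra, Spec.map_preimage s⟩

variable {k : Type u} [Field k] {X Y Z : Over (Spec (CommRingCat.of k))}
  [IsProper X.hom] [GeometricallyIntegral X.hom] [IsProper Y.hom] [GeometricallyIntegral Y.hom]
  (x₀ : 𝟙_ (Over (Spec (CommRingCat.of k))) ⟶ X) (y₀ : 𝟙_ (Over (Spec (CommRingCat.of k))) ⟶ Y)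
  (L : ((X ⊗ Y) ⊗ Z).left.Modules)

theorem isIntegral_prod_field {K : Type u} [Field K] (s : Spec (CommRingCat.of K) ⟶ Spec (CommRingCat.of k)) :
    IsIntegral ((X ⊗ Y) ⊗ Over.mk s).left := by
  haveI := geometricallyConnected_of_irreducible Y.hom
  haveI := AbRigid.geometricallyIntegral_tensorObj X Y
  haveI : GeometricallyIntegral (snd (X ⊗ Y) (Over.mk s)).left :=
    MorphismProperty.of_isPullback (isPullback_snd (X ⊗ Y) _) inferInstance
  haveI : Flat (snd (X ⊗ Y) (Over.mk s)).left := AbRigid.flat_snd_left _ _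
  haveI : IsIntegral (Over.mk s).left := inferInstanceAs (IsIntegral (Spec (CommRingCat.of K)))
  haveI : IsLocallyNoetherian (Over.mk s).left := inferInstanceAs (IsLocallyNoetherian (Spec (CommRingCat.of K)))
  haveI : UniversallyOpen (snd (X ⊗ Y) (Over.mk s)).left :=
    MorphismProperty.of_isPullback (isPullback_snd (X ⊗ Y) _) inferInstance
  exact GeometricallyIntegral.isIntegral_of_isLocallyNoetherian (snd (X ⊗ Y) (Over.mk s)).left

include x₀ y₀ in
theorem exists_section_generic (hfin : FinH1.{u}) (hL : PicF.IsInvertible L) {R : CommRingCat.{u}} [IsDomain R]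
    [IsNoetherianRing R] [IsJacobsonRing R] (hR : ¬ IsField R)
    (hdim : ∀ P : Ideal R, P.IsPrime → P ≠ ⊥ → P.IsMaximal)
    (φ : Spec R ⟶ Z.left) {K : Type u} [Field K] (g : R ⟶ CommRingCat.of K) (hg : Function.Injective g.hom)
    (h : ∀ m : Ideal R, m.IsMaximal → At L (Spec.map (CommRingCat.ofHom (Ideal.Quotient.mk m)) ≫ φ)) :
    ∃ σ : Coh.structureModule ((X ⊗ Y) ⊗ Over.mk (Spec.map g ≫ φ ≫ Z.hom)).left ⟶
        (Scheme.Modules.pullback ((X ⊗ Y) ◁ pt (Spec.map g ≫ φ ≫ Z.hom) (Spec.map g ≫ φ) (Category.assoc _ _ _)).left).obj L,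
      (CohB1.genLocus _ σ : Set ↥((X ⊗ Y) ⊗ Over.mk (Spec.map g ≫ φ ≫ Z.hom)).left).Nonempty := by
  classical
  haveI := geometricallyConnected_of_irreducible Y.hom
  let s := φ ≫ Z.hom
  let S := Over.mk s
  obtain ⟨n, c, hV, hcov, ⟨T⟩⟩ := exists_coc L hL s φ rfl
  obtain ⟨hp, hfl⟩ := proper_prod (X := X) (Y := Y) S
  change IsProper (snd (X ⊗ Y) S).left at hp
  change Flat (snd (X ⊗ Y) S).left at hfl
  haveI : (((X ⊗ Y) ⊗ S).left).IsSeparated :=
    ⟨by
      haveI : IsSeparated (terminal.from S.left) := inferInstanceAs (IsSeparated (terminal.from (Spec R)))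
      rw [← Limits.terminal.comp_from (snd (X ⊗ Y) S).left]; infer_instance⟩
  letI : ((X ⊗ Y) ⊗ S).left.Over (Spec (CommRingCat.of R)) := ⟨(snd (X ⊗ Y) S).left⟩
  haveI : IsProper (((X ⊗ Y) ⊗ S).left ↘ Spec (CommRingCat.of R)) := hp
  have hLS := PicLoc.isInvertible_pullback ((X ⊗ Y) ◁ pt s φ rfl).left hL
  haveI := hfin R _ _ hLS
  obtain ⟨m, π, hm, hπ, hπm, hreg⟩ := exists_regular_mem hR
    (Coh.HH ((X ⊗ Y) ⊗ S).left ((Scheme.Modules.pullback ((X ⊗ Y) ◁ pt s φ rfl).left).obj L) 1)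
  haveI := hm
  letI : Field (R ⧸ m) := Ideal.Quotient.field _
  let s₀ := Spec.map (CommRingCat.ofHom (Ideal.Quotient.mk m)) ≫ s
  let a : Over.mk s₀ ⟶ S := Over.homMk (Spec.map (CommRingCat.ofHom (Ideal.Quotient.mk m))) rfl
  have hsq := isPullback_whiskerLeft a (X ⊗ Y)
  have htriv : (c.pull ((X ⊗ Y) ◁ a).left).Trivial :=
    (T.pull_iso_iff hcov _).1 ((isTriv_comp_iff _ _ L).2
      (isTriv_of_eq (whisker_pt_comp _ _ φ rfl).symm (h m hm _ _)))
  obtain ⟨v, hv, hvu⟩ := htriv
  have hne : ∃ i, v i ≠ 0 := by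
    by_contra hall
    push Not at hall
    let w := (secOf (Over.mk s₀) (lift x₀ y₀)).left (IsLocalRing.closedPoint (R ⧸ m))
    obtain ⟨i, hi⟩ := Opens.mem_iSup.1 (hcov.ge (Opens.mem_top (((X ⊗ Y) ◁ a).left w)))
    have hu := (hvu i).map (((X ⊗ Y) ⊗ Over.mk s₀).left.presheaf.germ _ w hi).hom
    rw [hall i, map_zero] at hu
    exact not_isUnit_zero hu
  obtain ⟨x, hx, i, hxi⟩ := exists_section_ne_zero (snd (X ⊗ Y) S).left c hcov hV (fun i j => (hV i).inf (hV j))
    _ T hdim m π hπ hπm hreg hsq v hv hne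
  let b : Over.mk (Spec.map g ≫ φ ≫ Z.hom) ⟶ S := Over.homMk (Spec.map g) rfl
  have hinj := app_injective g (isPullback_whiskerLeft b (X ⊗ Y) : IsPullback ((X ⊗ Y) ◁ b).left _
    (snd (X ⊗ Y) S).left (Spec.map g)) (hV i) hg
  haveI := isIntegral_prod_field (X := X) (Y := Y) (Spec.map g ≫ φ ≫ Z.hom)
  obtain ⟨σ, hσ⟩ := exists_hom_genLocus_nonempty (PicLoc.isInvertible_pullback _ hLS) (c.pull ((X ⊗ Y) ◁ b).left)
    (T.pull _) (by show ⨆ i, _ ⁻¹ᵁ c.V i = ⊤; rw [← Scheme.Hom.preimage_iSup, hcov]; rfl) (hx.pull _) (i := i)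
    (fun h0 => hxi (hinj (h0.trans (map_zero _).symm)))
  let e := (Scheme.Modules.pullbackComp ((X ⊗ Y) ◁ b).left ((X ⊗ Y) ◁ pt s φ rfl).left).app L ≪≫
    (Scheme.Modules.pullbackCongr (whisker_pt_comp g s φ rfl)).app L
  exact ⟨σ ≫ e.hom, by
    show Set.Nonempty (SetLike.coe (CohB1.genLocus _ (σ ≫ e.hom)))
    rw [Amp.genLocus_comp_iso e σ]; exact hσ⟩

include x₀ y₀ in
theorem at_generic_of_closed (hfin : FinH1.{u}) (hL : PicF.IsInvertible L) {R : CommRingCat.{u}} [IsDomain R]
    [IsNoetherianRing R] [IsJacobsonRing R] (hR : ¬ IsField R)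
    (hdim : ∀ P : Ideal R, P.IsPrime → P ≠ ⊥ → P.IsMaximal)
    (φ : Spec R ⟶ Z.left) {K : Type u} [Field K] (g : R ⟶ CommRingCat.of K) (hg : Function.Injective g.hom)
    (h : ∀ m : Ideal R, m.IsMaximal → At L (Spec.map (CommRingCat.ofHom (Ideal.Quotient.mk m)) ≫ φ)) :
    At L (Spec.map g ≫ φ) := by
  haveI := geometricallyConnected_of_irreducible Y.hom
  obtain ⟨D, hD, ⟨e⟩⟩ := M2.exists_inverse hL
  have hDat : ∀ m : Ideal R, m.IsMaximal → At D (Spec.map (CommRingCat.ofHom (Ideal.Quotient.mk m)) ≫ φ) := by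
    intro m hm
    refine at_of_triv D _ _ rfl ?_
    obtain ⟨i⟩ := h m hm _ rfl
    let q := ((X ⊗ Y) ◁ pt _ (Spec.map (CommRingCat.ofHom (Ideal.Quotient.mk m)) ≫ φ) rfl).left
    exact ⟨(M2.tensorLUnit _).symm ≪≫ M2.tensorIso i.symm (Iso.refl _) ≪≫ (M2.pullTensorIso q L D).symm ≪≫
      (Scheme.Modules.pullback q).mapIso e ≪≫ PicLoc.pullbackStructureIso q⟩
  obtain ⟨σ, hσ⟩ := exists_section_generic x₀ y₀ L hfin hL hR hdim φ g hg h
  obtain ⟨τ, hτ⟩ := exists_section_generic x₀ y₀ D hfin hD hR hdim φ g hg hDat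
  refine at_of_triv L _ _ (Category.assoc _ _ _) ?_
  let q := ((X ⊗ Y) ◁ pt (Spec.map g ≫ φ ≫ Z.hom) (Spec.map g ≫ φ) (Category.assoc _ _ _)).left
  haveI := isIntegral_prod_field (X := X) (Y := Y) (Spec.map g ≫ φ ≫ Z.hom)
  obtain ⟨hp, -⟩ := proper_prod (X := X) (Y := Y) (Over.mk (Spec.map g ≫ φ ≫ Z.hom))
  haveI : IsProper (show ((X ⊗ Y) ⊗ Over.mk (Spec.map g ≫ φ ≫ Z.hom)).left ⟶ Spec (CommRingCat.of K) from
      (snd (X ⊗ Y) (Over.mk (Spec.map g ≫ φ ≫ Z.hom))).left) := hp
  have hLq := PicLoc.isInvertible_pullback q hL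
  have hDq := PicLoc.isInvertible_pullback q hD
  have htriv : IsTriv (CohB1.tensorMod ((Scheme.Modules.pullback q).obj L) ((Scheme.Modules.pullback q).obj D)) :=
    ⟨(M2.pullTensorIso q L D).symm ≪≫ (Scheme.Modules.pullback q).mapIso e ≪≫ PicLoc.pullbackStructureIso q⟩
  have hU : SetLike.coe (CohB1.genLocus _ σ) = Set.univ := by
    rcases genLocus_eq_bot_or_top_of_isTriv (show _ ⟶ Spec (CommRingCat.of K) from
      (snd (X ⊗ Y) (Over.mk (Spec.map g ≫ φ ≫ Z.hom))).left) htriv (SecTwist.tmulHom σ τ) with hb | ht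
    · exfalso
      rw [Amp.genLocus_tmulHom hLq hDq] at hb
      obtain ⟨w, hw⟩ := nonempty_preirreducible_inter (CohB1.genLocus _ σ).isOpen (CohB1.genLocus _ τ).isOpen hσ hτ
      exact (hb.le hw : w ∈ (⊥ : Opens _))
    · rw [Amp.genLocus_tmulHom hLq hDq] at ht
      exact Set.eq_univ_of_forall fun w => ((ht.ge (Opens.mem_top w)) : w ∈ _ ⊓ _).1
  exact nonempty_iso_of_genLocus_eq_univ hLq σ hU

set_option maxHeartbeats 1600000 in
include x₀ y₀ in
/-- Triviality at all rational points gives triviality at all points. -/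
theorem at_of_points [IsAlgClosed k] [LocallyOfFiniteType Z.hom] (hfin : FinH1.{u}) (hL : PicF.IsInvertible L)
    (h : ∀ t : 𝟙_ (Over (Spec (CommRingCat.of k))) ⟶ Z, At L t.left) {F : Type u} [Field F]
    (φ : Spec (CommRingCat.of F) ⟶ Z.left) : At L φ := by
  classical
  obtain ⟨V, hV, hzV, -⟩ := exists_isAffineOpen_mem_and_subset (X := Z.left)
    (x := φ (IsLocalRing.closedPoint F)) (U := ⊤) trivial
  let κ := hV.fromSpec ≫ Z.hom
  obtain ⟨aA, hA⟩ := exists_algebraMap_eq κ
  letI : Algebra k Γ(Z.left, V) := aA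
  haveI : Algebra.FiniteType k Γ(Z.left, V) := by
    have : LocallyOfFiniteType κ := inferInstance
    rw [← hA, HasRingHomProperty.Spec_iff (P := @LocallyOfFiniteType)] at this
    exact RingHom.finiteType_algebraMap.1 this
  suffices main : ∀ (n : ℕ) (F : Type u) [Field F] [Algebra k F] (ψ : Γ(Z.left, V) →ₐ[k] F) (t : Finset F),
      t.card ≤ n → Algebra.IsAlgebraic (IntermediateField.adjoin k (t : Set F)) F →
        At L (Spec.map (CommRingCat.ofHom ψ.toRingHom) ≫ hV.fromSpec) by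
    obtain ⟨ψ₀, hψ₀⟩ : ∃ ψ₀ : Γ(Z.left, V) ⟶ CommRingCat.of F, Spec.map ψ₀ ≫ hV.fromSpec = φ := by
      have hr : Set.range φ ⊆ Set.range hV.fromSpec := by
        rintro _ ⟨y, rfl⟩
        rw [hV.range_fromSpec, Subsingleton.elim (α := Spec (CommRingCat.of F)) y (IsLocalRing.closedPoint F)]
        exact hzV
      exact ⟨Spec.preimage (IsOpenImmersion.lift hV.fromSpec φ hr), by
        rw [Spec.map_preimage, IsOpenImmersion.lift_fac]⟩
    letI : Algebra k F := ((ψ₀.hom).comp (algebraMap k Γ(Z.left, V))).toAlgebra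
    let ψ : Γ(Z.left, V) →ₐ[k] F := { ψ₀.hom with commutes' := fun _ => rfl }
    obtain ⟨G, hG⟩ := (Algebra.FiniteType.out : (⊤ : Subalgebra k Γ(Z.left, V)).FG)
    let F' := IntermediateField.adjoin k ((G.image ψ : Finset F) : Set F)
    let ψ' : Γ(Z.left, V) →ₐ[k] F' := ψ.codRestrict F'.toSubalgebra fun a => by
      have ha : a ∈ Algebra.adjoin k (G : Set Γ(Z.left, V)) := hG ▸ Algebra.mem_top
      have h2 : ψ a ∈ (Algebra.adjoin k (G : Set Γ(Z.left, V))).map ψ := ⟨a, ha, rfl⟩
      rw [AlgHom.map_adjoin] at h2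
      exact IntermediateField.algebra_adjoin_le_adjoin k _ (by simpa using h2)
    let t' : Finset F' := G.image ψ'
    have halg : Algebra.IsAlgebraic (IntermediateField.adjoin k (t' : Set F')) F' := by
      have htop : IntermediateField.adjoin k (t' : Set F') = ⊤ := by
        apply IntermediateField.map_injective F'.val
        rw [IntermediateField.adjoin_map, ← AlgHom.fieldRange_eq_map, IntermediateField.fieldRange_val]
        refine congrArg (IntermediateField.adjoin k) ?_
        simp only [t', Finset.coe_image, ← Set.image_comp]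
        rfl
      rw [htop]; infer_instance
    have h1 := main t'.card F' ψ' t' le_rfl halg
    have h2 := At.comp L (CommRingCat.ofHom F'.val.toRingHom) h1
    rw [← hψ₀]
    rwa [← Spec.map_comp_assoc, show CommRingCat.ofHom ψ'.toRingHom ≫ CommRingCat.ofHom F'.val.toRingHom = ψ₀ from
      rfl] at h2
  intro n
  induction n with
  | zero =>
    intro F _ _ ψ t ht halg
    obtain rfl : t = ∅ := Finset.card_eq_zero.1 (Nat.le_zero.1 ht)
    haveI : Algebra.IsAlgebraic k F := by
      rw [Finset.coe_empty, IntermediateField.adjoin_empty] at halg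
      exact Algebra.IsAlgebraic.trans k (⊥ : IntermediateField k F) F
    have hbij : Function.Bijective (algebraMap k F) :=
      IsAlgClosed.algebraMap_bijective_of_isIntegral
    let e := AlgEquiv.ofBijective (Algebra.ofId k F) hbij
    let p : Spec (CommRingCat.of k) ⟶ Z.left :=
      Spec.map (CommRingCat.ofHom (e.symm.toAlgHom.comp ψ).toRingHom) ≫ hV.fromSpec
    have hp : p ≫ Z.hom = 𝟙 _ := by
      rw [Category.assoc, show hV.fromSpec ≫ Z.hom = κ from rfl, ← hA, ← Spec.map_comp,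
        show CommRingCat.ofHom (algebraMap k Γ(Z.left, V)) ≫
          CommRingCat.ofHom (e.symm.toAlgHom.comp ψ).toRingHom = 𝟙 _ from
          CommRingCat.hom_ext (RingHom.ext fun a => (e.symm.toAlgHom.comp ψ).commutes a), Spec.map_id]
    have h2 := At.comp L (CommRingCat.ofHom e.toAlgHom.toRingHom)
      (h (Over.homMk (U := 𝟙_ (Over (Spec (CommRingCat.of k)))) p hp))
    change At L (Spec.map _ ≫ p) at h2
    rwa [← Spec.map_comp_assoc, show CommRingCat.ofHom (e.symm.toAlgHom.comp ψ).toRingHom ≫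
      CommRingCat.ofHom e.toAlgHom.toRingHom = CommRingCat.ofHom ψ.toRingHom from
      CommRingCat.hom_ext (RingHom.ext fun a => e.apply_symm_apply (ψ a))] at h2
  | succ n ih =>
    intro F _ _ ψ t ht halg
    rcases t.eq_empty_or_nonempty with rfl | ⟨x, hxt⟩
    · exact ih F ψ ∅ (by simp) halg
    let t₀ := t.erase x
    have ht₀ : t₀.card ≤ n := by
      have := Finset.card_erase_add_one hxt
      show (t.erase x).card ≤ n
      omega
    let K := IntermediateField.adjoin k (t₀ : Set F)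
    have htK : (IntermediateField.adjoin K {x}).restrictScalars k = IntermediateField.adjoin k (t : Set F) := by
      rw [IntermediateField.adjoin_adjoin_left, ← Finset.coe_singleton, ← Finset.coe_union]
      congr 2
      rw [Finset.union_comm, ← Finset.insert_eq, Finset.insert_erase hxt]
    haveI hKx : Algebra.IsAlgebraic (IntermediateField.adjoin K {x}) F := by
      rw [← htK] at halg
      exact halg
    by_cases hx : IsAlgebraic K x
    · haveI := IntermediateField.isAlgebraic_adjoin_simple hx.isIntegral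
      exact ih F ψ t₀ ht₀ (Algebra.IsAlgebraic.trans K (IntermediateField.adjoin K {x}) F)
    -- a curve through the point
    let A₀ := Algebra.adjoin K {x}
    have halg₀ : ∀ y : F, IsAlgebraic A₀ y := by
      open scoped IntermediateField.algebraAdjoinAdjoin in
      haveI : Algebra.IsAlgebraic A₀ F :=
        Algebra.IsAlgebraic.trans A₀ (IntermediateField.adjoin K ({x} : Set F)) F
      exact fun y => Algebra.IsAlgebraic.isAlgebraic y
    choose d hd hint using fun y => (halg₀ y).exists_integral_multiple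
    obtain ⟨G, hG⟩ := (Algebra.FiniteType.out : (⊤ : Subalgebra k Γ(Z.left, V)).FG)
    let gens : Set F := insert x ((fun a => ((d (ψ a) : F))⁻¹) '' (G : Set Γ(Z.left, V)) ∪
      (fun a => d (ψ a) • ψ a) '' (G : Set Γ(Z.left, V)))
    let R₀ : Subalgebra K F := Algebra.adjoin K gens
    have hgens : gens.Finite := ((G.finite_toSet.image _).union (G.finite_toSet.image _)).insert _
    haveI : Algebra.FiniteType K R₀ := (Subalgebra.fg_iff_finiteType R₀).1 (Subalgebra.fg_def.2 ⟨gens, hgens, rfl⟩)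
    haveI : IsJacobsonRing R₀ := isJacobsonRing_of_finiteType (A := K) (B := R₀)
    haveI : IsNoetherianRing R₀ := Algebra.FiniteType.isNoetherianRing K R₀
    have hxR : x ∈ R₀ := Algebra.subset_adjoin (Set.mem_insert _ _)
    have hA₀R : A₀ ≤ R₀ := Algebra.adjoin_le (Set.singleton_subset_iff.2 hxR)
    have hψR : ∀ a, ψ a ∈ R₀ := by
      have hle : Algebra.adjoin k (G : Set Γ(Z.left, V)) ≤ (R₀.restrictScalars k).comap ψ := by
        refine Algebra.adjoin_le fun a ha => ?_
        show ψ a ∈ R₀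
        have h0 : (d (ψ a) : F) ≠ 0 := fun h0 => hd (ψ a) (Subtype.ext h0)
        rw [show ψ a = (d (ψ a) : F)⁻¹ * (d (ψ a) • ψ a) by
          rw [Subalgebra.smul_def, smul_eq_mul, inv_mul_cancel_left₀ h0]]
        exact mul_mem (Algebra.subset_adjoin (Set.mem_insert_of_mem _ (Or.inl ⟨a, ha, rfl⟩)))
          (Algebra.subset_adjoin (Set.mem_insert_of_mem _ (Or.inr ⟨a, ha, rfl⟩)))
      exact fun a => hle (hG ▸ Algebra.mem_top)
    have hR : ¬ IsField R₀ := fun hf => hx <| by
      letI := hf.toField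
      haveI : Module.Finite K R₀ := finite_of_finite_type_of_isJacobsonRing K R₀
      exact (isAlgebraic_algebraMap_iff (A := F) Subtype.val_injective).2
        (Algebra.IsAlgebraic.isAlgebraic (⟨x, hxR⟩ : R₀))
    have hres : ∀ P : Ideal R₀, P.IsPrime → P ≠ ⊥ → P.IsMaximal ∧ Algebra.IsAlgebraic K (R₀ ⧸ P) :=
      fun P hP hne => isMaximal_and_isAlgebraic_quotient x halg₀
        ((fun a => ((d (ψ a) : F))⁻¹) '' (G : Set Γ(Z.left, V))) ((fun a => d (ψ a) • ψ a) '' (G : Set Γ(Z.left, V)))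
        (by rintro _ ⟨a, _, rfl⟩; exact ⟨d (ψ a), hd _, rfl⟩) (by rintro _ ⟨a, _, rfl⟩; exact hint _) P hP hne
    let φR : Spec (CommRingCat.of R₀) ⟶ Z.left :=
      Spec.map (CommRingCat.ofHom (ψ.codRestrict (R₀.restrictScalars k) hψR).toRingHom) ≫ hV.fromSpec
    have hgen := at_generic_of_closed x₀ y₀ L hfin hL (R := CommRingCat.of R₀) hR (fun P hP hne => (hres P hP hne).1)
      φR (CommRingCat.ofHom R₀.val.toRingHom) Subtype.val_injective fun m hm => ?_
    · rwa [← Spec.map_comp_assoc, show CommRingCat.ofHom (ψ.codRestrict (R₀.restrictScalars k) hψR).toRingHom ≫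
        CommRingCat.ofHom R₀.val.toRingHom = CommRingCat.ofHom ψ.toRingHom from rfl] at hgen
    · haveI : m.IsMaximal := hm
      letI : Field (R₀ ⧸ m) := Ideal.Quotient.field _
      have hm0 : m ≠ ⊥ := fun h0 => hR (Ring.isField_iff_maximal_bot.2 (h0 ▸ hm))
      haveI := (hres m hm.isPrime hm0).2
      let ι₁ : K →ₐ[k] R₀ ⧸ m := (IsScalarTower.toAlgHom k K (R₀ ⧸ m))
      let t₁ : Finset (R₀ ⧸ m) := t₀.attach.image fun y => ι₁ ⟨y.1, IntermediateField.subset_adjoin k _ y.2⟩
      have hrange : IntermediateField.adjoin k (t₁ : Set (R₀ ⧸ m)) = ι₁.fieldRange := by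
        have htop : IntermediateField.adjoin k (Set.range fun y : t₀ => (⟨y.1, IntermediateField.subset_adjoin k _ y.2⟩ : K)) = ⊤ := by
          apply IntermediateField.map_injective K.val
          rw [IntermediateField.adjoin_map, ← AlgHom.fieldRange_eq_map, IntermediateField.fieldRange_val]
          refine congrArg (IntermediateField.adjoin k) ?_
          ext y
          simp
          exact fun hy => IntermediateField.subset_adjoin k _ hy
        rw [AlgHom.fieldRange_eq_map, ← htop, IntermediateField.adjoin_map]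
        refine congrArg (IntermediateField.adjoin k) ?_
        ext y
        simp [t₁]
        exact ⟨fun ⟨a, h, e⟩ => ⟨a, h, IntermediateField.subset_adjoin k _ h, e⟩, fun ⟨a, h, _, e⟩ => ⟨a, h, e⟩⟩
      haveI halg₁ : Algebra.IsAlgebraic (IntermediateField.adjoin k (t₁ : Set (R₀ ⧸ m))) (R₀ ⧸ m) := by
        let f : K →+* IntermediateField.adjoin k (t₁ : Set (R₀ ⧸ m)) :=
          ι₁.toRingHom.codRestrict _ fun y => by rw [hrange]; exact ⟨y, rfl⟩
        letI := f.toAlgebra
        haveI : IsScalarTower K (IntermediateField.adjoin k (t₁ : Set (R₀ ⧸ m))) (R₀ ⧸ m) := .of_algebraMap_eq fun _ => rfl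
        exact Algebra.IsAlgebraic.tower_top (K := K) _
      have hcard : t₁.card ≤ n := Finset.card_image_le.trans (Finset.card_attach.le.trans ht₀)
      have := ih (R₀ ⧸ m) ((Ideal.Quotient.mkₐ k m).comp (ψ.codRestrict (R₀.restrictScalars k) hψR)) t₁ hcard halg₁
      have e : Spec.map (CommRingCat.ofHom (Ideal.Quotient.mk m)) ≫ φR =
          Spec.map (CommRingCat.ofHom ((Ideal.Quotient.mkₐ k m).comp (ψ.codRestrict (R₀.restrictScalars k) hψR)).toRingHom) ≫
            hV.fromSpec := by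
        rw [← Spec.map_comp_assoc]
        rfl
      rw [e]
      exact this

end Groth.Agent.CubeField
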