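import Groth.Agent.Lib.CubeField.SeesawCurve

/-!
# The seesaw theorem on a product
-/

universe u

open CategoryTheory Limits MonoidalCategory CartesianMonoidalCategory AlgebraicGeometry TopologicalSpace Opposite

set_option linter.style.haveILetI false
set_option backward.isDefEq.respectTransparency false

namespace Groth.Agent.CubeField

/-- The seesaw theorem: trivial on all horizontal slices and one vertical slice. -/
theorem isTriv_of_point_slices {k : Type u} [Field k] [IsAlgClosed k] {A T : Over (Spec (CommRingCat.of k))}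
    [IsProper A.hom] [GeometricallyIntegral A.hom] [LocallyOfFiniteType T.hom] [QuasiCompact T.hom]
    [GeometricallyIntegral T.hom] (a₀ : 𝟙_ (Over (Spec (CommRingCat.of k))) ⟶ A) (hfin : FinH1.{u})
    (L : (A ⊗ T).left.Modules) (hL : PicF.IsInvertible L)
    (h : ∀ t : 𝟙_ (Over (Spec (CommRingCat.of k))) ⟶ T,
      IsTriv ((Scheme.Modules.pullback (lift (𝟙 A) (toUnit A ≫ t)).left).obj L))
    (h₀ : IsTriv ((Scheme.Modules.pullback (lift (toUnit T ≫ a₀) (𝟙 T)).left).obj L)) : IsTriv L := by
  haveI : IsProper (𝟙_ (Over (Spec (CommRingCat.of k)))).hom :=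
    inferInstanceAs (IsProper (𝟙 (Spec (CommRingCat.of k))))
  haveI : GeometricallyIntegral (𝟙_ (Over (Spec (CommRingCat.of k)))).hom := by
    show GeometricallyIntegral (𝟙 (Spec (CommRingCat.of k)))
    refine ⟨fun L _ x W p₁ p₂ hW => ?_⟩
    haveI : IsIso p₂ := hW.isIso_snd_of_isIso
    haveI : Nonempty W := ⟨(inv p₂) (IsLocalRing.closedPoint L)⟩
    exact isIntegral_of_isOpenImmersion p₂
  haveI : IsIso (fst A (𝟙_ (Over (Spec (CommRingCat.of k))))) := by rw [← rightUnitor_hom]; infer_instance
  haveI := geometricallyConnected_of_irreducible (𝟙_ (Over (Spec (CommRingCat.of k)))).hom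
  haveI : IsIntegral T.left := GeometricallyIntegral.isIntegral_of_subsingleton T.hom
  let π := fst A (𝟙_ (Over (Spec (CommRingCat.of k)))) ▷ T
  let L' := (Scheme.Modules.pullback π.left).obj L
  have hL' : PicF.IsInvertible L' := PicLoc.isInvertible_pullback _ hL
  let y₀ := 𝟙 (𝟙_ (Over (Spec (CommRingCat.of k))))
  have key : IsTriv L' := by
    refine isTriv_of_all_points a₀ y₀ L' hL' ?_ fun φ => at_of_points a₀ y₀ L' hfin hL' (fun t => ?_) φ
    · rw [isTriv_comp_iff, ← Over.comp_left]
      have e : iY A (𝟙_ (Over (Spec (CommRingCat.of k)))) T a₀ ≫ π =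
          snd (𝟙_ (Over (Spec (CommRingCat.of k)))) T ≫ lift (toUnit T ≫ a₀) (𝟙 T) := by
        refine CartesianMonoidalCategory.hom_ext _ _ ?_ ?_
        · simp only [π, iY, Category.assoc, whiskerRight_fst, whiskerRight_fst_assoc, lift_fst, lift_fst_assoc,
            comp_toUnit_assoc]
        · simp [π, iY]
      rw [e, Over.comp_left, ← isTriv_comp_iff]
      exact h₀.pullback _
    · refine at_of_triv L' _ t.left rfl ?_
      rw [isTriv_comp_iff, ← Over.comp_left]
      let p := pt (Z := T) (t.left ≫ T.hom) t.left rfl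
      have e : ((A ⊗ 𝟙_ (Over (Spec (CommRingCat.of k)))) ◁ p) ≫ π =
          (fst _ _ ≫ fst A _) ≫ lift (𝟙 A) (toUnit A ≫ t) := by
        refine CartesianMonoidalCategory.hom_ext _ _ ?_ ?_
        · simp only [π, Category.assoc, whiskerRight_fst, whiskerLeft_fst_assoc, lift_fst, Category.comp_id]
        · simp only [π, Category.assoc, whiskerRight_snd, whiskerLeft_snd, lift_snd, comp_toUnit_assoc]
          have hp : p = toUnit _ ≫ t := by
            ext1
            show t.left = (toUnit (Over.mk (t.left ≫ T.hom))).left ≫ t.left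
            rw [show (toUnit (Over.mk (t.left ≫ T.hom))).left = 𝟙 _ from Over.w t, Category.id_comp]
          rw [hp, ← Category.assoc, toUnit_unique (snd _ _ ≫ toUnit _) (toUnit _)]
      rw [e, Over.comp_left, ← isTriv_comp_iff]
      exact (h t).pullback _
  have h2 := key.pullback (inv π).left
  rw [isTriv_comp_iff, ← Over.comp_left, IsIso.inv_hom_id] at h2
  obtain ⟨e⟩ := h2
  exact ⟨((Scheme.Modules.pullbackId _).app L).symm ≪≫ e⟩

end Groth.Agent.CubeField
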