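import Groth.Agent.Lib.CubeField.Cube
import Groth.Agent.Lib.CubeField.H1
import Mathlib.RingTheory.Ideal.MinimalPrime.Colon
import Mathlib.RingTheory.Jacobson.Ring
import Mathlib.Algebra.Module.Torsion.Basic

/-!
# Sections spreading from closed fibres over a curve

Over a noetherian domain in which nonzero primes are maximal, a section on one closed fibre, at a
point outside the torsion of `H¹`, gives a nonzero section over the whole base.
-/

universe u

open CategoryTheory Limits AlgebraicGeometry TopologicalSpace Opposite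

set_option linter.style.haveILetI false
set_option backward.isDefEq.respectTransparency false

namespace Groth.Agent.CubeField

open CohFound RigidRel

variable {R : CommRingCat.{u}} {W : Scheme.{u}} (ξ : W ⟶ Spec R)

/-- Classes killed by a scalar which is regular on `H¹` vanish. -/
theorem coboundary_of_smul {n : ℕ} (c : Coc W (Fin n)) (hcov : ⨆ i, c.V i = ⊤) (L : W.Modules) (T : Triv L c)
    (π : R) (hreg : letI : W.Over (Spec (CommRingCat.of R)) := ⟨ξ⟩; ∀ m : Coh.HH W L 1, π • m = 0 → m = 0)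
    (w : ∀ i j, Γ(W, c.V i ⊓ c.V j)) (hw : c.IsTwisted w) (v : ∀ i, Γ(W, c.V i))
    (hv : ∀ i j, c.dd v i j = ringMap ξ (c.V i ⊓ c.V j) π * w i j) :
    ∃ u, ∀ i j, w i j = c.dd u i j := by
  letI : W.Over (Spec (CommRingCat.of R)) := ⟨ξ⟩
  let F := (abF W).obj L
  let toS : (∀ i j, Γ(W, c.V i ⊓ c.V j)) → ∀ i j, F.obj.obj (op (c.V i ⊓ c.V j)) :=
    fun w i j => w i j • M1.mres L inf_le_left (T.e i)
  have hres : ∀ {U U' : W.Opens} (h : U' ≤ U) (r : Γ(W, U)) (z : Γ(L, U)),
      ab F h (show Γ(L, U) from r • z) = rs h r • M1.mres L h z := fun h r z => M1.mres_smul L h r z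
  have htrans : ∀ (i j : Fin n) (U : W.Opens) (hi : U ≤ c.V i) (hj : U ≤ c.V j),
      M1.mres L hj (T.e j) = rs (le_inf hi hj) (c.g i j) • M1.mres L hi (T.e i) := fun i j U hi hj => by
    have h1 := congrArg (M1.mres L (le_inf hi hj)) (T.trans i j)
    rw [M1.mres_mres, M1.mres_smul, M1.mres_mres] at h1
    exact h1
  have htoS : ∀ w, c.IsTwisted w → IsCocycleAb F c.V (toS w) := fun w hw i j k U hi hj hk => by
    simp only [toS, hres, M1.mres_mres]
    rw [htrans i j U hi hj]
    exact smul_cocycle L _ (hw i j k U hi hj hk)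
  obtain ⟨x, hx⟩ := exists_isClass F c.V hcov _ (htoS w hw)
  have h0w : c.IsTwisted fun _ _ => 0 := fun i j k U hi hj hk => by simp
  obtain ⟨x₀, hx₀⟩ := exists_isClass F c.V hcov _ (htoS _ h0w)
  have hr : ∀ a : R, mp (Coh.smulAb L (Coh.toGlobal ξ a)) 1 ⊤ x = hhExt L 1 (a • (hhExt L 1).symm x) := fun a => by
    conv_lhs => rw [← (hhExt L 1).apply_symm_apply x]
    exact (hExt_map (Coh.smulAb L (Coh.toGlobal ξ a)) 1 _).symm
  have h1 : x₀ = mp (Coh.smulAb L (Coh.toGlobal ξ (0 : R))) 1 ⊤ x :=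
    hx₀.eq_mp F c.V hcov hx _ (fun i => (0 : Γ(W, c.V i)) • T.e i) fun i j => by
      simp only [toS, hres]
      rw [htrans i j _ inf_le_left inf_le_right]
      refine smul_boundary L _ ?_
      simp [Coc.dd]
  have h2 : x₀ = mp (Coh.smulAb L (Coh.toGlobal ξ π)) 1 ⊤ x :=
    hx₀.eq_mp F c.V hcov hx _ (fun i => (-v i) • T.e i) fun i j => by
      simp only [toS, hres]
      rw [htrans i j _ inf_le_left inf_le_right]
      refine smul_boundary L _ ?_
      rw [map_neg, map_neg, rs_self]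
      have h3 := hv i j
      rw [Coc.dd] at h3
      show (0 : Γ(W, c.V i ⊓ c.V j)) = ringMap ξ (c.V i ⊓ c.V j) π * w i j + _
      linear_combination h3
  rw [hr] at h1 h2
  have hzero : (hhExt L 1).symm x = 0 := by
    refine hreg _ ((hhExt L 1).injective ?_)
    rw [← h2, h1, zero_smul]
  rw [AddEquiv.map_eq_zero_iff] at hzero
  subst hzero
  obtain ⟨t, ht⟩ := hx.eq_boundary F c.V
  choose u hu using fun i => (T.gen i (c.V i) le_rfl).2 (t i)
  simp only [M1.mres_id] at hu
  refine ⟨u, fun i j => ?_⟩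
  refine (T.gen i (c.V i ⊓ c.V j) inf_le_left).1 ?_
  have h1 : toS w i j = ab F inf_le_left (show Γ(L, c.V i) from u i • T.e i) -
      ab F inf_le_right (show Γ(L, c.V j) from u j • T.e j) := by
    rw [hu i, hu j]; exact (ht i j).symm
  simp only [toS, hres] at h1
  rw [htrans i j _ inf_le_left inf_le_right] at h1
  refine h1.trans ((smul_boundary' L _ _ _ _).trans ?_)
  rw [Coc.dd, rs_self]

/-- A nonzero section on the fibre over a maximal ideal gives a nonzero section over the whole base. -/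
theorem exists_section_ne_zero [Flat ξ] [IsDomain R] [IsNoetherianRing R] {n : ℕ} (c : Coc W (Fin n))
    (hcov : ⨆ i, c.V i = ⊤) (hV : ∀ i, IsAffineOpen (c.V i)) (hI : ∀ i j, IsAffineOpen (c.V i ⊓ c.V j))
    (L : W.Modules) (T : Triv L c) (hdim : ∀ P : Ideal R, P.IsPrime → P ≠ ⊥ → P.IsMaximal)
    (m : Ideal R) [m.IsMaximal] (π : R) (hπ : π ≠ 0) (hπm : π ∈ m)
    (hreg : letI : W.Over (Spec (CommRingCat.of R)) := ⟨ξ⟩; ∀ z : Coh.HH W L 1, π • z = 0 → z = 0)
    {Y : Scheme.{u}} {η : Y ⟶ Spec (CommRingCat.of (R ⧸ m))} {f : Y ⟶ W} (hsq : IsPullback f η ξ (quotBase m))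
    (v : ∀ i, Γ(Y, f ⁻¹ᵁ c.V i)) (hv : (c.pull f).Compat v) (hv0 : ∃ i, v i ≠ 0) :
    ∃ x, c.Compat x ∧ ∃ i, x i ≠ 0 := by
  classical
  let g := CommRingCat.ofHom (Ideal.Quotient.mk m)
  have hmin : m ∈ (Submodule.colon (Ideal.span {π}) {(1 : R)}).minimalPrimes := by
    rw [show Submodule.colon (Ideal.span {π}) {(1 : R)} = Ideal.span {π} from
      Ideal.ext fun r => by rw [Submodule.mem_colon_singleton, smul_eq_mul, mul_one]]
    refine ⟨⟨inferInstance, (Ideal.span_singleton_le_iff_mem m).2 hπm⟩, fun P hP hPm => ?_⟩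
    have hne : P ≠ ⊥ := fun h => hπ (by simpa [h] using hP.2 (Ideal.mem_span_singleton_self π))
    exact ((hdim P hP.1 hne).eq_of_le (Ideal.IsMaximal.ne_top ‹_›) hPm).ge
  obtain ⟨b, hb⟩ := Submodule.exists_eq_colon_of_mem_minimalPrimes hmin
  choose V₁ hV₁ using fun i => app_surjective g hsq (hV i) Ideal.Quotient.mk_surjective (v i)
  have hker : ∀ {U : W.Opens}, IsAffineOpen U → ∀ z : Γ(W, U), f.app U z = 0 →
      ringMap ξ U b * z ∈ (Ideal.span {π}).map (ringMap ξ U).hom := fun {U} hU z hz => by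
    have h := mem_map_ker_of_app_eq_zero g hsq hU z hz
    rw [show RingHom.ker g.hom = m from Ideal.mk_ker] at h
    have hle : m.map (ringMap ξ U).hom ≤ Submodule.colon ((Ideal.span {π}).map (ringMap ξ U).hom)
        {ringMap ξ U b} := Ideal.map_le_iff_le_comap.2 fun r hr => by
      rw [Ideal.mem_comap, Submodule.mem_colon_singleton, smul_eq_mul, ← map_mul]
      rw [hb, Submodule.mem_colon_singleton, smul_eq_mul] at hr
      exact Ideal.mem_map_of_mem _ hr
    have hh := hle h
    rw [Submodule.mem_colon_singleton, smul_eq_mul, mul_comm] at hh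
    exact hh
  let z : ∀ i, Γ(W, c.V i) := fun i => ringMap ξ (c.V i) b * V₁ i
  have hz : ∀ i j, ∃ y : Γ(W, c.V i ⊓ c.V j), c.dd z i j = ringMap ξ (c.V i ⊓ c.V j) π * y := fun i j => by
    have h0 : f.app _ (c.dd V₁ i j) = 0 := by
      rw [Coc.dd, map_sub, map_mul, app_rs, app_rs, hV₁, hV₁, sub_eq_zero]
      exact hv i j
    have h1 := hker (hI i j) _ h0
    rw [map_span_ringMap, Ideal.mem_span_singleton] at h1
    obtain ⟨y, hy⟩ := h1
    refine ⟨y, ?_⟩
    rw [← hy]
    simp only [Coc.dd, z, map_mul, rs_ringMap]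
    ring
  choose w hw using hz
  obtain ⟨u, hu⟩ := coboundary_of_smul ξ c hcov L T π hreg w (Coc.isTwisted_of_dd_eq ξ c z hπ w hw) z hw
  refine ⟨fun i => z i - ringMap ξ _ π * u i, fun i j => ?_, ?_⟩
  · have h1 := hw i j
    rw [hu i j] at h1
    simp only [Coc.dd] at h1
    simp only [map_sub, map_mul, rs_ringMap]
    linear_combination h1
  · by_contra hall
    push Not at hall
    obtain ⟨i, hi⟩ := hv0
    refine hi ((hV₁ i).symm.trans ?_)
    have h1 : ringMap ξ (c.V i) b * V₁ i ∈ (Ideal.span {π}).map (ringMap ξ (c.V i)).hom := by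
      rw [show ringMap ξ (c.V i) b * V₁ i = ringMap ξ _ π * u i from sub_eq_zero.1 (hall i),
        map_span_ringMap, Ideal.mem_span_singleton]
      exact dvd_mul_right _ _
    have h2 := mem_colon_map_ringMap ξ (hV i) (Ideal.span {π}) b (V₁ i) h1
    rw [← hb] at h2
    refine (app_eq_zero_iff g hsq (hV i) _).2 ?_
    rwa [show RingHom.ker g.hom = m from Ideal.mk_ker]

/-- Off finitely many points a scalar is regular on a finite module. -/
theorem exists_regular_mem {A : Type u} [CommRing A] [IsDomain A] [IsNoetherianRing A] [IsJacobsonRing A]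
    (hA : ¬ IsField A) (M : Type u) [AddCommGroup M] [Module A M] [Module.Finite A M] :
    ∃ (m : Ideal A) (π : A), m.IsMaximal ∧ π ≠ 0 ∧ π ∈ m ∧ ∀ z : M, π • z = 0 → z = 0 := by
  classical
  haveI : IsNoetherian A M := isNoetherian_of_isNoetherianRing_of_finite A M
  obtain ⟨G, hG⟩ := IsNoetherian.noetherian (Submodule.torsion A M)
  choose a ha using fun z : G => (Submodule.mem_torsion_iff z.1).1 (hG ▸ Submodule.subset_span z.2)
  let g : A := ∏ z : G, (a z : A)
  have hg : g ≠ 0 := Finset.prod_ne_zero_iff.2 fun z _ => nonZeroDivisors.ne_zero (a z).2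
  have hgT : ∀ x ∈ Submodule.torsion A M, g • x = 0 := by
    intro x hx
    rw [← hG] at hx
    induction hx using Submodule.span_induction with
    | mem z hz =>
      have := ha ⟨z, hz⟩
      show (∏ z : G, (a z : A)) • z = 0
      rw [← Finset.mul_prod_erase _ _ (Finset.mem_univ ⟨z, hz⟩), mul_comm, mul_smul]
      rw [show (a ⟨z, hz⟩ : A) • z = 0 from this, smul_zero]
    | zero => rw [smul_zero]
    | add x y _ _ hx hy => rw [smul_add, hx, hy, add_zero]
    | smul r x _ hx => rw [smul_comm, hx, smul_zero]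
  have hj : (⊥ : Ideal A).jacobson = ⊥ := IsJacobsonRing.out ‹_› (Ideal.IsPrime.isRadical Ideal.isPrime_bot)
  obtain ⟨m, hm, hgm⟩ : ∃ m : Ideal A, m.IsMaximal ∧ g ∉ m := by
    by_contra hcon
    push Not at hcon
    refine hg ((Submodule.mem_bot A).1 (hj.le ?_))
    rw [Ideal.jacobson, Submodule.mem_sInf]
    exact fun m hm => hcon m hm.2
  obtain ⟨t, p, hp, htp⟩ := hm.exists_inv hgm
  obtain ⟨π₀, hπ₀m, hπ₀⟩ : ∃ π ∈ m, π ≠ (0 : A) := by
    by_contra hcon
    push Not at hcon
    exact hA (Ring.isField_iff_maximal_bot.2 ((show m = ⊥ from (Submodule.eq_bot_iff _).2 hcon) ▸ hm))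
  refine ⟨m, if p = 0 then π₀ else p, hm, ?_, ?_, fun z hz => ?_⟩
  · split_ifs with h <;> assumption
  · split_ifs with h <;> assumption
  have hne : (if p = 0 then π₀ else p) ≠ 0 := by split_ifs with h <;> assumption
  have hzT : g • z = 0 := hgT z ((Submodule.mem_torsion_iff z).2
    ⟨⟨_, mem_nonZeroDivisors_of_ne_zero hne⟩, hz⟩)
  calc z = (t * g + p) • z := by rw [htp, one_smul]
    _ = 0 := by
      rw [add_smul, mul_smul, hzT, smul_zero, zero_add]
      split_ifs at hz with h
      · rw [h, zero_smul]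
      · exact hz

end Groth.Agent.CubeField
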