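import Groth.Agent.Lib.CubeField.Field
import Mathlib.RingTheory.LocalRing.ResidueField.Ideal

/-!
# Sections vanishing along a point section

If on every fibre a section of the line bundle which vanishes along the base point is zero, the
same holds modulo every ideal of the (noetherian) base.
-/

universe u

open CategoryTheory Limits AlgebraicGeometry TopologicalSpace Opposite TensorProduct

set_option linter.style.haveILetI false
set_option backward.isDefEq.respectTransparency false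

namespace Groth.Agent.CubeField

open RigidRel

theorem mem_colon_map_of_mul_mem {A C : Type u} [CommRing A] [CommRing C] [Algebra A C] [Module.Flat A C]
    (I : Ideal A) (a : A) (c : C) (h : algebraMap A C a * c ∈ I.map (algebraMap A C)) :
    c ∈ (Submodule.colon I {a}).map (algebraMap A C) := by
  let J : Ideal A := Submodule.colon I {a}
  have hJ : J ≤ Submodule.comap (LinearMap.mulLeft A a) I := fun b hb => by
    have h' : b • a ∈ I := Submodule.mem_colon_singleton.1 hb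
    rw [smul_eq_mul, mul_comm] at h'
    exact h'
  let φ : (A ⧸ J) →ₗ[A] (A ⧸ I) := Submodule.mapQ J I (LinearMap.mulLeft A a) hJ
  have hφ : Function.Injective φ := by
    rw [injective_iff_map_eq_zero]
    intro z hz
    obtain ⟨b, rfl⟩ := Submodule.Quotient.mk_surjective J z
    rw [Submodule.mapQ_apply, Submodule.Quotient.mk_eq_zero] at hz
    rw [Submodule.Quotient.mk_eq_zero]
    refine Submodule.mem_colon_singleton.2 ?_
    rw [smul_eq_mul, mul_comm]
    exact hz
  have hinj := Module.Flat.rTensor_preserves_injective_linearMap (M := C) φ hφ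
  have e0 : φ (Ideal.Quotient.mk J 1) = Ideal.Quotient.mk I (a * 1) := rfl
  have h1 : (Ideal.Quotient.mk J 1) ⊗ₜ[A] c = 0 := hinj (by
    rw [LinearMap.rTensor_tmul, map_zero, e0, mul_one]
    apply (TensorProduct.quotTensorEquivQuotSMul C I).injective
    rw [TensorProduct.quotTensorEquivQuotSMul_mk_tmul, map_zero, Submodule.Quotient.mk_eq_zero,
      Ideal.smul_top_eq_map, Submodule.restrictScalars_mem, Algebra.smul_def]
    exact h)
  have h2 := congrArg (TensorProduct.quotTensorEquivQuotSMul C J) h1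
  rw [map_zero, TensorProduct.quotTensorEquivQuotSMul_mk_tmul, one_smul, Submodule.Quotient.mk_eq_zero,
    Ideal.smul_top_eq_map] at h2
  exact h2

variable {A : CommRingCat.{u}} {W : Scheme.{u}} (ξ : W ⟶ Spec A) {ι : Type}

theorem mem_colon_map_ringMap [Flat ξ] {V : W.Opens} (hV : IsAffineOpen V) (I : Ideal A) (a : A)
    (c : Γ(W, V)) (h : ringMap ξ V a * c ∈ I.map (ringMap ξ V).hom) :
    c ∈ (Submodule.colon I {a}).map (ringMap ξ V).hom := by
  letI := (ringMap ξ V).hom.toAlgebra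
  haveI : Module.Flat A Γ(W, V) := flat_ringMap ξ hV
  exact mem_colon_map_of_mul_mem I a c h

/-- Sections modulo `I` which vanish along `σ` modulo `I` are zero modulo `I`. -/
def VanishMod (c : Coc W ι) (σ : Spec A ⟶ W) (I : Ideal A) : Prop :=
  ∀ x : ∀ i, Γ(W, c.V i),
    (∀ i j, rs inf_le_left (x i) - c.g i j * rs inf_le_right (x j) ∈ I.map (ringMap ξ (c.V i ⊓ c.V j)).hom) →
    (∀ i, σ.app (c.V i) (x i) ∈ I.map (ringMap (𝟙 (Spec A)) (σ ⁻¹ᵁ c.V i)).hom) →
    ∀ i, x i ∈ I.map (ringMap ξ (c.V i)).hom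

theorem app_sigma_ringMap (σ : Spec A ⟶ W) (hσ : σ ≫ ξ = 𝟙 _) (V : W.Opens) (a : A) :
    σ.app V (ringMap ξ V a) = ringMap (𝟙 (Spec A)) (σ ⁻¹ᵁ V) a :=
  app_ringMap (𝟙 A) (ξ := ξ) (η := 𝟙 (Spec A)) ⟨by rw [hσ, Spec.map_id, Category.id_comp]⟩ V a

theorem vanishMod_step [Flat ξ] [IsNoetherianRing A] (c : Coc W ι) (σ : Spec A ⟶ W) (hσ : σ ≫ ξ = 𝟙 _)
    (hV : ∀ i, IsAffineOpen (c.V i)) (hI : ∀ i j, IsAffineOpen (c.V i ⊓ c.V j))
    (hσV : ∀ i, IsAffineOpen (σ ⁻¹ᵁ c.V i))
    (hprime : ∀ p : Ideal A, p.IsPrime → VanishMod ξ c σ p) (I : Ideal A) : VanishMod ξ c σ I := by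
  refine IsNoetherian.induction (R := A) (M := A) (P := fun I : Ideal A => VanishMod ξ c σ I) (fun (J : Ideal A) IH => ?_) I
  clear I
  rename' J => I
  by_cases hp : I.IsPrime
  · exact hprime I hp
  rcases Ideal.not_isPrime_iff.1 hp with rfl | ⟨a, ha, b, hb, hab⟩
  · intro x _ _ i
    rw [Ideal.map_top]
    exact Submodule.mem_top
  intro x hx hx0 i
  have hlt1 : I < I ⊔ Ideal.span {a} := lt_of_le_of_ne le_sup_left fun h =>
    ha (h ▸ le_sup_right (a := I) (Ideal.mem_span_singleton_self a))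
  have hlt2 : I < Submodule.colon I {a} := lt_of_le_of_ne (fun r hr => Submodule.mem_colon_singleton.2
    (by rw [smul_eq_mul]; exact I.mul_mem_right a hr)) fun h =>
    hb (h ▸ Submodule.mem_colon_singleton.2 (by rw [smul_eq_mul, mul_comm]; exact hab))
  have hJ := IH _ hlt1 x (fun i j => Ideal.map_mono le_sup_left (hx i j))
    (fun i => Ideal.map_mono le_sup_left (hx0 i))
  have hdec : ∀ i, ∃ y : Γ(W, c.V i), x i - ringMap ξ (c.V i) a * y ∈ I.map (ringMap ξ (c.V i)).hom := fun i => by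
    have h := hJ i
    rw [Ideal.map_sup, Ideal.map_span, Set.image_singleton, Submodule.mem_sup] at h
    obtain ⟨p, hp', q, hq, hpq⟩ := h
    obtain ⟨y, rfl⟩ := Ideal.mem_span_singleton'.1 hq
    exact ⟨y, by rw [← hpq, mul_comm y]; simpa using hp'⟩
  choose y hy using hdec
  have hres : ∀ {U T : W.Opens} (h : T ≤ U) (z : Γ(W, U)), z ∈ I.map (ringMap ξ U).hom →
      rs h z ∈ I.map (ringMap ξ T).hom := fun {U T} h z hz => by
    have := Ideal.mem_map_of_mem (rs h) hz
    rwa [Ideal.map_map, ← CommRingCat.hom_comp, ringMap_res ξ h] at this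
  have hy' := IH _ hlt2 y (fun i j => by
    refine mem_colon_map_ringMap ξ (hI i j) I a _ ?_
    have h1 := hres (inf_le_left : c.V i ⊓ c.V j ≤ c.V i) _ (hy i)
    have h2 := hres (inf_le_right : c.V i ⊓ c.V j ≤ c.V j) _ (hy j)
    rw [map_sub, map_mul, rs_ringMap] at h1 h2
    convert Ideal.add_mem _ (Ideal.sub_mem _ (hx i j) h1) (Ideal.mul_mem_left _ (c.g i j) h2) using 1
    ring) (fun i => by
    refine mem_colon_map_ringMap (𝟙 (Spec A)) (hσV i) I a _ ?_
    have h1 := Ideal.mem_map_of_mem (σ.app (c.V i)).hom (hy i)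
    have hle : (I.map (ringMap ξ (c.V i)).hom).map (σ.app (c.V i)).hom ≤
        I.map (ringMap (𝟙 (Spec A)) (σ ⁻¹ᵁ c.V i)).hom := by
      rw [Ideal.map_map, Ideal.map_le_iff_le_comap]
      intro r hr
      show σ.app (c.V i) (ringMap ξ (c.V i) r) ∈ I.map (ringMap (𝟙 (Spec A)) (σ ⁻¹ᵁ c.V i)).hom
      rw [app_sigma_ringMap ξ σ hσ]
      exact Ideal.mem_map_of_mem _ hr
    have h2 := hle h1
    rw [map_sub, map_mul] at h2
    erw [app_sigma_ringMap ξ σ hσ] at h2
    convert (I.map (ringMap (𝟙 (Spec A)) (σ ⁻¹ᵁ c.V i)).hom).sub_mem (hx0 i) h2 using 1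
    exact (sub_sub_cancel _ _).symm) i
  have hmul : ringMap ξ (c.V i) a * y i ∈ I.map (ringMap ξ (c.V i)).hom := by
    have hle : Ideal.span {a} * Submodule.colon I {a} ≤ I := Ideal.span_singleton_mul_le_iff.2 fun r hr => by
      have := Submodule.mem_colon_singleton.1 hr
      rwa [smul_eq_mul, mul_comm] at this
    refine Ideal.map_mono hle ?_
    rw [Ideal.map_mul]
    exact Ideal.mul_mem_mul (Ideal.mem_map_of_mem _ (Ideal.mem_span_singleton_self a)) hy'
  simpa using Ideal.add_mem _ (hy i) hmul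

/-- Vanishing modulo a prime follows from vanishing on the fibre. -/
theorem vanishMod_prime [Flat ξ] (c : Coc W ι) (σ : Spec A ⟶ W) (hσ : σ ≫ ξ = 𝟙 _)
    (hV : ∀ i, IsAffineOpen (c.V i)) (hcov : ⨆ i, c.V i = ⊤) (p : Ideal A) [p.IsPrime] {Y : Scheme.{u}}
    {η : Y ⟶ Spec (CommRingCat.of p.ResidueField)} {f : Y ⟶ W}
    (hsq : IsPullback f η ξ (Spec.map (CommRingCat.ofHom (algebraMap A p.ResidueField))))
    (hY : Function.Surjective (ringMap η ⊤).hom) (h : (c.pull f).Trivial) : VanishMod ξ c σ p := by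
  intro x hx hx0 i
  let g := CommRingCat.ofHom (algebraMap A p.ResidueField)
  have hker : RingHom.ker g.hom = p := Ideal.ker_algebraMap_residueField p
  obtain ⟨w, hw, hwu⟩ := h.inv
  change ∀ i, Γ(Y, f ⁻¹ᵁ c.V i) at w
  have hzero : ∀ {U : W.Opens} (z : Γ(W, U)), z ∈ p.map (ringMap ξ U).hom → f.app U z = 0 := fun {U} z hz => by
    suffices hle : p.map (ringMap ξ U).hom ≤ RingHom.ker (f.app U).hom from hle hz
    rw [Ideal.map_le_iff_le_comap]
    intro r hr
    show f.app U (ringMap ξ U r) = 0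
    rw [app_ringMap g hsq.toCommSq, show g r = 0 from hker.ge hr, map_zero]
  have hxc : (c.pull f).Compat fun i => f.app (c.V i) (x i) := fun i j => by
    have h1 := hzero _ (hx i j)
    rw [map_sub, map_mul, app_rs, app_rs, sub_eq_zero] at h1
    exact h1
  obtain ⟨F, hF⟩ := (c.pull f).exists_glue_mul (by
    show ⨆ i, f ⁻¹ᵁ c.V i = ⊤
    rw [← Scheme.Hom.preimage_iSup, hcov]; rfl) hxc hw
  obtain ⟨α, rfl⟩ := hY F
  rcases eq_or_ne α 0 with rfl | hα
  · refine hker ▸ mem_map_ker_of_app_eq_zero g hsq (hV i) (x i) ?_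
    have h1 := hF i
    rw [map_zero, map_zero] at h1
    exact ((hwu i).mul_left_eq_zero).1 h1.symm
  exfalso
  let σY : Spec (CommRingCat.of p.ResidueField) ⟶ Y :=
    hsq.lift (Spec.map g ≫ σ) (𝟙 _) (by rw [Category.assoc, hσ, Category.id_comp]; exact Category.comp_id _)
  let y := σY (IsLocalRing.closedPoint p.ResidueField)
  obtain ⟨i₀, hi₀⟩ := Opens.mem_iSup.1 (hcov.ge (Opens.mem_top (f y)))
  let U := σY ⁻¹ᵁ (f ⁻¹ᵁ c.V i₀)
  have hu0 : IsUnit (f.app (c.V i₀) (x i₀) * w i₀) :=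
    (congrArg IsUnit (hF i₀)).mp (((isUnit_iff_ne_zero.2 hα).map (ringMap η ⊤).hom).map _)
  have hu := hu0.map (σY.app (f ⁻¹ᵁ c.V i₀)).hom
  rw [map_mul] at hu
  have h0 : σY.app (f ⁻¹ᵁ c.V i₀) (f.app (c.V i₀) (x i₀)) = 0 := by
    have hc' : CommSq (Spec.map g) (𝟙 (Spec (CommRingCat.of p.ResidueField))) (𝟙 (Spec A)) (Spec.map g) :=
      ⟨(Category.comp_id _).trans (Category.id_comp _).symm⟩
    have h2 : ∀ z, z ∈ p.map (ringMap (𝟙 (Spec A)) (σ ⁻¹ᵁ c.V i₀)).hom →
        (Spec.map g).app (σ ⁻¹ᵁ c.V i₀) z = 0 := by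
      intro z hz
      suffices hle : p.map (ringMap (𝟙 (Spec A)) (σ ⁻¹ᵁ c.V i₀)).hom ≤
          RingHom.ker ((Spec.map g).app (σ ⁻¹ᵁ c.V i₀)).hom from hle hz
      rw [Ideal.map_le_iff_le_comap]
      intro r hr
      show (Spec.map g).app (σ ⁻¹ᵁ c.V i₀) (ringMap (𝟙 (Spec A)) (σ ⁻¹ᵁ c.V i₀) r) = 0
      erw [app_ringMap g hc', show g r = 0 from hker.ge hr, map_zero]
    have h3 := h2 _ (hx0 i₀)
    show (σY ≫ f).app (c.V i₀) (x i₀) = 0
    rw [Scheme.Hom.congr_app (hsq.lift_fst _ _ _) (c.V i₀)]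
    rw [ConcreteCategory.comp_apply, Scheme.Hom.comp_app, ConcreteCategory.comp_apply]
    exact (congrArg _ h3).trans (map_zero _)
  rw [h0, zero_mul, isUnit_zero_iff] at hu
  haveI : Nonempty U := ⟨⟨IsLocalRing.closedPoint p.ResidueField, hi₀⟩⟩
  exact zero_ne_one hu

end Groth.Agent.CubeField
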